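import Cfsg.Agent.Omega.KFacts
import Cfsg.Agent.Omega.Lie.CenTwo
import Cfsg.Agent.Omega.Lie.CenAlt
import Cfsg.Agent.S0252
import Cfsg.Agent.S0253

/-!
# K-facts of project OMEGA, `q ≥ 4`: the rows of `(ZS)` (NODE LIE, the centre trick)

Owner: helper844 (second to helper333).  `RowsZS` has one field per family of known simple groups which are not of Lie
type in characteristic 2; the conclusion of each row is `NoCenMove K` (helper484): an automorphism of odd order
normalising a Sylow 2-subgroup `S` fixes every element of `Ω₁ Z(S)`.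

`RowsZS.main` is the consumer's form: a known simple group, not of prime order, is of Lie type in characteristic 2, or
has `NoCenMove`, or is one of `L₂(r)`, `r ≡ 3, 5 mod 8`, `r ≥ 11`, `J₁`, `²G₂(r)` (Sylow 2-subgroup elementary abelian).
`RowsZS.cover` is the same for finite groups `L` with odd centre and `L/Z(L)` known simple (components).
-/

set_option autoImplicit false

namespace Cfsg.Agent.Omega.KFacts

open Subgroup Cfsg Cfsg.Agent.Omega.TwoF Cfsg.Agent.Omega.Lie.CenTwo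

universe u

/-- `L₂(r)`, `r ≡ 3, 5 mod 8`, `r ≥ 11`: the groups `L₂(r)`, `r` odd, with Sylow 2-subgroup of order 4, other than
`L₂(5) ≅ L₂(4)`. -/
def IsLTwoFour (K : Type u) [Group K] : Prop :=
  ∃ (F : Type) (_ : Field F) (_ : Fintype F), (Fintype.card F % 8 = 3 ∨ Fintype.card F % 8 = 5) ∧
    11 ≤ Fintype.card F ∧ Nonempty (K ≃* Matrix.ProjectiveSpecialLinearGroup (Fin 2) F)

/-- A row of `(ZS)`. -/
def ZSRow (P : ∀ (K : Type u) [Group K], Prop) : Prop := ∀ (K : Type u) [Group K], P K → NoCenMove K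

/-- A row of `(ZS)`, the group being finite. -/
def ZSRowF (P : ∀ (K : Type u) [Group K], Prop) : Prop := ∀ (K : Type u) [Group K] [Finite K], P K → NoCenMove K

/-- **The rows of `(ZS)`**, `q ≥ 4`. -/
structure RowsZS : Prop where
  -- Lie type in odd characteristic
  psl : ZSRow.{u} fun K _ => OddChar @IsPSLChar K ∧ ¬ IsLieTypeChar 2 K ∧ ¬ IsLTwoFour K
  psp : ZSRow.{u} fun K _ => OddChar @IsPSpChar K ∧ ¬ IsLieTypeChar 2 K
  psu : ZSRow.{u} fun K _ => OddChar @IsPSUChar K ∧ ¬ IsLieTypeChar 2 K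
  omOdd : ZSRow.{u} fun K _ => OddChar @IsPOmegaOddChar K
  omPlus : ZSRow.{u} fun K _ => OddChar @IsPOmegaPlusChar K
  omMinus : ZSRow.{u} fun K _ => OddChar @IsPOmegaMinusChar K
  chev : ZSRow.{u} fun K _ => OddChar @IsExceptionalChevChar K ∧ ¬ IsLieTypeChar 2 K
  twisted : ZSRow.{u} fun K _ => OddChar @IsTwistedE6D4Char K
  tits : ZSRowF.{u} @Lie.IsoTits
  -- sporadic groups, without `J₁`
  m11 : ZSRowF.{u} @Spor.IsoM11
  m12 : ZSRowF.{u} @Spor.IsoM12
  m22 : ZSRowF.{u} @Spor.IsoM22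
  m23 : ZSRowF.{u} @Spor.IsoM23
  m24 : ZSRowF.{u} @Spor.IsoM24
  j2 : ZSRowF.{u} @Spor.IsoJ2
  j3 : ZSRowF.{u} @Spor.IsoJ3
  j4 : ZSRowF.{u} @Spor.IsoJ4
  co1 : ZSRowF.{u} @Spor.IsoCo1
  co2 : ZSRowF.{u} @Spor.IsoCo2
  co3 : ZSRowF.{u} @Spor.IsoCo3
  mcl : ZSRowF.{u} @Spor.IsoMcL
  hs : ZSRowF.{u} @Spor.IsoHS
  suz : ZSRowF.{u} @Spor.IsoSuz
  he : ZSRowF.{u} @Spor.IsoHe
  ru : ZSRowF.{u} @Spor.IsoRu
  on : ZSRowF.{u} @Spor.IsoON
  ly : ZSRowF.{u} @Spor.IsoLy
  fi22 : ZSRowF.{u} @Spor.IsoFi22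
  fi23 : ZSRowF.{u} @Spor.IsoFi23
  fi24 : ZSRowF.{u} @Spor.IsoFi24'
  hn : ZSRowF.{u} @Spor.IsoHN
  th : ZSRowF.{u} @Spor.IsoTh
  b : ZSRowF.{u} @Spor.IsoB
  m : ZSRowF.{u} @Spor.IsoM

/-- The groups with elementary abelian Sylow 2-subgroups which are left over by `(ZS)`. -/
def OutZS (K : Type u) [Group K] : Prop := IsLTwoFour K ∨ Spor.IsoJ1 K ∨ Lie.IsoRee K

/-! ### Alternating groups -/

/-- the row `A_n`, `n ≥ 6` (helper138) -/
theorem zs_alt {n : ℕ} (hn : 6 ≤ n) : NoCenMove (alternatingGroup (Fin n)) :=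
  fun S τ _ hS u hu hc huu => Cfsg.Agent.Omega.Lie.CenAlt.noCenMove hn S τ hS u hu hc huu

theorem charTwo_of_four {K : Type u} [Group K]
    (h : ∀ (F : Type) [Field F] [Fintype F], Fintype.card F = 4 →
      Nonempty (K ≃* Matrix.ProjectiveSpecialLinearGroup (Fin 2) F)) : IsLieTypeChar 2 K := by
  classical
  have : Fact (Nat.Prime 2) := ⟨Nat.prime_two⟩
  have hc : Nat.card (GaloisField 2 2) = 2 ^ 2 := GaloisField.card 2 2 (by norm_num)
  have : Finite (GaloisField 2 2) := Nat.finite_of_card_ne_zero (by rw [hc]; norm_num)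
  let _ : Fintype (GaloisField 2 2) := Fintype.ofFinite _
  have h4 : Fintype.card (GaloisField 2 2) = 4 := by
    rw [← Nat.card_eq_fintype_card, hc]
    norm_num
  exact Or.inl ⟨GaloisField 2 2, inferInstance, inferInstance, inferInstance, 2, le_rfl, fun _ => h4.ge, h _ h4⟩

theorem charTwo_alt_five {K : Type u} [Group K] (e : K ≃* alternatingGroup (Fin 5)) : IsLieTypeChar 2 K := by
  refine charTwo_of_four fun F _ _ hF => ?_
  obtain ⟨e'⟩ := Cfsg.Agent.S0252.result hF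
  exact ⟨e.trans e'.symm⟩

/-- `L₂(r)`, `r ≡ 3, 5 mod 8`: either `r ≥ 11` or `L₂(5) ≅ L₂(4)`. -/
theorem of_lTwo {K : Type u} [Group K] {F : Type} [Field F] [Fintype F] (h4 : 4 ≤ Fintype.card F)
    (h8 : Fintype.card F % 8 = 3 ∨ Fintype.card F % 8 = 5)
    (e : K ≃* Matrix.ProjectiveSpecialLinearGroup (Fin 2) F) : IsLieTypeChar 2 K ∨ IsLTwoFour K := by
  by_cases h11 : 11 ≤ Fintype.card F
  · exact Or.inr ⟨F, _, _, h8, h11, ⟨e⟩⟩
  · left
    have h5 : Fintype.card F = 5 := by omega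
    obtain ⟨e'⟩ := Cfsg.Agent.S0253.result h5
    exact charTwo_alt_five (e.trans e')

/-! ### Collection -/

section

variable {K : Type u} [Group K]

/-- **(ZS)**, collected: a known simple group, not of prime order, is of Lie type in characteristic 2, or has
`NoCenMove`, or is `L₂(r)` (`r ≡ 3, 5 mod 8`, `r ≥ 11`), `J₁` or `²G₂(r)`. -/
theorem RowsZS.main [Finite K] (R : RowsZS.{u}) (h : IsKnownSimple' K) (hc : ¬ IsPrimeCyclic K) :
    IsLieTypeChar 2 K ∨ NoCenMove K ∨ OutZS K := by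
  by_cases h2 : IsLieTypeChar 2 K
  · exact Or.inl h2
  refine Or.inr ?_
  have hn := fun (P : Prop) (hP : IsLieTypeChar 2 K ∨ P) => hP.resolve_left h2
  rcases h with h | ⟨n, h5, ⟨e⟩⟩ | h | h | h | h | h | h | h | h
  · exact absurd h hc
  · rcases Nat.lt_or_ge n 6 with h6 | h6
    · obtain rfl : n = 5 := by omega
      exact absurd (charTwo_alt_five e) h2
    · have : Finite K := Finite.of_equiv _ e.symm.toEquiv
      exact Or.inl ((zs_alt h6).map e.symm)
  · by_cases h3 : IsLTwoFour K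
    · exact Or.inr (Or.inl h3)
    · exact Or.inl (R.psl K ⟨hn _ (of_psl h), h2, h3⟩)
  · exact Or.inl (R.psp K ⟨hn _ (of_psp h), h2⟩)
  · exact Or.inl (R.psu K ⟨hn _ (of_psu h), h2⟩)
  · exact Or.inl (R.omOdd K (hn _ (of_omOdd h)))
  · exact Or.inl (R.omPlus K (hn _ (of_omPlus h)))
  · exact Or.inl (R.omMinus K (hn _ (of_omMinus h)))
  · unfold IsExceptionalLieType at h
    by_cases h3 : Lie.IsoChevG2 K ∨ Lie.IsoF4 K ∨ Lie.IsoChevE6 K ∨ Lie.IsoE7 K ∨ Lie.IsoE8 K
    · exact Or.inl (R.chev K ⟨hn _ (of_chev h3), h2⟩)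
    by_cases h4 : Lie.Iso2E6 K ∨ Lie.Iso3D4 K
    · exact Or.inl (R.twisted K (hn _ (of_twisted h4)))
    by_cases h5 : Lie.IsoSuzuki K
    · exact absurd (Or.inr (Or.inr (Or.inr (Or.inr (Or.inr (Or.inr (Or.inr (Or.inr (Or.inl ⟨rfl, h5⟩)))))))))  h2
    by_cases h6 : Lie.Iso2F4 K
    · exact absurd (Or.inr (Or.inr (Or.inr (Or.inr (Or.inr (Or.inr (Or.inr (Or.inr (Or.inr
        (Or.inl ⟨rfl, h6⟩)))))))))) h2
    by_cases h7 : Lie.IsoRee K
    · exact Or.inr (Or.inr (Or.inr h7))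
    by_cases h8 : Lie.IsoTits K
    · exact Or.inl (R.tits K h8)
    exfalso
    tauto
  · unfold IsSporadicGroup at h
    rcases h with h | h | h | h | h | h | h | h | h | h | h | h | h | h | h | h | h | h | h | h | h | h | h | h | h | h
    · exact Or.inl (R.m11 K h)
    · exact Or.inl (R.m12 K h)
    · exact Or.inl (R.m22 K h)
    · exact Or.inl (R.m23 K h)
    · exact Or.inl (R.m24 K h)
    · exact Or.inr (Or.inr (Or.inl h))
    · exact Or.inl (R.j2 K h)
    · exact Or.inl (R.j3 K h)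
    · exact Or.inl (R.j4 K h)
    · exact Or.inl (R.co1 K h)
    · exact Or.inl (R.co2 K h)
    · exact Or.inl (R.co3 K h)
    · exact Or.inl (R.mcl K h)
    · exact Or.inl (R.hs K h)
    · exact Or.inl (R.suz K h)
    · exact Or.inl (R.he K h)
    · exact Or.inl (R.ru K h)
    · exact Or.inl (R.on K h)
    · exact Or.inl (R.ly K h)
    · exact Or.inl (R.fi22 K h)
    · exact Or.inl (R.fi23 K h)
    · exact Or.inl (R.fi24 K h)
    · exact Or.inl (R.hn K h)
    · exact Or.inl (R.th K h)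
    · exact Or.inl (R.b K h)
    · exact Or.inl (R.m K h)

end

/-- **(ZS)** for components: `L` finite with centre of odd order and `L/Z(L)` known simple, not of prime order. -/
theorem RowsZS.cover (R : RowsZS.{u}) {L : Type u} [Group L] [Finite L] (hodd : Odd (Nat.card (center L)))
    (h : IsKnownSimple' (L ⧸ center L)) (hc : ¬ IsPrimeCyclic (L ⧸ center L)) :
    IsLieTypeChar 2 (L ⧸ center L) ∨ NoCenMove L ∨ OutZS (L ⧸ center L) := by
  rcases R.main h hc with h | h | h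
  · exact Or.inl h
  · exact Or.inr (Or.inl (NoCenMove.of_center hodd h))
  · exact Or.inr (Or.inr h)

end Cfsg.Agent.Omega.KFacts
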