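import Cfsg.Agent.Omega.EH3.Row
import Cfsg.Agent.S0256

/-!
# K-facts of project OMEGA: one named proposition per family row

Owner: helper333.  `Rows2` : the rows of TABLE 2F (`q = 2`, width at least 6, EH3); `RowsZS` : the rows of `(ZS)`
(`q ≥ 4`, NODE LIE).  A row is closed by a theorem `Cfsg.Agent.Omega.TwoF.<Row>.row : <the field's type>`; this file
only collects.  `Rows2.main` is the consumer's form: a known simple group is of Lie type in characteristic 2, or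
excluded, or one of the four groups `M22`, `U4(3)`, `Co2`, `Co1` (shadows and `J4`), with its exact numbers.
-/

set_option autoImplicit false

namespace Cfsg.Agent.Omega.KFacts

open Subgroup Cfsg Cfsg.Agent.Omega.TwoF Cfsg.Agent.Omega.EH3

universe u

/-- All groups with the property `P` are excluded in EH3 (numerical form `Kill2`). -/
def KillRow (P : ∀ (K : Type u) [Group K], Prop) : Prop := ∀ (K : Type u) [Group K], P K → Kill2.{u} K

/-- All groups with the property `P` are excluded in EH3. -/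
def Row (P : ∀ (K : Type u) [Group K], Prop) : Prop := ∀ (K : Type u) [Group K], P K → RowEH3.{u} K

theorem KillRow.toRow {P : ∀ (K : Type u) [Group K], Prop} (h : KillRow.{u} P) : Row.{u} P :=
  fun K _ hK => RowEH3.of_kill (h K hK)

/-- `dim V = n` and `|X| = 2^r` are forced: `n = 2r + 2` (for `n = 12` the lower bound is that of `Conf2`). -/
structure Tight (K : Type u) [Group K] (n r : ℕ) : Prop where
  lb : n = 12 ∨ LBs.{u} K n
  rk : RK K r
  eq : n = 2 * r + 2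

/-- `U4(3)`. -/
def IsUFourThree (K : Type u) [Group K] : Prop :=
  ∃ (F : Type) (_ : Field F) (_ : Fintype F), Fintype.card F = 9 ∧ Nonempty (K ≃* PSU 4 F 3)

/-- Lie type in odd characteristic, family `P p`. -/
def OddChar (P : ∀ (_ : ℕ) (K : Type u) [Group K], Prop) (K : Type u) [Group K] : Prop :=
  ∃ p : ℕ, p.Prime ∧ p ≠ 2 ∧ P p K

/-- **The rows of TABLE 2F**, `q = 2`. -/
structure Rows2 : Prop where
  -- alternating groups (owner helper809)
  alt : ∀ n : ℕ, 5 ≤ n → n ≠ 8 → RowEH3.{u} (alternatingGroup (Fin n))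
  -- Lie type in odd characteristic
  psl : Row.{u} fun K _ => OddChar @IsPSLChar K ∧ ¬ IsLieTypeChar 2 K
  psp : Row.{u} fun K _ => OddChar @IsPSpChar K ∧ ¬ IsLieTypeChar 2 K
  psu : Row.{u} fun K _ => OddChar @IsPSUChar K ∧ ¬ IsLieTypeChar 2 K ∧ ¬ IsUFourThree K
  u43 : ∀ (K : Type u) [Group K], IsUFourThree K → Tight K 12 5
  omOdd : Row.{u} fun K _ => OddChar @IsPOmegaOddChar K
  omPlus : Row.{u} fun K _ => OddChar @IsPOmegaPlusChar K
  omMinus : Row.{u} fun K _ => OddChar @IsPOmegaMinusChar K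
  chev : Row.{u} fun K _ => OddChar @IsExceptionalChevChar K ∧ ¬ IsLieTypeChar 2 K
  twisted : Row.{u} fun K _ => OddChar @IsTwistedE6D4Char K
  ree : Row.{u} @Lie.IsoRee
  tits : Row.{u} @Lie.IsoTits
  -- sporadic groups
  m11 : Row.{u} @Spor.IsoM11
  m12 : Row.{u} @Spor.IsoM12
  m22 : ∀ (K : Type u) [Group K], Spor.IsoM22 K → Tight K 12 5
  m23 : Row.{u} @Spor.IsoM23
  m24 : Row.{u} @Spor.IsoM24
  j1 : Row.{u} @Spor.IsoJ1
  j2 : Row.{u} @Spor.IsoJ2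
  j3 : Row.{u} @Spor.IsoJ3
  j4 : Row.{u} @Spor.IsoJ4
  co1 : ∀ (K : Type u) [Group K], Spor.IsoCo1 K → Tight K 24 11
  co2 : ∀ (K : Type u) [Group K], Spor.IsoCo2 K → Tight K 22 10
  co3 : Row.{u} @Spor.IsoCo3
  mcl : Row.{u} @Spor.IsoMcL
  hs : Row.{u} @Spor.IsoHS
  suz : Row.{u} @Spor.IsoSuz
  he : Row.{u} @Spor.IsoHe
  ru : Row.{u} @Spor.IsoRu
  on : Row.{u} @Spor.IsoON
  ly : Row.{u} @Spor.IsoLy
  fi22 : Row.{u} @Spor.IsoFi22
  fi23 : Row.{u} @Spor.IsoFi23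
  fi24 : Row.{u} @Spor.IsoFi24'
  hn : Row.{u} @Spor.IsoHN
  th : Row.{u} @Spor.IsoTh
  b : Row.{u} @Spor.IsoB
  m : Row.{u} @Spor.IsoM

/-- The outcomes of TABLE 2F for `q = 2`. -/
def Out2 (K : Type u) [Group K] : Prop :=
  IsLieTypeChar 2 K ∨ RowEH3.{u} K ∨ (IsUFourThree K ∧ Tight K 12 5) ∨ (Spor.IsoM22 K ∧ Tight K 12 5) ∨
    (Spor.IsoCo2 K ∧ Tight K 22 10) ∨ (Spor.IsoCo1 K ∧ Tight K 24 11)

/-! ### The list of known simple groups by characteristic -/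

section List

variable {K : Type u} [Group K]

theorem exists_char (F : Type) [Field F] [Fintype F] : ∃ p : ℕ, p.Prime ∧ CharP F p := by
  obtain ⟨p, hp⟩ := CharP.exists F
  have := CharP.char_is_prime F p
  exact ⟨p, this, hp⟩

theorem of_psl (h : IsPSL K) : IsLieTypeChar 2 K ∨ OddChar @IsPSLChar K := by
  obtain ⟨F, _, _, n, h1, h2, h3⟩ := h
  obtain ⟨p, hp, hF⟩ := exists_char F
  by_cases h4 : p = 2
  · subst h4
    exact Or.inl (Or.inl ⟨F, _, _, hF, n, h1, h2, h3⟩)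
  · exact Or.inr ⟨p, hp, h4, F, _, _, hF, n, h1, h2, h3⟩

theorem of_psp (h : IsPSp K) : IsLieTypeChar 2 K ∨ OddChar @IsPSpChar K := by
  obtain ⟨F, _, _, n, h1, h2, h3⟩ := h
  obtain ⟨p, hp, hF⟩ := exists_char F
  by_cases h4 : p = 2
  · subst h4
    exact Or.inl (Or.inr (Or.inl ⟨F, _, _, hF, n, h1, h2, h3⟩))
  · exact Or.inr ⟨p, hp, h4, F, _, _, hF, n, h1, h2, h3⟩

theorem of_psu (h : IsPSU K) : IsLieTypeChar 2 K ∨ OddChar @IsPSUChar K := by
  obtain ⟨F, _, _, n, q, h1, h2, h3, h5⟩ := h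
  obtain ⟨p, hp, hF⟩ := exists_char F
  by_cases h4 : p = 2
  · subst h4
    exact Or.inl (Or.inr (Or.inr (Or.inl ⟨F, _, _, hF, n, q, h1, h2, h3, h5⟩)))
  · exact Or.inr ⟨p, hp, h4, F, _, _, hF, n, q, h1, h2, h3, h5⟩

theorem of_omOdd (h : IsPOmegaOdd K) : IsLieTypeChar 2 K ∨ OddChar @IsPOmegaOddChar K := by
  obtain ⟨F, _, _, n, h1, h2, h3⟩ := h
  obtain ⟨p, hp, hF⟩ := exists_char F
  by_cases h4 : p = 2
  · subst h4
    exact Or.inl (Or.inr (Or.inr (Or.inr (Or.inl ⟨F, _, _, hF, n, h1, h2, h3⟩))))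
  · exact Or.inr ⟨p, hp, h4, F, _, _, hF, n, h1, h2, h3⟩

theorem of_omPlus (h : IsPOmegaPlus K) : IsLieTypeChar 2 K ∨ OddChar @IsPOmegaPlusChar K := by
  obtain ⟨F, iF, iT, n, h1, h3⟩ := h
  obtain ⟨p, hp, hF⟩ := exists_char F
  have key : IsPOmegaPlusChar p K := ⟨F, iF, iT, hF, n, h1, h3⟩
  by_cases h4 : p = 2
  · subst h4
    exact Or.inl (Or.inr (Or.inr (Or.inr (Or.inr (Or.inl key)))))
  · exact Or.inr ⟨p, hp, h4, key⟩

theorem of_omMinus (h : IsPOmegaMinus K) : IsLieTypeChar 2 K ∨ OddChar @IsPOmegaMinusChar K := by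
  obtain ⟨F, iF, iT, n, a, b, h1, h2, h3⟩ := h
  obtain ⟨p, hp, hF⟩ := exists_char F
  have key : IsPOmegaMinusChar p K := ⟨F, iF, iT, hF, n, a, b, h1, h2, h3⟩
  by_cases h4 : p = 2
  · subst h4
    exact Or.inl (Or.inr (Or.inr (Or.inr (Or.inr (Or.inr (Or.inl key))))))
  · exact Or.inr ⟨p, hp, h4, key⟩

theorem of_chev (h : Lie.IsoChevG2 K ∨ Lie.IsoF4 K ∨ Lie.IsoChevE6 K ∨ Lie.IsoE7 K ∨ Lie.IsoE8 K) :
    IsLieTypeChar 2 K ∨ OddChar @IsExceptionalChevChar K := by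
  have key : ∃ p : ℕ, p.Prime ∧ IsExceptionalChevChar p K := by
    rcases h with ⟨F, iF, iT, h1, h2⟩ | ⟨F, iF, iT, h⟩ | ⟨F, iF, iT, h⟩ | ⟨F, iF, iT, h⟩ | ⟨F, iF, iT, h⟩ <;>
      obtain ⟨p, hp, hF⟩ := exists_char F <;> refine ⟨p, hp, F, iF, iT, hF, ?_⟩
    · exact Or.inl ⟨h1, h2⟩
    · exact Or.inr (Or.inl h)
    · exact Or.inr (Or.inr (Or.inl h))
    · exact Or.inr (Or.inr (Or.inr (Or.inl h)))
    · exact Or.inr (Or.inr (Or.inr (Or.inr h)))
  obtain ⟨p, hp, key⟩ := key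
  by_cases h4 : p = 2
  · subst h4
    exact Or.inl (Or.inr (Or.inr (Or.inr (Or.inr (Or.inr (Or.inr (Or.inl key)))))))
  · exact Or.inr ⟨p, hp, h4, key⟩

theorem of_twisted (h : Lie.Iso2E6 K ∨ Lie.Iso3D4 K) :
    IsLieTypeChar 2 K ∨ OddChar @IsTwistedE6D4Char K := by
  have key : ∃ p : ℕ, p.Prime ∧ IsTwistedE6D4Char p K := by
    rcases h with ⟨F, iF, iT, q, hq, h1, h2⟩ | ⟨F, iF, iT, q, hq, h1, h2⟩ <;>
      obtain ⟨p, hp, hF⟩ := exists_char F <;> refine ⟨p, hp, F, iF, iT, hF, q, hq, ?_⟩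
    · exact Or.inl ⟨h1, h2⟩
    · exact Or.inr ⟨h1, h2⟩
  obtain ⟨p, hp, key⟩ := key
  by_cases h4 : p = 2
  · subst h4
    exact Or.inl (Or.inr (Or.inr (Or.inr (Or.inr (Or.inr (Or.inr (Or.inr (Or.inl key))))))))
  · exact Or.inr ⟨p, hp, h4, key⟩

end List

/-- **TABLE 2F for `q = 2`**, collected. -/
theorem Rows2.main (R : Rows2.{u}) {K : Type u} [Group K] (h : IsKnownSimple' K) (hc : ¬ IsPrimeCyclic K) :
    Out2 K := by
  by_cases h2 : IsLieTypeChar 2 K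
  · exact Or.inl h2
  refine Or.inr ?_
  have hn := fun (P : Prop) (hP : IsLieTypeChar 2 K ∨ P) => hP.resolve_left h2
  rcases h with h | ⟨n, h5, ⟨e⟩⟩ | h | h | h | h | h | h | h | h
  · exact absurd h hc
  · refine Or.inl ?_
    by_cases h8 : n = 8
    · exfalso
      subst h8
      apply h2
      obtain ⟨e'⟩ := Cfsg.Agent.S0256.result (F := ZMod 2) (by simp)
      exact Or.inl ⟨ZMod 2, inferInstance, inferInstance, inferInstance, 4, by norm_num, by norm_num,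
        ⟨e.trans e'.symm⟩⟩
    · exact (R.alt n h5 h8).equiv e
  · exact Or.inl (R.psl K ⟨hn _ (of_psl h), h2⟩)
  · exact Or.inl (R.psp K ⟨hn _ (of_psp h), h2⟩)
  · by_cases h3 : IsUFourThree K
    · exact Or.inr (Or.inl ⟨h3, R.u43 K h3⟩)
    · exact Or.inl (R.psu K ⟨hn _ (of_psu h), h2, h3⟩)
  · exact Or.inl (R.omOdd K (hn _ (of_omOdd h)))
  · exact Or.inl (R.omPlus K (hn _ (of_omPlus h)))
  · exact Or.inl (R.omMinus K (hn _ (of_omMinus h)))
  · unfold IsExceptionalLieType at h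
    by_cases h3 : Lie.IsoChevG2 K ∨ Lie.IsoF4 K ∨ Lie.IsoChevE6 K ∨ Lie.IsoE7 K ∨ Lie.IsoE8 K
    · exact Or.inl (R.chev K ⟨hn _ (of_chev h3), h2⟩)
    by_cases h4 : Lie.Iso2E6 K ∨ Lie.Iso3D4 K
    · exact Or.inl (R.twisted K (hn _ (of_twisted h4)))
    by_cases h5 : Lie.IsoSuzuki K
    · exact absurd (Or.inr (Or.inr (Or.inr (Or.inr (Or.inr (Or.inr (Or.inr (Or.inr (Or.inl ⟨rfl, h5⟩)))))))))  h2
    by_cases h6 : Lie.Iso2F4 K
    · exact absurd (Or.inr (Or.inr (Or.inr (Or.inr (Or.inr (Or.inr (Or.inr (Or.inr (Or.inr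
        (Or.inl ⟨rfl, h6⟩)))))))))) h2
    by_cases h7 : Lie.IsoRee K
    · exact Or.inl (R.ree K h7)
    by_cases h8 : Lie.IsoTits K
    · exact Or.inl (R.tits K h8)
    exfalso
    tauto
  · unfold IsSporadicGroup at h
    rcases h with h | h | h | h | h | h | h | h | h | h | h | h | h | h | h | h | h | h | h | h | h | h | h | h | h | h
    · exact Or.inl (R.m11 K h)
    · exact Or.inl (R.m12 K h)
    · exact Or.inr (Or.inr (Or.inl ⟨h, R.m22 K h⟩))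
    · exact Or.inl (R.m23 K h)
    · exact Or.inl (R.m24 K h)
    · exact Or.inl (R.j1 K h)
    · exact Or.inl (R.j2 K h)
    · exact Or.inl (R.j3 K h)
    · exact Or.inl (R.j4 K h)
    · exact Or.inr (Or.inr (Or.inr (Or.inr ⟨h, R.co1 K h⟩)))
    · exact Or.inr (Or.inr (Or.inr (Or.inl ⟨h, R.co2 K h⟩)))
    · exact Or.inl (R.co3 K h)
    · exact Or.inl (R.mcl K h)
    · exact Or.inl (R.hs K h)
    · exact Or.inl (R.suz K h)
    · exact Or.inl (R.he K h)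
    · exact Or.inl (R.ru K h)
    · exact Or.inl (R.on K h)
    · exact Or.inl (R.ly K h)
    · exact Or.inl (R.fi22 K h)
    · exact Or.inl (R.fi23 K h)
    · exact Or.inl (R.fi24 K h)
    · exact Or.inl (R.hn K h)
    · exact Or.inl (R.th K h)
    · exact Or.inl (R.b K h)
    · exact Or.inl (R.m K h)

end Cfsg.Agent.Omega.KFacts
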