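import Cfsg.Agent.Omega.FrameLE
import Cfsg.Agent.Omega.NatPair.Of

/-!
# Case FF: the leaves (project OMEGA, MASTER REDUCTION v5.1, case II)

`S` a Sylow 2-subgroup, `V_P = zl S P`, `Mutual S P₁ P₂ x` : `V_{P₁}` and `(V_{P₂})^x` are a mutual pair.

* `NatOver F N V D` : `N` induces on `V / D` a group with a normal subgroup `SL₂(F)`, `V / D` is the natural
  module and the `SL₂(F)` is induced by elements which centralise `D`;
* `Single S P` : `V_P / C_{V_P}(O²(P))` is a natural `SL₂(F)`-module (one factor) for `P`;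
* `Free S P` : `C_{V_P}(O²(P)) = 1`;
* leaves: `LeafMulti` (a mutual pair with a member which is not `Single`: `k ≥ 2` natural factors,
  `S_{2^m+1}`; II.c, II.d), `LeafH1` (all are `Single`, one is not `Free`; II.0h1), `LeafB` (no mutual pair of
  one type: `W_V`, `W_{V'}` abelian; II.b), `LeafA2`, `LeafA4` (a mutual pair `V, V^h`, `q = 2` resp. `q ≥ 4`;
  II.a); `NormStep` : the `SL₂(F)` is normal in `N_G(V)/C_G(V)` for `|V|` minimal (#12618);
* `nodeFF` : the leaves imply `FrameLE.NodeFF K`.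

All leaves are relative to a class `K` (`Frame.All` for the even half) and contain the hypothesis
`AllIn S` : `V_P ≤ O₂(C_G(Z))` for all `P ∈ P*(S)` (ruling of 03:35Z on #13114).
-/

set_option autoImplicit false

namespace Cfsg.Agent.Omega.FrameFF

open Subgroup Cfsg Cfsg.Agent.ZN Cfsg.Agent.Omega.MinPar Cfsg.Agent.Omega.Frame
open Cfsg.Agent.Omega.FrameLE (AllIn)
open Cfsg.Agent.Omega.NatPair (NatMod ap)
open Cfsg.Agent.MinSimple.VModule (oddGen)
open Cfsg.Agent.Lib.SL2Mat

universe u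

/-! ### One natural factor -/

section defs

variable {G : Type u} [Group G]

/-- `V / D` is the natural module `F²` for a normal subgroup `SL₂(F)` of the group induced by `N`, and this
`SL₂(F)` is induced by elements which centralise `D`. -/
structure NatOver (F : Type) [Field F] (N V D : Subgroup G) where
  e : G → (Fin 2 → F)
  mul : ∀ v ∈ V, ∀ w ∈ V, e (v * w) = e v + e w
  surj : ∀ x : Fin 2 → F, ∃ v ∈ V, e v = x
  ker : ∀ v ∈ V, e v = 0 ↔ v ∈ D
  lift : ∀ A : Matrix.SpecialLinearGroup (Fin 2) F, ∃ g ∈ N, (∀ v ∈ V, e (g * v * g⁻¹) = ap A (e v)) ∧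
    ∀ d ∈ D, g * d = d * g
  norm : ∀ g ∈ N, ∀ h ∈ N, ∀ A : Matrix.SpecialLinearGroup (Fin 2) F,
    (∀ v ∈ V, e (h * v * h⁻¹) = ap A (e v)) → ∃ B : Matrix.SpecialLinearGroup (Fin 2) F,
      ∀ v ∈ V, e (g * h * g⁻¹ * v * (g * h * g⁻¹)⁻¹) = ap B (e v)

/-- `C_{V_P}(O²(P))` -/
def cv (S P : Subgroup G) : Subgroup G := zl S P ⊓ centralizer (oddGen P : Set G)

/-- `V_P / C_{V_P}(O²(P))` is one natural `SL₂(q)`-module for `P`. -/
def Single (S P : Subgroup G) : Prop :=
  ∃ (F : Type) (_ : Field F) (_ : Finite F) (_ : CharP F 2), Nonempty (NatOver F P (zl S P) (cv S P))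

/-- `C_{V_P}(O²(P)) = 1` -/
def Free (S P : Subgroup G) : Prop := cv S P = ⊥

/-- All members of mutual pairs have one natural factor. -/
def AllSingle (S : Subgroup G) : Prop :=
  ∀ (P₁ P₂ : Subgroup G) (x : G), Mutual S P₁ P₂ x → Single S P₁ ∧ Single S P₂

/-- All members of mutual pairs have one natural factor and `C_V(O²(P)) = 1`. -/
def AllFree (S : Subgroup G) : Prop :=
  AllSingle S ∧ ∀ (P₁ P₂ : Subgroup G) (x : G), Mutual S P₁ P₂ x → Free S P₁ ∧ Free S P₂

/-- `(V, V^g)`, `V = V_P`, is a mutual pair and `|V|` is minimal. -/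
structure MinSame (S P : Subgroup G) (g : G) : Prop where
  pair : Mutual S P P g
  min : ∀ (P' : Subgroup G) (g' : G), Mutual S P' P' g' → Nat.card (zl S P) ≤ Nat.card (zl S P')

end defs

/-! ### The leaves -/

section leaves

variable (K : Cls.{u})

/-- II.c, II.d, N6: a mutual pair with a member which has not exactly one natural factor. -/
def LeafMulti : Prop :=
  ∀ (G : Type u) [Group G] [Finite G], Ctx G → K G → ∀ (S : Sylow 2 G), Full (S : Subgroup G) →
    AllIn (S : Subgroup G) →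
    ∀ (P₁ P₂ : Subgroup G) (x : G), Mutual (S : Subgroup G) P₁ P₂ x →
      ¬ (Single (S : Subgroup G) P₁ ∧ Single (S : Subgroup G) P₂) → IsKnownSimple' G

/-- II.0h1: all have one natural factor, and `C_V(O²(P)) ≠ 1` occurs. -/
def LeafH1 : Prop :=
  ∀ (G : Type u) [Group G] [Finite G], Ctx G → K G → ∀ (S : Sylow 2 G), Full (S : Subgroup G) →
    AllIn (S : Subgroup G) →
    AllSingle (S : Subgroup G) →
    ∀ (P₁ P₂ : Subgroup G) (x : G), Mutual (S : Subgroup G) P₁ P₂ x → ¬ Free (S : Subgroup G) P₁ →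
      IsKnownSimple' G

/-- II.b: no mutual pair of one type (so `W_V` and `W_{V'}` are abelian). -/
def LeafB : Prop :=
  ∀ (G : Type u) [Group G] [Finite G], Ctx G → K G → ∀ (S : Sylow 2 G), Full (S : Subgroup G) →
    AllIn (S : Subgroup G) →
    AllFree (S : Subgroup G) → (∀ (P : Subgroup G) (g : G), ¬ Mutual (S : Subgroup G) P P g) →
    ∀ (P₁ P₂ : Subgroup G) (x : G), Mutual (S : Subgroup G) P₁ P₂ x → IsKnownSimple' G

/-- #12618: the `SL₂(F)` is normal in `N_G(V)/C_G(V)` for a mutual pair `V, V^g` with `|V|` minimal. -/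
def NormStep : Prop :=
  ∀ (G : Type u) [Group G] [Finite G], Ctx G → K G → ∀ (S : Sylow 2 G), Full (S : Subgroup G) →
    AllIn (S : Subgroup G) →
    AllFree (S : Subgroup G) → ∀ (P : Subgroup G) (g : G), MinSame (S : Subgroup G) P g →
      ∃ (F : Type) (_ : Field F) (_ : Finite F) (_ : CharP F 2), Nonempty (NatMod F (zl (S : Subgroup G) P))

/-- II.a, `q = 2`. -/
def LeafA2 : Prop :=
  ∀ (G : Type u) [Group G] [Finite G], Ctx G → K G → ∀ (S : Sylow 2 G), Full (S : Subgroup G) →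
    AllIn (S : Subgroup G) →
    AllFree (S : Subgroup G) → ∀ (P : Subgroup G) (g : G), MinSame (S : Subgroup G) P g →
      Nat.card (zl (S : Subgroup G) P) = 4 → IsKnownSimple' G

/-- II.a, `q ≥ 4`. -/
def LeafA4 : Prop :=
  ∀ (G : Type u) [Group G] [Finite G], Ctx G → K G → ∀ (S : Sylow 2 G), Full (S : Subgroup G) →
    AllIn (S : Subgroup G) →
    AllFree (S : Subgroup G) → ∀ (P : Subgroup G) (g : G), MinSame (S : Subgroup G) P g →
      ∀ (F : Type) [Field F] [Finite F] [CharP F 2], NatMod F (zl (S : Subgroup G) P) → 4 ≤ Nat.card F →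
        IsKnownSimple' G

end leaves

/-! ### The node -/

theorem card_eq_four {G : Type u} [Group G] {F : Type} [Field F] [Finite F] {V : Subgroup G} (M : NatMod F V)
    (h : Nat.card F = 2) : Nat.card V = 4 := by
  have h1 : Nat.card V = Nat.card (Fin 2 → F) := by
    refine (Nat.card_congr (Equiv.ofBijective (fun x => (⟨M.e x, M.e_mem x⟩ : V)) ⟨?_, ?_⟩)).symm
    · intro x y hxy
      exact M.e_inj (congrArg Subtype.val hxy)
    · rintro ⟨v, hv⟩
      obtain ⟨x, hx⟩ := (M.mem_iff v).1 hv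
      exact ⟨x, Subtype.ext hx⟩
  rw [h1, Nat.card_fun, h]
  simp

theorem two_le_card {F : Type} [Field F] [Finite F] [CharP F 2] : Nat.card F = 2 ∨ 4 ≤ Nat.card F := by
  have : Fintype F := Fintype.ofFinite F
  obtain ⟨n, -, hn⟩ := FiniteField.card F 2
  rw [Nat.card_eq_fintype_card, hn]
  rcases Nat.lt_or_ge (n : ℕ) 2 with h | h
  · left
    have h1 : (n : ℕ) = 1 := by have := n.pos; omega
    rw [h1]; norm_num
  · right
    calc 4 = 2 ^ 2 := by norm_num
      _ ≤ 2 ^ (n : ℕ) := Nat.pow_le_pow_right (by norm_num) h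

/-- **Case FF from its leaves.** -/
theorem nodeFF {K : Cls.{u}} (hM : LeafMulti K) (hH : LeafH1 K) (hB : LeafB K) (hN : NormStep K)
    (hA2 : LeafA2 K) (hA4 : LeafA4 K) : FrameLE.NodeFF K := by
  intro G _ _ hG hcl S hF hLE hFF
  by_cases hs : AllSingle (S : Subgroup G)
  · by_cases hf : ∀ (P₁ P₂ : Subgroup G) (x : G), Mutual (S : Subgroup G) P₁ P₂ x →
        Free (S : Subgroup G) P₁ ∧ Free (S : Subgroup G) P₂
    · by_cases hsame : ∀ (P : Subgroup G) (g : G), ¬ Mutual (S : Subgroup G) P P g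
      · obtain ⟨P₁, P₂, x, h⟩ := hFF
        exact hB G hG hcl S hF hLE ⟨hs, hf⟩ hsame P₁ P₂ x h
      · push Not at hsame
        -- a mutual pair of one type with `|V|` minimal
        let s : Set (Subgroup G × G) := {q | Mutual (S : Subgroup G) q.1 q.1 q.2}
        have hne : s.Nonempty := by
          obtain ⟨P, g, h⟩ := hsame
          exact ⟨(P, g), h⟩
        obtain ⟨⟨P, g⟩, hm, hmin⟩ := Set.exists_min_image s
          (fun q => Nat.card (zl (S : Subgroup G) q.1)) (Set.toFinite s) hne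
        have hMS : MinSame (S : Subgroup G) P g := ⟨hm, fun P' g' h' => hmin (P', g') h'⟩
        obtain ⟨F, _, _, _, ⟨M⟩⟩ := hN G hG hcl S hF hLE ⟨hs, hf⟩ P g hMS
        rcases two_le_card (F := F) with h2 | h4
        · exact hA2 G hG hcl S hF hLE ⟨hs, hf⟩ P g hMS (card_eq_four M h2)
        · exact hA4 G hG hcl S hF hLE ⟨hs, hf⟩ P g hMS F M h4
    · push Not at hf
      obtain ⟨P₁, P₂, x, h, hfr⟩ := hf
      by_cases h1 : Free (S : Subgroup G) P₁
      · exact hH G hG hcl S hF hLE hs P₂ P₁ x⁻¹ h.symm (hfr h1)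
      · exact hH G hG hcl S hF hLE hs P₁ P₂ x h h1
  · unfold AllSingle at hs
    push Not at hs
    obtain ⟨P₁, P₂, x, h, hns⟩ := hs
    exact hM G hG hcl S hF hLE P₁ P₂ x h fun hc => hns hc.1 hc.2

end Cfsg.Agent.Omega.FrameFF
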