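import Cfsg.Agent.OddHalf.Known
import Cfsg.Agent.GH.C2Extra
import Cfsg.Prelude.Def_SporadicB
import Cfsg.Prelude.Def_LieExceptional
import Cfsg.Prelude.Def_LieRecognition

/-!
# The exits of the even half: from the conclusions of the quoted statements to `IsKnownSimple'`

Every exit statement of the plan is written as a proposition (`St1759`, `St1761`, ...), literally as in the list,
and its conclusion is transported to `IsKnownSimple'`.  `CharTwo` glue: in a group of characteristic 2 type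
the hypotheses on `F*(C_G(z))` are hypotheses on `O₂(C_G(z))`.
-/

set_option autoImplicit false

namespace Cfsg.Agent.Omega.Exits

open Cfsg Subgroup

universe u

variable {G : Type u} [Group G]

/-! ## Members of the list -/

theorem known_alt (n : ℕ) (hn : 5 ≤ n) (h : Nonempty (G ≃* alternatingGroup (Fin n))) : IsKnownSimple' G :=
  Or.inr (Or.inl ⟨n, hn, h⟩)

theorem known_psl (h : IsPSL G) : IsKnownSimple' G := Or.inr (Or.inr (Or.inl h))

theorem known_psp (h : IsPSp G) : IsKnownSimple' G := Or.inr (Or.inr (Or.inr (Or.inl h)))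

theorem known_psu (h : IsPSU G) : IsKnownSimple' G := Or.inr (Or.inr (Or.inr (Or.inr (Or.inl h))))

theorem known_poOdd (h : IsPOmegaOdd G) : IsKnownSimple' G :=
  Or.inr (Or.inr (Or.inr (Or.inr (Or.inr (Or.inl h)))))

theorem known_poPlus (h : IsPOmegaPlus G) : IsKnownSimple' G :=
  Or.inr (Or.inr (Or.inr (Or.inr (Or.inr (Or.inr (Or.inl h))))))

theorem known_poMinus (h : IsPOmegaMinus G) : IsKnownSimple' G :=
  Or.inr (Or.inr (Or.inr (Or.inr (Or.inr (Or.inr (Or.inr (Or.inl h)))))))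

theorem known_exc (h : IsExceptionalLieType G) : IsKnownSimple' G :=
  Or.inr (Or.inr (Or.inr (Or.inr (Or.inr (Or.inr (Or.inr (Or.inr (Or.inl h))))))))

theorem known_spor (h : IsSporadicGroup G) : IsKnownSimple' G :=
  Or.inr (Or.inr (Or.inr (Or.inr (Or.inr (Or.inr (Or.inr (Or.inr (Or.inr h))))))))

/-- `PSL_n(F)`, `n ≥ 3`. -/
theorem known_l {n : ℕ} (hn : 3 ≤ n) {F : Type} [i : Field F] [j : Fintype F]
    (h : Nonempty (G ≃* Matrix.ProjectiveSpecialLinearGroup (Fin n) F)) : IsKnownSimple' G :=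
  known_psl ⟨F, i, j, n, by omega, fun h2 => by omega, h⟩

/-- `PSL_2(F)`, `|F| ≥ 4`. -/
theorem known_l2 {F : Type} [i : Field F] [j : Fintype F] (hF : 4 ≤ Fintype.card F)
    (h : Nonempty (G ≃* Matrix.ProjectiveSpecialLinearGroup (Fin 2) F)) : IsKnownSimple' G :=
  known_psl ⟨F, i, j, 2, le_rfl, fun _ => hF, h⟩

/-- `PSU_n(q)`, `n ≥ 4`. -/
theorem known_u {n q : ℕ} (hn : 4 ≤ n) {F : Type} [i : Field F] [j : Fintype F]
    (hF : Fintype.card F = q ^ 2) (h : Nonempty (G ≃* Cfsg.PSU n F q)) : IsKnownSimple' G :=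
  known_psu ⟨F, i, j, n, q, hF, by omega, fun h => by omega, h⟩

/-- `PSU_3(q)`, `q ≥ 3`. -/
theorem known_u3 {q : ℕ} (hq : 3 ≤ q) {F : Type} [i : Field F] [j : Fintype F]
    (hF : Fintype.card F = q ^ 2) (h : Nonempty (G ≃* Cfsg.PSU 3 F q)) : IsKnownSimple' G :=
  known_psu ⟨F, i, j, 3, q, hF, le_rfl, fun h => by omega, h⟩

/-- `PSp_2m(F)`, `m ≥ 3`. -/
theorem known_sp {m : ℕ} (hm : 3 ≤ m) {F : Type} [i : Field F] [j : Fintype F]
    (h : Nonempty (G ≃* Cfsg.PSp m F)) : IsKnownSimple' G :=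
  known_psp ⟨F, i, j, m, by omega, fun h2 => by omega, h⟩

/-- `PSp_4(F)`, `|F| ≥ 3`. -/
theorem known_sp4 {F : Type} [i : Field F] [j : Fintype F] (hF : 3 ≤ Fintype.card F)
    (h : Nonempty (G ≃* Cfsg.PSp 2 F)) : IsKnownSimple' G :=
  known_psp ⟨F, i, j, 2, le_rfl, fun _ => hF, h⟩

/-! ## S1143, S1144: `BN`-pairs -/

/-- S1143 (rank at least 3). -/
def St1143 : Prop :=
  ∀ (G : Type u) [Group G] [Finite G] [IsSimpleGroup G] (P : Cfsg.BNPair G), 3 ≤ P.rank → P.Irreducible →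
    Cfsg.IsPSL G ∨ Cfsg.IsPSp G ∨ Cfsg.IsPSU G ∨ Cfsg.IsPOmegaOdd G ∨ Cfsg.IsPOmegaPlus G ∨
      Cfsg.IsPOmegaMinus G ∨ Cfsg.IsExceptionalLieType G

/-- S1144. -/
def St1144 : Prop :=
  ∀ (G : Type u) [Group G] [Finite G] [IsSimpleGroup G] (P : Cfsg.BNPair G), 1 ≤ P.rank → P.IsSplit →
    Cfsg.IsPSL G ∨ Cfsg.IsPSp G ∨ Cfsg.IsPSU G ∨ Cfsg.IsPOmegaOdd G ∨ Cfsg.IsPOmegaPlus G ∨
      Cfsg.IsPOmegaMinus G ∨ Cfsg.IsExceptionalLieType G

/-- The conclusion of S1143 and S1144 is on the list. -/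
theorem known_lie (h : Cfsg.IsPSL G ∨ Cfsg.IsPSp G ∨ Cfsg.IsPSU G ∨ Cfsg.IsPOmegaOdd G ∨ Cfsg.IsPOmegaPlus G ∨
      Cfsg.IsPOmegaMinus G ∨ Cfsg.IsExceptionalLieType G) : IsKnownSimple' G := by
  rcases h with h | h | h | h | h | h | h
  · exact known_psl h
  · exact known_psp h
  · exact known_psu h
  · exact known_poOdd h
  · exact known_poPlus h
  · exact known_poMinus h
  · exact known_exc h

/-! ## Strongly embedded subgroups -/

/-- The conclusion `StrongEmb.BenderIso.Concl` is on the list. -/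
theorem known_se (h : (∃ (F : Type) (_ : Field F) (_ : Fintype F), (∃ n : ℕ, 2 ≤ n ∧ Fintype.card F = 2 ^ n) ∧
      Nonempty (G ≃* Matrix.ProjectiveSpecialLinearGroup (Fin 2) F)) ∨
    Cfsg.Lie.IsoSuzuki G ∨
    (∃ (F : Type) (_ : Field F) (_ : Fintype F) (n : ℕ), 2 ≤ n ∧ Fintype.card F = (2 ^ n) ^ 2 ∧
      Nonempty (G ≃* Cfsg.PSU 3 F (2 ^ n)))) : IsKnownSimple' G := by
  rcases h with ⟨F, _, _, ⟨n, hn, hF⟩, f⟩ | h | ⟨F, _, _, n, hn, hF, f⟩
  · refine known_l2 ?_ f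
    rw [hF]
    calc 4 = 2 ^ 2 := by norm_num
      _ ≤ 2 ^ n := Nat.pow_le_pow_right (by norm_num) hn
  · exact known_exc (Or.inr (Or.inr (Or.inr (Or.inr (Or.inr (Or.inr (Or.inr (Or.inl h))))))))
  · refine known_u3 ?_ hF f
    calc 3 ≤ 2 ^ 2 := by norm_num
      _ ≤ 2 ^ n := Nat.pow_le_pow_right (by norm_num) hn

/-! ## S1740, S1769, S1770: Sylow 2-subgroups of groups of Lie type -/

/-- The conclusion of S1740, `n ≥ 2`. -/
theorem known_1740 {n : ℕ} (hn : 2 ≤ n)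
    (h : (∃ (F : Type) (_ : Field F) (_ : Fintype F), Fintype.card F = 2 ^ n ∧ (Nonempty (G ≃* Matrix.ProjectiveSpecialLinearGroup (Fin 2) F) ∨ Nonempty (G ≃* Matrix.ProjectiveSpecialLinearGroup (Fin 3) F) ∨ Nonempty (G ≃* Cfsg.PSp 2 F))) ∨
      (∃ (F : Type) (_ : Field F) (_ : Fintype F), Fintype.card F = 4 ^ n ∧ Nonempty (G ≃* Cfsg.PSU 3 F (2 ^ n))) ∨
      (∃ m : ℕ, 1 ≤ m ∧ n = 2 * m + 1 ∧ ∃ (F : Type) (_ : Field F) (_ : Fintype F), Fintype.card F = 2 ^ n ∧ Nonempty (G ≃* ↥(Cfsg.Lie.Sz F (2 ^ (m + 1))))) ∨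
      Cfsg.Lie.IsoRee G ∨ Cfsg.Spor.IsoJ1 G) : IsKnownSimple' G := by
  have h4 : 4 ≤ 2 ^ n := by
    calc 4 = 2 ^ 2 := by norm_num
      _ ≤ 2 ^ n := Nat.pow_le_pow_right (by norm_num) hn
  rcases h with ⟨F, _, _, hF, f | f | f⟩ | ⟨F, _, _, hF, f⟩ | ⟨m, h1, h2, F, i, j, hF, f⟩ | h | h
  · exact known_l2 (by omega) f
  · exact known_l le_rfl f
  · exact known_sp4 (by omega) f
  · refine known_u3 (by omega) ?_ f
    rw [hF, ← pow_mul, mul_comm, pow_mul]
    norm_num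
  · exact known_exc (Or.inr (Or.inr (Or.inr (Or.inr (Or.inr (Or.inr (Or.inr (Or.inl
      ⟨F, i, j, m, h1, by rw [hF, h2], f⟩))))))))
  · exact known_exc (Or.inr (Or.inr (Or.inr (Or.inr (Or.inr (Or.inr (Or.inr (Or.inr (Or.inl h)))))))))
  · exact known_spor (by simp only [IsSporadicGroup]; tauto)

/-- The conclusion of S1770 (1). -/
theorem known_g2 {F : Type} [i : Field F] [j : Fintype F] {r : ℕ} (hr : 2 ≤ r) (hF : Fintype.card F = 2 ^ r)
    (h : Nonempty (G ≃* ↥(Cfsg.Lie.chevG2.group F))) : IsKnownSimple' G := by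
  refine known_exc (Or.inl ⟨F, i, j, ?_, h⟩)
  rw [hF]
  calc 3 ≤ 2 ^ 2 := by norm_num
    _ ≤ 2 ^ r := Nat.pow_le_pow_right (by norm_num) hr

/-- The conclusion of S1770 (2). -/
theorem known_3d4 {K : Type} [i : Field K] [j : Fintype K] {r : ℕ} (hr : 1 ≤ r) (hK : Fintype.card K = 8 ^ r)
    (h : Nonempty (G ≃* ↥(Cfsg.Lie.twistedD4 K (2 ^ r)))) : IsKnownSimple' G := by
  refine known_exc (Or.inr (Or.inr (Or.inr (Or.inr (Or.inr (Or.inr (Or.inl
    ⟨K, i, j, 2 ^ r, ?_, ?_, h⟩)))))))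
  · exact Nat.prime_two.isPrimePow.pow (by omega)
  · rw [hK, ← pow_mul, mul_comm, pow_mul]
    norm_num

/-! ## S1759, S1761, S1762, S1763: extraspecial `F*(C_G(z))` -/

/-- S1759. -/
def St1759 : Prop :=
  ∀ (G : Type u) [Group G] [Finite G] (z : G) (_ : orderOf z = 2) (_ : Cfsg.IsOfSymplecticType ↥(Cfsg.generalizedFittingSubgroup ↥(Subgroup.centralizer ({z} : Set G)))) (_ : Cfsg.IsExtraspecial 2 ↥(Cfsg.generalizedFittingSubgroup ↥(Subgroup.centralizer ({z} : Set G))))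
    (_ : Nat.card ↥(Cfsg.generalizedFittingSubgroup ↥(Subgroup.centralizer ({z} : Set G))) = 32) (_ : IsSimpleGroup ↥(Cfsg.generalizedFittingSubgroup G))
    (_ : ¬ IsMulCommutative ↥(Cfsg.generalizedFittingSubgroup G)),
    (∃ (F : Type) (_ : Field F) (_ : Fintype F), Fintype.card F = 9 ∧ (Nonempty (↥(Cfsg.generalizedFittingSubgroup G) ≃* Cfsg.PSU 3 F 3) ∨ Nonempty (↥(Cfsg.generalizedFittingSubgroup G) ≃* Cfsg.PSU 4 F 3))) ∨
      (∃ (F : Type) (_ : Field F) (_ : Fintype F), Fintype.card F = 4 ∧ Nonempty (↥(Cfsg.generalizedFittingSubgroup G) ≃* Cfsg.PSU 4 F 2)) ∨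
      (∃ (F : Type) (_ : Field F) (_ : Fintype F), Fintype.card F = 3 ∧ (Nonempty (↥(Cfsg.generalizedFittingSubgroup G) ≃* Matrix.ProjectiveSpecialLinearGroup (Fin 4) F) ∨
        Nonempty (↥(Cfsg.generalizedFittingSubgroup G) ≃* ↥(Cfsg.Lie.chevG2.group F)))) ∨
      Nonempty (↥(Cfsg.generalizedFittingSubgroup G) ≃* ↥(alternatingGroup (Fin 8))) ∨
      Nonempty (↥(Cfsg.generalizedFittingSubgroup G) ≃* ↥(alternatingGroup (Fin 9))) ∨
      Cfsg.Spor.IsoM12 ↥(Cfsg.generalizedFittingSubgroup G) ∨ Cfsg.Spor.IsoJ2 ↥(Cfsg.generalizedFittingSubgroup G) ∨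
      Cfsg.Spor.IsoJ3 ↥(Cfsg.generalizedFittingSubgroup G)

/-- S1761. -/
def St1761 : Prop :=
  ∀ (G : Type u) [Group G] [Finite G] [IsSimpleGroup G] (z : G) (_ : orderOf z = 2) (_ : Cfsg.IsOfSymplecticType ↥(Cfsg.generalizedFittingSubgroup ↥(Subgroup.centralizer ({z} : Set G)))) (_ : Cfsg.IsExtraspecial 2 ↥(Cfsg.generalizedFittingSubgroup ↥(Subgroup.centralizer ({z} : Set G))))
    (n : ℕ) (_ : 3 ≤ n) (_ : Nat.card ↥(Cfsg.generalizedFittingSubgroup ↥(Subgroup.centralizer ({z} : Set G))) = 2 ^ (2 * n + 1)),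
    (∃ (F : Type) (_ : Field F) (_ : Fintype F), Fintype.card F = 2 ∧ Nonempty (G ≃* Matrix.ProjectiveSpecialLinearGroup (Fin (n + 2)) F)) ∨
      (n = 3 ∧ (Cfsg.Spor.IsoM24 G ∨ Cfsg.Spor.IsoHe G)) ∨
      (∀ A : Subgroup ↥(Subgroup.centralizer ({z} : Set G)), A.Normal → Subgroup.zpowers (⟨z, Subgroup.mem_centralizer_singleton_iff.mpr rfl⟩ : ↥(Subgroup.centralizer ({z} : Set G))) ≤ A →
        A ≤ Cfsg.generalizedFittingSubgroup ↥(Subgroup.centralizer ({z} : Set G)) → A = Subgroup.zpowers (⟨z, Subgroup.mem_centralizer_singleton_iff.mpr rfl⟩ : ↥(Subgroup.centralizer ({z} : Set G))) ∨ A = Cfsg.generalizedFittingSubgroup ↥(Subgroup.centralizer ({z} : Set G)))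

/-- S1762. -/
def St1762 : Prop :=
  ∀ (G : Type u) [Group G] [Finite G] [IsSimpleGroup G]
    (_ : ¬ IsMulCommutative G) (z : G) (_ : orderOf z = 2) (_ : Cfsg.IsOfSymplecticType ↥(Cfsg.generalizedFittingSubgroup ↥(Subgroup.centralizer ({z} : Set G)))) (_ : Cfsg.IsExtraspecial 2 ↥(Cfsg.generalizedFittingSubgroup ↥(Subgroup.centralizer ({z} : Set G)))) (_ : Nat.card ↥(Cfsg.generalizedFittingSubgroup ↥(Subgroup.centralizer ({z} : Set G))) = 2 ^ 7),
    (∃ (F : Type) (_ : Field F) (_ : Fintype F), Fintype.card F = 2 ∧ Nonempty (G ≃* Matrix.ProjectiveSpecialLinearGroup (Fin 5) F)) ∨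
      (∃ (F : Type) (_ : Field F) (_ : Fintype F), Fintype.card F = 4 ∧ Nonempty (G ≃* Cfsg.PSU 5 F 2)) ∨
      Cfsg.Spor.IsoM24 G ∨ Cfsg.Spor.IsoHe G ∨ Cfsg.Spor.IsoSuz G

/-- S1763. -/
def St1763 : Prop :=
  ∀ (G : Type u) [Group G] [Finite G] [IsSimpleGroup G]
    (_ : ¬ IsMulCommutative G) (z : G) (_ : orderOf z = 2) (_ : Cfsg.IsOfSymplecticType ↥(Cfsg.generalizedFittingSubgroup ↥(Subgroup.centralizer ({z} : Set G)))) (_ : Cfsg.IsExtraspecial 2 ↥(Cfsg.generalizedFittingSubgroup ↥(Subgroup.centralizer ({z} : Set G)))) (_ : Nat.card ↥(Cfsg.generalizedFittingSubgroup ↥(Subgroup.centralizer ({z} : Set G))) = 2 ^ 9),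
    (∃ (F : Type) (_ : Field F) (_ : Fintype F), Fintype.card F = 2 ∧ (Nonempty (G ≃* Matrix.ProjectiveSpecialLinearGroup (Fin 6) F) ∨
        Nonempty (G ≃* Cfsg.POmega F (Cfsg.quadFormPlus 4 F)) ∨
        (∃ a b : F, (∀ z₁ z₂ : F, z₁ ^ 2 + a * z₁ * z₂ + b * z₂ ^ 2 = 0 → z₁ = 0 ∧ z₂ = 0) ∧
          Nonempty (G ≃* Cfsg.POmega F (Cfsg.quadFormMinus 3 F a b))))) ∨
      (∃ (F : Type) (_ : Field F) (_ : Fintype F), Fintype.card F = 4 ∧ Nonempty (G ≃* Cfsg.PSU 6 F 2)) ∨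
      (∃ (K : Type) (_ : Field K) (_ : Fintype K), Fintype.card K = 8 ∧ Nonempty (G ≃* ↥(Cfsg.Lie.twistedD4 K 2))) ∨
      (∃ (F : Type) (_ : Field F) (_ : Fintype F), Fintype.card F = 3 ∧ Nonempty (G ≃* Cfsg.POmega F (Cfsg.quadFormPlus 4 F))) ∨
      Cfsg.Spor.IsoCo1 G ∨ Cfsg.Spor.IsoCo2 G ∨ Cfsg.Spor.IsoTh G ∨ Cfsg.Spor.IsoHN G

/-- The disjuncts of S1759 are on the list. -/
theorem known_1759 {X : Type u} [Group X]
    (h : (∃ (F : Type) (_ : Field F) (_ : Fintype F), Fintype.card F = 9 ∧ (Nonempty (X ≃* Cfsg.PSU 3 F 3) ∨ Nonempty (X ≃* Cfsg.PSU 4 F 3))) ∨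
      (∃ (F : Type) (_ : Field F) (_ : Fintype F), Fintype.card F = 4 ∧ Nonempty (X ≃* Cfsg.PSU 4 F 2)) ∨
      (∃ (F : Type) (_ : Field F) (_ : Fintype F), Fintype.card F = 3 ∧ (Nonempty (X ≃* Matrix.ProjectiveSpecialLinearGroup (Fin 4) F) ∨
        Nonempty (X ≃* ↥(Cfsg.Lie.chevG2.group F)))) ∨
      Nonempty (X ≃* ↥(alternatingGroup (Fin 8))) ∨
      Nonempty (X ≃* ↥(alternatingGroup (Fin 9))) ∨
      Cfsg.Spor.IsoM12 X ∨ Cfsg.Spor.IsoJ2 X ∨ Cfsg.Spor.IsoJ3 X) : IsKnownSimple' X := by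
  rcases h with ⟨F, _, _, hF, f | f⟩ | ⟨F, _, _, hF, f⟩ | ⟨F, i, j, hF, f | f⟩ | f | f | h | h | h
  · exact known_u3 le_rfl (by rw [hF]; norm_num) f
  · exact known_u le_rfl (by rw [hF]; norm_num) f
  · exact known_u le_rfl (by rw [hF]; norm_num) f
  · exact known_l (by norm_num) f
  · exact known_exc (Or.inl ⟨F, i, j, by omega, f⟩)
  · exact known_alt 8 (by norm_num) f
  · exact known_alt 9 (by norm_num) f
  · exact known_spor (by simp only [IsSporadicGroup]; tauto)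
  · exact known_spor (by simp only [IsSporadicGroup]; tauto)
  · exact known_spor (by simp only [IsSporadicGroup]; tauto)

/-- The conclusion of S1762 is on the list. -/
theorem known_1762 (h : (∃ (F : Type) (_ : Field F) (_ : Fintype F), Fintype.card F = 2 ∧ Nonempty (G ≃* Matrix.ProjectiveSpecialLinearGroup (Fin 5) F)) ∨
      (∃ (F : Type) (_ : Field F) (_ : Fintype F), Fintype.card F = 4 ∧ Nonempty (G ≃* Cfsg.PSU 5 F 2)) ∨
      Cfsg.Spor.IsoM24 G ∨ Cfsg.Spor.IsoHe G ∨ Cfsg.Spor.IsoSuz G) : IsKnownSimple' G := by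
  rcases h with ⟨F, _, _, -, f⟩ | ⟨F, _, _, hF, f⟩ | h
  · exact known_l (by norm_num) f
  · exact known_u (by norm_num) (by rw [hF]; norm_num) f
  · exact known_spor (by simp only [IsSporadicGroup]; tauto)

/-- The conclusion of S1763 is on the list. -/
theorem known_1763 (h : (∃ (F : Type) (_ : Field F) (_ : Fintype F), Fintype.card F = 2 ∧ (Nonempty (G ≃* Matrix.ProjectiveSpecialLinearGroup (Fin 6) F) ∨
        Nonempty (G ≃* Cfsg.POmega F (Cfsg.quadFormPlus 4 F)) ∨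
        (∃ a b : F, (∀ z₁ z₂ : F, z₁ ^ 2 + a * z₁ * z₂ + b * z₂ ^ 2 = 0 → z₁ = 0 ∧ z₂ = 0) ∧
          Nonempty (G ≃* Cfsg.POmega F (Cfsg.quadFormMinus 3 F a b))))) ∨
      (∃ (F : Type) (_ : Field F) (_ : Fintype F), Fintype.card F = 4 ∧ Nonempty (G ≃* Cfsg.PSU 6 F 2)) ∨
      (∃ (K : Type) (_ : Field K) (_ : Fintype K), Fintype.card K = 8 ∧ Nonempty (G ≃* ↥(Cfsg.Lie.twistedD4 K 2))) ∨
      (∃ (F : Type) (_ : Field F) (_ : Fintype F), Fintype.card F = 3 ∧ Nonempty (G ≃* Cfsg.POmega F (Cfsg.quadFormPlus 4 F))) ∨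
      Cfsg.Spor.IsoCo1 G ∨ Cfsg.Spor.IsoCo2 G ∨ Cfsg.Spor.IsoTh G ∨ Cfsg.Spor.IsoHN G) : IsKnownSimple' G := by
  rcases h with ⟨F, i, j, -, f | f | ⟨a, b, hab, f⟩⟩ | ⟨F, _, _, hF, f⟩ | ⟨K, i, j, hK, f⟩ | ⟨F, i, j, -, f⟩ | h
  · exact known_l (by norm_num) f
  · exact known_poPlus ⟨F, i, j, 4, le_rfl, f⟩
  · exact known_poMinus ⟨F, i, j, 4, a, b, le_rfl, hab, f⟩
  · exact known_u (by norm_num) (by rw [hF]; norm_num) f
  · exact known_3d4 (r := 1) le_rfl (by rw [hK]; norm_num) (by simpa using f)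
  · exact known_poPlus ⟨F, i, j, 4, le_rfl, f⟩
  · exact known_spor (by simp only [IsSporadicGroup]; tauto)

/-! ## Simple groups -/

theorem center_eq_bot [IsSimpleGroup G] (hna : ¬ IsMulCommutative G) : center G = ⊥ := by
  rcases (inferInstance : (center G).Normal).eq_bot_or_eq_top with h1 | h1
  · exact h1
  · exfalso
    refine hna ⟨⟨fun a b => ?_⟩⟩
    exact mem_center_iff.mp (h1 ▸ mem_top b : b ∈ center G) a

theorem quasisimple [IsSimpleGroup G] (hna : ¬ IsMulCommutative G) : IsQuasisimple G := by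
  have hc := center_eq_bot hna
  refine ⟨?_, ?_⟩
  · have h1 : commutator G = ⊤ := by
      rcases (inferInstance : (commutator G).Normal).eq_bot_or_eq_top with h1 | h1
      · exfalso
        refine hna ⟨⟨fun a b => ?_⟩⟩
        rw [commutator_def, Subgroup.commutator_eq_bot_iff_le_centralizer] at h1
        exact (mem_centralizer_iff.mp (h1 (mem_top a)) b (mem_top b)).symm
      · exact h1
    exact ⟨h1⟩
  · have e : G ≃* G ⧸ center G :=
      (QuotientGroup.quotientBot.symm).trans (QuotientGroup.quotientMulEquivOfEq hc.symm)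
    exact OddHalf.Known.isSimple_congr e inferInstance

theorem not_comm_congr {X Y : Type*} [Group X] [Group Y] (e : X ≃* Y) (h : ¬ IsMulCommutative X) :
    ¬ IsMulCommutative Y := by
  intro h1
  apply h
  refine ⟨⟨fun a b => ?_⟩⟩
  apply e.injective
  rw [map_mul, map_mul]
  exact h1.is_comm.comm _ _

/-- The generalized Fitting subgroup of a non-abelian simple group is the group. -/
theorem genFitting_eq_top [IsSimpleGroup G] (hna : ¬ IsMulCommutative G) :
    generalizedFittingSubgroup G = ⊤ := by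
  have e : G ≃* ↥(⊤ : Subgroup G) := Subgroup.topEquiv.symm
  have : IsSimpleGroup ↥(⊤ : Subgroup G) := OddHalf.Known.isSimple_congr e inferInstance
  have h1 : IsComponent (⊤ : Subgroup G) :=
    ⟨Subgroup.IsSubnormal.top, quasisimple (not_comm_congr e hna)⟩
  have h2 : (⊤ : Subgroup G) ≤ layer G := le_sSup h1
  rw [eq_top_iff]
  exact h2.trans le_sup_left

/-- S1759 for simple groups. -/
theorem known_of_1759 (h59 : St1759.{u}) [Finite G] [IsSimpleGroup G] (hna : ¬ IsMulCommutative G) {z : G}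
    (hz : orderOf z = 2)
    (hQ : IsOfSymplecticType ↥(generalizedFittingSubgroup ↥(centralizer ({z} : Set G))))
    (hE : IsExtraspecial 2 ↥(generalizedFittingSubgroup ↥(centralizer ({z} : Set G))))
    (hc : Nat.card ↥(generalizedFittingSubgroup ↥(centralizer ({z} : Set G))) = 32) :
    IsKnownSimple' G := by
  have h1 := genFitting_eq_top hna
  have e : ↥(generalizedFittingSubgroup G) ≃* G := (MulEquiv.subgroupCongr h1).trans Subgroup.topEquiv
  have hs : IsSimpleGroup ↥(generalizedFittingSubgroup G) :=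
    OddHalf.Known.isSimple_congr e.symm inferInstance
  have hn := not_comm_congr e.symm hna
  exact OddHalf.Known.isKnownSimple'_congr e hn (known_1759 (h59 G z hz hQ hE hc hs hn))

/-! ## Characteristic 2 type -/

theorem normalizer_zpowers_eq {z : G} (hz : orderOf z = 2) :
    Subgroup.normalizer ((zpowers z : Subgroup G) : Set G) = centralizer ({z} : Set G) := by
  have hz2 : z * z = 1 := by rw [← pow_two, ← hz]; exact pow_orderOf_eq_one z
  have hz1 : z ≠ 1 := by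
    rintro rfl
    rw [orderOf_one] at hz
    omega
  have hmem : ∀ x : G, x ∈ zpowers z ↔ x = 1 ∨ x = z := by
    intro x
    constructor
    · rintro ⟨k, rfl⟩
      dsimp only
      rcases Int.even_or_odd' k with ⟨m, rfl | rfl⟩
      · left
        rw [zpow_mul]
        have : z ^ (2 : ℤ) = 1 := by rw [zpow_ofNat, pow_two, hz2]
        rw [this, one_zpow]
      · right
        rw [zpow_add, zpow_mul]
        have : z ^ (2 : ℤ) = 1 := by rw [zpow_ofNat, pow_two, hz2]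
        rw [this, one_zpow, one_mul, zpow_one]
    · rintro (rfl | rfl)
      · exact one_mem _
      · exact mem_zpowers _
  ext g
  rw [mem_centralizer_singleton_iff, Subgroup.mem_normalizer_iff]
  constructor
  · intro h
    have h1 := (h z).1 (mem_zpowers z)
    rcases (hmem _).1 h1 with h2 | h2
    · exfalso
      apply hz1
      have : z = g⁻¹ * (g * z * g⁻¹) * g := by group
      rw [this, h2]
      group
    · exact (mul_inv_eq_iff_eq_mul.1 h2)
  · intro h x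
    rw [hmem, hmem]
    constructor
    · rintro (rfl | rfl)
      · left; group
      · right; rw [h]; group
    · rintro (h1 | h1)
      · left
        have : x = g⁻¹ * (g * x * g⁻¹) * g := by group
        rw [this, h1]; group
      · right
        have : x = g⁻¹ * (g * x * g⁻¹) * g := by group
        rw [this, h1, mul_assoc, ← h]; group

/-- The centralizer of an involution in a group of characteristic 2 type. -/
theorem char2_centralizer (h2 : IsCharacteristicTwoType G) {z : G} (hz : orderOf z = 2) :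
    IsOfCharacteristicTwo ↥(centralizer ({z} : Set G)) := by
  have h1 : IsPGroup 2 ↥(zpowers z) := by
    apply IsPGroup.of_card (n := 1)
    rw [Nat.card_zpowers, hz, pow_one]
  have h3 : (zpowers z : Subgroup G) ≠ ⊥ := by
    intro h
    rw [zpowers_eq_bot] at h
    rw [h, orderOf_one] at hz
    omega
  have h4 := h2.2 (zpowers z) h1 h3
  rwa [normalizer_zpowers_eq hz] at h4

/-- `F*(C_G(z)) = O₂(C_G(z))`. -/
theorem genFitting_centralizer [Finite G] (h2 : IsCharacteristicTwoType G) {z : G} (hz : orderOf z = 2) :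
    generalizedFittingSubgroup ↥(centralizer ({z} : Set G)) = pCore 2 ↥(centralizer ({z} : Set G)) := by
  have : Fact (Nat.Prime 2) := ⟨Nat.prime_two⟩
  exact SignalizersComponents.CharP.genFitting_eq_pCore_iff.2 (char2_centralizer h2 hz)

/-- **Large extraspecial involution centralizer**: `O₂(C_G(z))` is extraspecial of order `2^(2n+1)`. -/
structure Extra (z : G) (n : ℕ) : Prop where
  ord : orderOf z = 2
  ext : IsExtraspecial 2 ↥(pCore 2 ↥(centralizer ({z} : Set G)))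
  card : Nat.card ↥(pCore 2 ↥(centralizer ({z} : Set G))) = 2 ^ (2 * n + 1)

section Extra

variable [Finite G] (h2 : IsCharacteristicTwoType G) {z : G} {n : ℕ}

include h2

theorem Extra.hE (h : Extra z n) :
    IsExtraspecial 2 ↥(generalizedFittingSubgroup ↥(centralizer ({z} : Set G))) := by
  rw [genFitting_centralizer h2 h.ord]
  exact h.ext

theorem Extra.hcard (h : Extra z n) :
    Nat.card ↥(generalizedFittingSubgroup ↥(centralizer ({z} : Set G))) = 2 ^ (2 * n + 1) := by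
  rw [genFitting_centralizer h2 h.ord]
  exact h.card

theorem Extra.hQ (h : Extra z n) (hn : 2 ≤ n) :
    IsOfSymplecticType ↥(generalizedFittingSubgroup ↥(centralizer ({z} : Set G))) := by
  apply GH.C2Extra.isOfSymplecticType (h.hE h2)
  rw [h.hcard h2]
  calc 8 < 2 ^ (2 * 2 + 1) := by norm_num
    _ ≤ 2 ^ (2 * n + 1) := Nat.pow_le_pow_right (by norm_num) (by omega)

/-- Exit `n = 2` (S1759). -/
theorem Extra.known_two [IsSimpleGroup G] (hna : ¬ IsMulCommutative G) (h59 : St1759.{u}) (h : Extra z 2) :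
    IsKnownSimple' G :=
  known_of_1759 h59 hna h.ord (h.hQ h2 le_rfl) (h.hE h2) (by rw [h.hcard h2]; norm_num)

/-- Exit `n = 3` (S1762). -/
theorem Extra.known_three [IsSimpleGroup G] (hna : ¬ IsMulCommutative G) (h62 : St1762.{u}) (h : Extra z 3) :
    IsKnownSimple' G :=
  known_1762 (h62 G hna z h.ord (h.hQ h2 (by norm_num)) (h.hE h2) (by rw [h.hcard h2]))

/-- Exit `n = 4` (S1763). -/
theorem Extra.known_four [IsSimpleGroup G] (hna : ¬ IsMulCommutative G) (h63 : St1763.{u}) (h : Extra z 4) :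
    IsKnownSimple' G :=
  known_1763 (h63 G hna z h.ord (h.hQ h2 (by norm_num)) (h.hE h2) (by rw [h.hcard h2]))

/-- `C_G(z)` acts irreducibly on `O₂(C_G(z))/⟨z⟩` (the third alternative of S1761). -/
def Irr (z : G) : Prop :=
  ∀ A : Subgroup ↥(centralizer ({z} : Set G)), A.Normal →
    zpowers (⟨z, mem_centralizer_singleton_iff.mpr rfl⟩ : ↥(centralizer ({z} : Set G))) ≤ A →
    A ≤ pCore 2 ↥(centralizer ({z} : Set G)) →
    A = zpowers (⟨z, mem_centralizer_singleton_iff.mpr rfl⟩ : ↥(centralizer ({z} : Set G))) ∨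
      A = pCore 2 ↥(centralizer ({z} : Set G))

/-- Exit `n ≥ 3` (S1761): known, or irreducible action. -/
theorem Extra.known_or_irr [IsSimpleGroup G] (h61 : St1761.{u}) (h : Extra z n) (hn : 3 ≤ n) :
    IsKnownSimple' G ∨ Irr z := by
  rcases h61 G z h.ord (h.hQ h2 (by omega)) (h.hE h2) n hn (h.hcard h2) with ⟨F, _, _, -, f⟩ | ⟨-, h1⟩ | h1
  · exact Or.inl (known_l (by omega) f)
  · left
    exact known_spor (by simp only [IsSporadicGroup]; tauto)
  · right
    rw [genFitting_centralizer h2 h.ord] at h1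
    exact h1

end Extra

/-! ## Sectional rank and order -/

/-- A group of sectional 2-rank at least 5 has order divisible by 32. -/
theorem dvd_card [Finite G] (h : ¬ SectionalPRankLE 2 4 G) : 32 ∣ Nat.card G := by
  have : Fact (Nat.Prime 2) := ⟨Nat.prime_two⟩
  simp only [SectionalPRankLE, PRankLE, not_forall, not_le] at h
  obtain ⟨H, N, _, A, -, hA, hc⟩ := h
  have h1 : IsPGroup 2 ↥A := by
    intro a
    exact ⟨1, by rw [pow_one]; exact Subtype.ext (hA _ a.2)⟩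
  obtain ⟨k, hk⟩ := IsPGroup.iff_card.1 h1
  have h5 : 5 ≤ k := by
    by_contra hlt
    have : 2 ^ k ≤ 2 ^ 4 := Nat.pow_le_pow_right (by norm_num) (by omega)
    omega
  have h2 : 32 ∣ Nat.card ↥A := by
    rw [hk]
    exact (pow_dvd_pow 2 h5 : 2 ^ 5 ∣ 2 ^ k)
  refine h2.trans ((Subgroup.card_subgroup_dvd_card A).trans ?_)
  exact (Subgroup.card_quotient_dvd_card N).trans (Subgroup.card_subgroup_dvd_card H)

end Cfsg.Agent.Omega.Exits
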