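import Cfsg.Agent.Omega.FrameFF
import Cfsg.Agent.ZN.ChoiceSit

/-!
# The K-free FF theorem for minimal parabolics, as a proposition

`T` is a Sylow 2-subgroup of `H`, `H` is a minimal parabolic over `T` (`IsMinPar T H`) of characteristic 2,
`V = zl T H = ⟨Ω₁(Z(T))^H⟩`, `D = cv T H = C_V(O²(H))`.

* `Off V A` : `A` is elementary abelian, `[V, A] ≠ 1` and `|V : C_V(A)| ≤ |A : C_A(V)|`;
* `NoOver V H` : `|A : C_A(V)| ≤ |V : C_V(A)|` for all elementary abelian 2-subgroups `A` of `H`;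
* `NatK F T H V D k` : `V / D` is the direct sum of `k` natural `SL₂(F)`-modules (coordinates `e`), the group
  `SL₂(F)^k` is induced by elements of `H` which centralise `D` and is normal in `H / C_H(V)`, `H` permutes the
  summands, `T` permutes them transitively, `T` respects the lines `{x | x 1 = 0}`, `H = SL₂(F)^k T C_H(V)`, and
  every offender in `T` is a product of full root groups;
* `SymK T H V D k m` : the same with `k` even-subset modules of `S_{2^m+1}`; every offender in `T` is generated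
  by transpositions;
* `FFThm` : the statement (#12272; authors helper431, 645, 385, 31, 65, 670, 51, 150);
* `NatK.single` : `k = 1` gives `FrameFF.Single`;
* `FFThm.of_mutual` : the consequence for the members of a mutual pair.
-/

set_option autoImplicit false

namespace Cfsg.Agent.Omega

open Subgroup Cfsg Cfsg.Agent.ZN Cfsg.Agent.ZN.ChoiceBase Cfsg.Agent.ZN.ChoiceSit Cfsg.Agent.Omega.MinPar
open Cfsg.Agent.Omega.FrameFF Cfsg.Agent.MinSimple.MinParabolic
open Cfsg.Agent.Omega.NatPair (ap)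
open Cfsg.Agent.Lib.SL2Mat

universe u

namespace FFThm

section defs

variable {G : Type u} [Group G]

/-! ### Offenders -/

/-- `A` is an offender on `V`: elementary abelian, `[V, A] ≠ 1`, `|V : C_V(A)| ≤ |A : C_A(V)|`. -/
structure Off (V A : Subgroup G) : Prop where
  elem : IsElementaryAbelian 2 A
  ne : ¬ A ≤ centralizer (V : Set G)
  le : Nat.card V * Nat.card ↥(A ⊓ centralizer (V : Set G)) ≤
    Nat.card A * Nat.card ↥(V ⊓ centralizer (A : Set G))

/-- No over-offender: `|A : C_A(V)| ≤ |V : C_V(A)|` for all elementary abelian 2-subgroups `A` of `H`. -/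
def NoOver (V H : Subgroup G) : Prop :=
  ∀ A : Subgroup G, A ≤ H → IsElementaryAbelian 2 A →
    Nat.card A * Nat.card ↥(V ⊓ centralizer (A : Set G)) ≤
      Nat.card V * Nat.card ↥(A ⊓ centralizer (V : Set G))

/-! ### Sums of natural `SL₂(F)`-modules -/

/-- `g` acts as `A ∈ SL₂(F)^k` on the coordinates of `V` and trivially on `D`. -/
def ActsSL {F : Type} [Field F] {k : ℕ} (e : G → Fin k → Fin 2 → F) (V D : Subgroup G) (g : G)
    (A : Fin k → Matrix.SpecialLinearGroup (Fin 2) F) : Prop :=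
  (∀ v ∈ V, ∀ i, e (g * v * g⁻¹) i = ap (A i) (e v i)) ∧ ∀ d ∈ D, g * d = d * g

/-- `V / D` is the sum of `k` natural modules for the normal subgroup `SL₂(F)^k` of `H / C_H(V)`. -/
structure NatK (F : Type) [Field F] (T H V D : Subgroup G) (k : ℕ) where
  e : G → Fin k → Fin 2 → F
  mul : ∀ v ∈ V, ∀ w ∈ V, e (v * w) = e v + e w
  surj : ∀ x : Fin k → Fin 2 → F, ∃ v ∈ V, e v = x
  ker : ∀ v ∈ V, e v = 0 ↔ v ∈ D
  lift : ∀ A : Fin k → Matrix.SpecialLinearGroup (Fin 2) F, ∃ g ∈ H, ActsSL e V D g A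
  norm : ∀ g ∈ H, ∀ h ∈ H, ∀ A : Fin k → Matrix.SpecialLinearGroup (Fin 2) F,
    (∀ v ∈ V, ∀ i, e (h * v * h⁻¹) i = ap (A i) (e v i)) →
      ∃ B : Fin k → Matrix.SpecialLinearGroup (Fin 2) F,
        ∀ v ∈ V, ∀ i, e (g * h * g⁻¹ * v * (g * h * g⁻¹)⁻¹) i = ap (B i) (e v i)
  /-- `H` permutes the summands -/
  perm : ∀ g ∈ H, ∃ σ : Equiv.Perm (Fin k), ∀ v ∈ V, ∀ i, e (g * v * g⁻¹) (σ i) = 0 ↔ e v i = 0
  /-- `T` is transitive on the summands -/
  trans : ∀ i j, ∃ t ∈ T, ∀ v ∈ V, e (t * v * t⁻¹) j = 0 ↔ e v i = 0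
  /-- `T` permutes the lines `{x | x 1 = 0}` -/
  line : ∀ t ∈ T, ∃ σ : Equiv.Perm (Fin k), ∀ v ∈ V, ∀ i,
    e (t * v * t⁻¹) (σ i) 1 = 0 ↔ e v i 1 = 0
  /-- the upper unitriangular elements are induced by `T` -/
  unip : ∀ b : Fin k → F, ∃ t ∈ T, ActsSL e V D t fun i => up (b i)
  /-- `H = SL₂(F)^k T C_H(V)` -/
  gen : ∀ K : Subgroup G, T ≤ K → (∀ h ∈ H, ∀ A, ActsSL e V D h A → h ∈ K) → H ≤ K
  /-- every offender in `T` is a product of full root groups -/
  off : ∀ A : Subgroup G, A ≤ T → Off V A → ∃ I : Set (Fin k),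
    (∀ a ∈ A, ∃ b : Fin k → F, (∀ i, i ∉ I → b i = 0) ∧ ActsSL e V D a fun i => up (b i)) ∧
      ∀ b : Fin k → F, (∀ i, i ∉ I → b i = 0) → ∃ a ∈ A, ActsSL e V D a fun i => up (b i)

/-! ### Sums of even-subset modules -/

/-- `g` acts on the coordinates of `V` by the permutation `(σ, τ)` of the points. -/
def ActsSym {k n : ℕ} (e : G → Fin k → Fin n → ZMod 2) (V : Subgroup G) (g : G)
    (σ : Equiv.Perm (Fin k)) (τ : Fin k → Equiv.Perm (Fin n)) : Prop :=
  ∀ v ∈ V, ∀ i x, e (g * v * g⁻¹) (σ i) (τ i x) = e v i x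

/-- `V / D` is the sum of `k` even-subset modules of symmetric groups of degree `2^m + 1`. -/
structure SymK (T H V D : Subgroup G) (k m : ℕ) where
  e : G → Fin k → Fin (2 ^ m + 1) → ZMod 2
  mul : ∀ v ∈ V, ∀ w ∈ V, e (v * w) = e v + e w
  even : ∀ v ∈ V, ∀ i, ∑ x, e v i x = 0
  surj : ∀ y : Fin k → Fin (2 ^ m + 1) → ZMod 2, (∀ i, ∑ x, y i x = 0) → ∃ v ∈ V, e v = y
  ker : ∀ v ∈ V, e v = 0 ↔ v ∈ D
  lift : ∀ τ : Fin k → Equiv.Perm (Fin (2 ^ m + 1)), ∃ g ∈ H, ActsSym e V g 1 τ ∧ ∀ d ∈ D, g * d = d * g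
  perm : ∀ g ∈ H, ∃ σ τ, ActsSym e V g σ τ
  /-- `T` is transitive on the summands -/
  trans : ∀ i j, ∃ t ∈ T, ∃ σ τ, ActsSym e V t σ τ ∧ σ i = j
  /-- `T` fixes the points `0` -/
  fix0 : ∀ t ∈ T, ∀ σ τ, ActsSym e V t σ τ → ∀ i, τ i 0 = 0
  /-- `H = (S_{2^m+1})^k T C_H(V)` -/
  gen : ∀ K : Subgroup G, T ≤ K →
    (∀ h ∈ H, ∀ τ, ActsSym e V h 1 τ → (∀ d ∈ D, h * d = d * h) → h ∈ K) → H ≤ K
  /-- every offender in `T` is generated by transpositions -/
  off : ∀ A : Subgroup G, A ≤ T → Off V A → (∀ a ∈ A, ∀ d ∈ D, a * d = d * a) ∧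
    ∀ a ∈ A, ∃ τ : Fin k → Equiv.Perm (Fin (2 ^ m + 1)), ActsSym e V a 1 τ ∧
      ∀ i x, τ i x ≠ x → τ i (τ i x) = x ∧
        ∃ b ∈ A, ActsSym e V b 1 (Function.update 1 i (Equiv.swap x (τ i x)))

/-- The conclusion of the FF theorem. -/
def Concl (T H : Subgroup G) : Prop :=
  (∃ (F : Type) (_ : Field F) (_ : Finite F) (_ : CharP F 2) (k : ℕ),
    0 < k ∧ Nonempty (NatK F T H (zl T H) (cv T H) k)) ∨
  ∃ k m : ℕ, 0 < k ∧ 2 ≤ m ∧ Nonempty (SymK T H (zl T H) (cv T H) k m)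

end defs

/-- **The K-free FF theorem** (#12272) for a minimal parabolic `H` of characteristic 2 over its Sylow
2-subgroup `T`, `V = zl T H`. -/
def Stmt : Prop :=
  ∀ (G : Type u) [Group G] [Finite G] (T H : Subgroup G), Syl T H → IsMinPar T H →
    H ⊓ centralizer (o2 H : Set G) ≤ o2 H → (∃ A : Subgroup G, A ≤ H ∧ Off (zl T H) A) →
      NoOver (zl T H) H ∧ Concl T H

/-! ### One summand -/

section single

variable {G : Type u} [Group G] {F : Type} [Field F] {T H V D : Subgroup G}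

/-- One natural summand: the structure of `FrameFF`. -/
def NatK.natOver (h : NatK F T H V D 1) : NatOver F H V D where
  e g := h.e g 0
  mul v hv w hw := by rw [h.mul v hv w hw]; rfl
  surj x := by
    obtain ⟨v, hv, hx⟩ := h.surj fun _ => x
    exact ⟨v, hv, by rw [hx]⟩
  ker v hv := by
    rw [← h.ker v hv]
    constructor
    · intro h0
      funext i
      rw [Subsingleton.elim i 0, h0]
      rfl
    · intro h0
      rw [h0]
      rfl
  lift A := by
    obtain ⟨g, hg, h1, h2⟩ := h.lift fun _ => A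
    exact ⟨g, hg, fun v hv => h1 v hv 0, h2⟩
  norm g hg x hx A hA := by
    obtain ⟨B, hB⟩ := h.norm g hg x hx (fun _ => A) fun v hv i => by
      rw [Subsingleton.elim i 0]
      exact hA v hv
    exact ⟨B 0, fun v hv => hB v hv 0⟩

theorem NatK.single [Finite F] [CharP F 2] (h : NatK F T H (zl T H) (cv T H) 1) : Single T H :=
  ⟨F, inferInstance, inferInstance, inferInstance, ⟨h.natOver⟩⟩

end single

/-! ### Conjugation and symmetry of offenders -/

section off

variable {G : Type u} [Group G]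

theorem off_cj {V A : Subgroup G} (h : Off V A) (g : G) : Off (cj g V) (cj g A) := by
  refine ⟨isElementaryAbelian_cj g h.elem, fun h0 => h.ne ?_, ?_⟩
  · rw [← cj_centralizer, cj_le_iff, cj_inv_cj] at h0
    exact h0
  · rw [← cj_centralizer, ← cj_centralizer, ← cj_inf, ← cj_inf, card_cj, card_cj, card_cj, card_cj]
    exact h.le

/-- Of two elementary abelian groups which do not commute, one is an offender on the other. -/
theorem off_or {V W : Subgroup G} (hV : IsElementaryAbelian 2 V) (hW : IsElementaryAbelian 2 W)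
    (hne : ¬ W ≤ centralizer (V : Set G)) : Off V W ∨ Off W V := by
  have hne' : ¬ V ≤ centralizer (W : Set G) := fun h => hne (le_centralizer_iff.mp h)
  rcases le_total (Nat.card V * Nat.card ↥(W ⊓ centralizer (V : Set G)))
    (Nat.card W * Nat.card ↥(V ⊓ centralizer (W : Set G))) with h | h
  · exact Or.inl ⟨hW, hne, h⟩
  · exact Or.inr ⟨hV, hne', h⟩

end off

end FFThm

end Cfsg.Agent.Omega
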