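import Cfsg.Agent.Omega.Frame
import Cfsg.Agent.Omega.Exits
import Cfsg.Agent.OddHalf.Known
import Cfsg.Agent.S0095
import Cfsg.Agent.Lib.Cores

/-!
# The node "`F*(C_G(z))` is of symplectic type" (project OMEGA, shared by II.a, II.b, NO-1', `q = 2`)

`G` as in `Ctx G` (simple, K-proper, characteristic 2 type, sectional 2-rank at least 5), `z` an involution.

* `NodeSympl` : `F*(C_G(z))` of symplectic type implies that `G` is known (this is what the nodes with `q = 2` deliver);
* `NodeExtra` : the same for `O₂(C_G(z))` extraspecial (`Exits.Extra z n`);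
* `LeafWC` : `n ≥ 5`, `C_G(z)` irreducible on `Q/⟨z⟩`, `z` weakly closed in `Q` (WCN + S0480);
* `LeafEH3` : `n ≥ 5`, irreducible, `z` not weakly closed in `Q` (EH3);
* `nodeExtra`, `nodeSympl`: S1758, S1759, S1761, S1762, S1763 and the two leaves imply the nodes.
-/

set_option autoImplicit false

namespace Cfsg.Agent.Omega.FrameExtra

open Subgroup Cfsg Cfsg.Agent.ZN Cfsg.Agent.Omega.MinPar Cfsg.Agent.Omega.Frame Cfsg.Agent.Omega.Exits

universe u

section leaves

variable (K : Cls.{u})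

/-- `F*(C_G(z))` of symplectic type. -/
def NodeSympl : Prop :=
  ∀ (G : Type u) [Group G] [Finite G], Ctx G → K G → ∀ z : G, orderOf z = 2 →
    IsOfSymplecticType ↥(generalizedFittingSubgroup ↥(centralizer ({z} : Set G))) → IsKnownSimple' G

/-- `O₂(C_G(z))` extraspecial. -/
def NodeExtra : Prop :=
  ∀ (G : Type u) [Group G] [Finite G], Ctx G → K G → ∀ (z : G) (n : ℕ), Extra z n → IsKnownSimple' G

/-- `n ≥ 5`, irreducible, `z` weakly closed in `O₂(C_G(z))`. -/
def LeafWC : Prop :=
  ∀ (G : Type u) [Group G] [Finite G], Ctx G → K G → ∀ (z : G) (n : ℕ), 5 ≤ n → Extra z n → Irr z →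
    (∀ g : G, g * z * g⁻¹ ∈ o2 (centralizer ({z} : Set G)) → g * z * g⁻¹ = z) → IsKnownSimple' G

/-- **EH3**: `n ≥ 5`, irreducible, `z` not weakly closed in `O₂(C_G(z))`. -/
def LeafEH3 : Prop :=
  ∀ (G : Type u) [Group G] [Finite G], Ctx G → K G → ∀ (z : G) (n : ℕ), 5 ≤ n → Extra z n → Irr z →
    (∃ g : G, g * z * g⁻¹ ∈ o2 (centralizer ({z} : Set G)) ∧ g * z * g⁻¹ ≠ z) → IsKnownSimple' G

end leaves

/-- S1758. -/
def St1758 : Prop :=
  ∀ (G : Type u) [Group G] [Finite G] [IsSimpleGroup G]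
    (_ : ¬ IsMulCommutative G) (z : G) (_ : orderOf z = 2) (_ : Cfsg.IsOfSymplecticType ↥(Cfsg.generalizedFittingSubgroup ↥(Subgroup.centralizer ({z} : Set G)))),
    Cfsg.IsExtraspecial 2 ↥(Cfsg.generalizedFittingSubgroup ↥(Subgroup.centralizer ({z} : Set G))) ∨
      (QuotientGroup.mk' (Cfsg.oddCore G) z ∈ Subgroup.center (G ⧸ Cfsg.oddCore G)) ∨
      (∃ (F : Type) (_ : Field F) (_ : Fintype F), ((∃ n : ℕ, Fintype.card F = 2 ^ n + 1) ∨ (∃ n : ℕ, Fintype.card F + 1 = 2 ^ n)) ∧
        Nonempty (G ≃* Matrix.ProjectiveSpecialLinearGroup (Fin 2) F)) ∨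
      Cfsg.Spor.IsoM11 G ∨
      (∃ (F : Type) (_ : Field F) (_ : Fintype F), Fintype.card F = 3 ∧ Nonempty (G ≃* Matrix.ProjectiveSpecialLinearGroup (Fin 3) F)) ∨
      (∃ (F : Type) (_ : Field F) (_ : Fintype F), Fintype.card F = 9 ∧ Nonempty (G ≃* Cfsg.PSU 3 F 3)) ∨
      Cfsg.Spor.IsoHS G

/-! ### Small extraspecial groups -/

section small

variable {G : Type u} [Group G] [Finite G]

theorem exists_extra {z : G} (h2 : IsCharacteristicTwoType G) (hz : orderOf z = 2)
    (he : IsExtraspecial 2 ↥(generalizedFittingSubgroup ↥(centralizer ({z} : Set G)))) :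
    ∃ n : ℕ, 1 ≤ n ∧ Extra z n := by
  have : Fact (Nat.Prime 2) := ⟨Nat.prime_two⟩
  have he' := he
  rw [genFitting_centralizer h2 hz] at he'
  obtain ⟨n, hn1, hn⟩ := Cfsg.Agent.S0095.result he'
  exact ⟨n, hn1, hz, he', hn⟩

end small

theorem oddCore_eq_bot {G : Type u} [Group G] [Finite G] (hG : Ctx G) {z : G} (hz : orderOf z = 2) :
    oddCore G = ⊥ := by
  have := hG.simple
  rcases (Cfsg.pPrimeCore_normal 2 G).eq_bot_or_eq_top with h | h
  · exact h
  · exfalso
    have h1 := Cfsg.Agent.Lib.Cores.pPrimeCore_coprime (G := G) 2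
    rw [h, Subgroup.card_top] at h1
    have h3 := Nat.coprime_two_right.1 h1
    exact (Nat.not_even_iff_odd.2 h3) (even_iff_two_dvd.2 (hz ▸ orderOf_dvd_natCard z))

theorem card_psl_two_dvd (F : Type) [Field F] [Fintype F] :
    Nat.card (Matrix.ProjectiveSpecialLinearGroup (Fin 2) F) ∣
      (Fintype.card F ^ 2 - 1) * (Fintype.card F ^ 2 - Fintype.card F) := by
  have h1 : Nat.card (Matrix.ProjectiveSpecialLinearGroup (Fin 2) F) ∣
      Nat.card (Matrix.SpecialLinearGroup (Fin 2) F) :=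
    Subgroup.card_quotient_dvd_card _
  refine h1.trans ?_
  have h2 : Nat.card (GL (Fin 2) F) = (Fintype.card F ^ 2 - 1) * (Fintype.card F ^ 2 - Fintype.card F) := by
    have h3 := Matrix.card_GL_field (𝔽 := F) 2
    rw [h3]
    simp [Finset.prod_fin_eq_prod_range, Finset.prod_range_succ]
  rw [← h2]
  exact Subgroup.card_dvd_of_injective (Matrix.SpecialLinearGroup.toGL)
    Matrix.SpecialLinearGroup.toGL_injective

/-- `n = 1` does not occur (`|S| ≤ 16`). -/
def LeafOne : Prop :=
  ∀ (G : Type u) [Group G] [Finite G], Ctx G → ∀ z : G, ¬ Extra z 1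

/-! ### The nodes -/

/-- **The node `O₂(C_G(z))` extraspecial.** -/
theorem nodeExtra (h1 : LeafOne.{u}) (h59 : St1759.{u}) (h61 : St1761.{u}) (h62 : St1762.{u}) (h63 : St1763.{u})
    {K : Cls.{u}} (hW : LeafWC K) (hE : LeafEH3 K) : NodeExtra K := by
  intro G _ _ hG hcl z n h
  have := hG.simple
  have hn1 : 1 ≤ n := by
    obtain ⟨m, hm1, hm⟩ := exists_extra hG.char2 h.ord (h.hE hG.char2)
    have h2 : (2 : ℕ) ^ (2 * n + 1) = 2 ^ (2 * m + 1) := by rw [← h.card, hm.card]
    have h3 := Nat.pow_right_injective (le_refl 2) h2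
    omega
  rcases Nat.lt_or_ge n 5 with hn | hn
  · interval_cases n
    · exact absurd h (h1 G hG z)
    · exact h.known_two hG.char2 hG.nonComm h59
    · exact h.known_three hG.char2 hG.nonComm h62
    · exact h.known_four hG.char2 hG.nonComm h63
  · rcases h.known_or_irr hG.char2 h61 (by omega) with hk | hI
    · exact hk
    · by_cases hw : ∀ g : G, g * z * g⁻¹ ∈ o2 (centralizer ({z} : Set G)) → g * z * g⁻¹ = z
      · exact hW G hG hcl z n hn h hI hw
      · push Not at hw
        exact hE G hG hcl z n hn h hI hw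

/-- **The node "`F*(C_G(z))` of symplectic type".** -/
theorem nodeSympl (h58 : St1758.{u}) {K : Cls.{u}} (hX : NodeExtra K) : NodeSympl K := by
  intro G _ _ hG hcl z hz hQ
  have := hG.simple
  rcases h58 G hG.nonComm z hz hQ with h | h | ⟨F, i, j, hF, e⟩ | h | ⟨F, i, j, hF, e⟩ | ⟨F, i, j, hF, e⟩ | h
  · obtain ⟨n, -, hn⟩ := exists_extra hG.char2 hz h
    exact hX G hG hcl z n hn
  · exfalso
    have hO := oddCore_eq_bot hG hz
    have h1 : z ∈ center G := by
      rw [mem_center_iff] at h ⊢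
      intro g
      have h2 := h (QuotientGroup.mk' (oddCore G) g)
      rw [← map_mul, ← map_mul, QuotientGroup.mk'_apply, QuotientGroup.mk'_apply, QuotientGroup.eq, hO,
        mem_bot, inv_mul_eq_one] at h2
      exact h2
    rw [center_eq_bot hG.nonComm, mem_bot] at h1
    rw [h1, orderOf_one] at hz
    omega
  · obtain ⟨e⟩ := e
    by_cases h4 : 4 ≤ Fintype.card F
    · exact known_l2 h4 ⟨e⟩
    · exfalso
      have h1 := dvd_card hG.rank
      rw [Nat.card_congr e.toEquiv] at h1
      have h2 := h1.trans (card_psl_two_dvd F)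
      have h3 : 1 < Fintype.card F := Fintype.one_lt_card
      interval_cases hc : Fintype.card F
      · norm_num at h2
      · norm_num at h2
  · exact known_spor (by simp only [IsSporadicGroup]; tauto)
  · exact known_l le_rfl e
  · exact known_u3 le_rfl (by rw [hF]; norm_num) e
  · exact known_spor (by simp only [IsSporadicGroup]; tauto)

end Cfsg.Agent.Omega.FrameExtra
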