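import Cfsg.Agent.Omega.FrameNOFF

/-!
# OMEGA: the first cut `V_P ≤ O₂(C_G(Z))` (ruling on #13114)

`AllIn S` : `V_P ≤ O₂(C_G(Z))` for all `P ∈ P*(S)`.  The master reduction (MASTER v5.2) reads

* `Frame.NodeIK K` (not `Full S`),
* `NodeN1 K` (`Full S`, not `AllIn S`; no hypothesis on mutual pairs),
* `NodeFF K` (`Full S`, `AllIn S`, a mutual pair),
* `FrameNOFF.NodeNO3S K`, `FrameNOFF.NodeNO3L K` (`Full S`, `AllIn S`, no mutual pair).
-/

set_option autoImplicit false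

namespace Cfsg.Agent.Omega.FrameLE

open Subgroup Cfsg Cfsg.Agent.ZN Cfsg.Agent.Omega.MinPar Cfsg.Agent.Omega.Frame
open Cfsg.Agent.Omega.FrameNOFF (CZ)

universe u

/-- `V_P ≤ O₂(C_G(Z))` for all `P ∈ P*(S)`. -/
def AllIn {G : Type u} [Group G] (S : Subgroup G) : Prop :=
  ∀ P : Subgroup G, IsParS S P → zl S P ≤ o2 (CZ S)

section nodes

variable (K : Cls.{u})

/-- **N1**: some `V_P`, `P ∈ P*(S)`, is not contained in `O₂(C_G(Z))` (mutual pairs allowed). -/
def NodeN1 : Prop :=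
  ∀ (G : Type u) [Group G] [Finite G], Ctx G → K G → ∀ (S : Sylow 2 G), Full (S : Subgroup G) →
    ∀ P : Subgroup G, IsParS (S : Subgroup G) P → ¬ zl (S : Subgroup G) P ≤ o2 (CZ (S : Subgroup G)) →
      IsKnownSimple' G

/-- **II**: `AllIn S` and a mutual pair. -/
def NodeFF : Prop :=
  ∀ (G : Type u) [Group G] [Finite G], Ctx G → K G → ∀ (S : Sylow 2 G), Full (S : Subgroup G) →
    AllIn (S : Subgroup G) → FF (S : Subgroup G) → IsKnownSimple' G

variable {K}

/-- **The even half, MASTER v5.2.** -/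
theorem evenHalf (hB : Bender.{u}) (h1 : NodeIK K) (hN : NodeN1 K) (h2 : NodeFF K)
    (h3 : FrameNOFF.NodeNO3S K) (h4 : FrameNOFF.NodeNO3L K) : EvenHalfK K := by
  refine evenHalfK hB h1 ?_ (FrameNOFF.nodeNOFF ?_ h3 h4)
  · intro G _ _ hG hcl S hF hm
    by_cases hLE : AllIn (S : Subgroup G)
    · exact h2 G hG hcl S hF hLE hm
    · unfold AllIn at hLE
      push Not at hLE
      obtain ⟨P, hP, hn⟩ := hLE
      exact hN G hG hcl S hF P hP hn
  · intro G _ _ hG hcl S hF _ ⟨P, hP, hn⟩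
    exact hN G hG hcl S hF P hP hn

end nodes

end Cfsg.Agent.Omega.FrameLE
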