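import Cfsg.Agent.OddHalf.Known
import Cfsg.Prelude.Def_Spor_M

/-!
# The classification from the odd half, the even half and the theorem on sectional 2-rank at most 4

`EvenHalf` : K-proper simple groups of characteristic 2 type and sectional 2-rank at least 5 are known.
`OddHalf` : the text of S1765.  `RankFour` : simple groups of sectional 2-rank at most 4 are known.
`classification` : the three together give the classification (minimal counterexample).
-/

set_option autoImplicit false

namespace Cfsg.Agent.Omega.Assembly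

open Cfsg

universe u

/-- **The even half.** -/
def EvenHalf : Prop :=
  ∀ (G : Type u) [Group G] [Finite G] [IsSimpleGroup G], ¬ IsMulCommutative G → IsKProper G →
    IsCharacteristicTwoType G → ¬ SectionalPRankLE 2 4 G → IsKnownSimple' G

/-- **Sectional 2-rank at most 4**, inside a K-proper group of characteristic 2 type. -/
def RankFour : Prop :=
  ∀ (G : Type u) [Group G] [Finite G] [IsSimpleGroup G], ¬ IsMulCommutative G → IsKProper G →
    IsCharacteristicTwoType G → SectionalPRankLE 2 4 G → IsKnownSimple' G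

/-- **The odd half** (consequence of S1765). -/
def OddKnown : Prop :=
  ∀ (G : Type u) [Group G] [Finite G] [IsSimpleGroup G], ¬ IsMulCommutative G → IsKProper G →
    ¬ IsCharacteristicTwoType G → IsKnownSimple' G

/-- The conclusion of S1765. -/
def OddConcl (G : Type u) [Group G] : Prop :=
    ((∃ p : ℕ, p.Prime ∧ p ≠ 2 ∧ Cfsg.IsLieTypeChar p G) ∧
        ¬ (∃ (F : Type) (_ : Field F) (_ : Fintype F), ((Fintype.card F).Prime ∧ ((∃ k : ℕ, Fintype.card F + 1 = 2 ^ k) ∨ (∃ k : ℕ, Fintype.card F = 2 ^ k + 1)) ∨ Fintype.card F = 9) ∧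
          Nonempty (G ≃* Matrix.ProjectiveSpecialLinearGroup (Fin 2) F)) ∧
        ¬ (∃ (F : Type) (_ : Field F) (_ : Fintype F), Fintype.card F = 3 ∧
          (Nonempty (G ≃* Matrix.ProjectiveSpecialLinearGroup (Fin 3) F) ∨ Nonempty (G ≃* Cfsg.PSp 2 F) ∨
            Nonempty (G ≃* ↥(Cfsg.Lie.chevG2.group F)))) ∧
        ¬ (∃ (F : Type) (_ : Field F) (_ : Fintype F), Fintype.card F = 9 ∧ (Nonempty (G ≃* Cfsg.PSU 3 F 3) ∨ Nonempty (G ≃* Cfsg.PSU 4 F 3)))) ∨
      (∃ n : ℕ, (n = 7 ∨ 9 ≤ n) ∧ Nonempty (G ≃* ↥(alternatingGroup (Fin n)))) ∨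
      Cfsg.Spor.IsoM12 G ∨ Cfsg.Spor.IsoJ1 G ∨ Cfsg.Spor.IsoJ2 G ∨ Cfsg.Spor.IsoMcL G ∨ Cfsg.Spor.IsoLy G ∨ Cfsg.Spor.IsoHS G ∨ Cfsg.Spor.IsoHe G ∨ Cfsg.Spor.IsoON G ∨ Cfsg.Spor.IsoSuz G ∨ Cfsg.Spor.IsoRu G ∨ Cfsg.Spor.IsoCo3 G ∨ Cfsg.Spor.IsoCo1 G ∨ Cfsg.Spor.IsoFi22 G ∨ Cfsg.Spor.IsoFi23 G ∨ Cfsg.Spor.IsoFi24' G ∨ Cfsg.Spor.IsoHN G ∨ Cfsg.Spor.IsoB G ∨ Cfsg.Spor.IsoM G

theorem known_of_sporadic {G : Type u} [Group G] (h : IsSporadicGroup G) : IsKnownSimple' G := by
  unfold IsKnownSimple'
  tauto

/-- The conclusion of S1765 is on the list. -/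
theorem OddConcl.known {G : Type u} [Group G] (h : OddConcl G) : IsKnownSimple' G := by
  rcases h with ⟨⟨p, -, -, h⟩, -⟩ | ⟨n, hn, h⟩ | h
  · exact OddHalf.Known.known_of_isLie h
  · exact Or.inr (Or.inl ⟨n, by omega, h⟩)
  · apply known_of_sporadic
    unfold IsSporadicGroup
    tauto

/-- The literal S1765 as a proposition. -/
def OddLit : Prop :=
  ∀ (G : Type u) [Group G] [Finite G] [IsSimpleGroup G], ¬ IsMulCommutative G → IsKProper G →
    ¬ IsCharacteristicTwoType G → OddConcl G

theorem oddKnown (h : OddLit.{u}) : OddKnown.{u} := fun G _ _ _ h1 h2 h3 => (h G h1 h2 h3).known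

/-- A simple section of a proper subgroup is smaller than the group. -/
theorem isKProper_of_lt {G : Type u} [Group G] [Finite G]
    (ih : ∀ (X : Type u) [Group X] [Finite X], IsSimpleGroup X → ¬ IsMulCommutative X →
      Nat.card X < Nat.card G → IsKnownSimple' X) : IsKProper G := by
  intro H hH K N _ hs hc
  have h1 : Nat.card (K ⧸ N) ≤ Nat.card K := by
    rw [← Subgroup.index_eq_card]
    exact Nat.le_of_dvd Nat.card_pos N.index_dvd_card
  have h2 : Nat.card K ≤ Nat.card H := Subgroup.card_le_card_group K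
  have h3 : Nat.card H < Nat.card G := by
    refine lt_of_le_of_ne (Subgroup.card_le_card_group H) fun h => hH ?_
    exact Subgroup.eq_top_of_card_eq H h
  exact ih (K ⧸ N) hs hc (lt_of_le_of_lt (h1.trans h2) h3)

/-- **The classification of the finite simple groups from its three parts.** -/
theorem classification_aux (hO : OddKnown.{u}) (hR : RankFour.{u}) (hE : EvenHalf.{u}) :
    ∀ (n : ℕ) (G : Type u) [Group G] [Finite G], IsSimpleGroup G → ¬ IsMulCommutative G →
      Nat.card G = n → IsKnownSimple' G := by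
  intro n
  induction n using Nat.strong_induction_on with
  | _ n ih =>
    intro G _ _ hs hc hn
    have hK : IsKProper G := isKProper_of_lt fun X _ _ h1 h2 h3 => ih _ (hn ▸ h3) X h1 h2 rfl
    have := hs
    by_cases h2 : IsCharacteristicTwoType G
    · by_cases h4 : SectionalPRankLE 2 4 G
      · exact hR G hc hK h2 h4
      · exact hE G hc hK h2 h4
    · exact hO G hc hK h2

/-- **The classification of the finite simple groups** from the odd half, the even half and the theorem
on sectional 2-rank at most 4. -/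
theorem classification (hO : OddKnown.{u}) (hR : RankFour.{u}) (hE : EvenHalf.{u}) (G : Type u) [Group G]
    [Finite G] [IsSimpleGroup G] : IsKnownSimple' G := by
  by_cases hc : IsMulCommutative G
  · left
    have : IsMulCommutative G := hc
    let _ : CommGroup G := { (inferInstance : Group G) with mul_comm := fun a b => mul_comm' a b }
    exact IsSimpleGroup.prime_card
  · exact classification_aux hO hR hE _ G inferInstance hc rfl

end Cfsg.Agent.Omega.Assembly
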