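import Cfsg.Agent.MinSimple.Basic
import Cfsg.Agent.ZN.Map

/-!
# Overgroups of a Sylow 2-subgroup (project OMEGA, EH9)

`S` is a (Sylow 2-)subgroup of `G`; everything is a subgroup of `G`; `o2`, `zc`, `zl`, `jj` are those
of `Cfsg.Agent.ZN.Defs`, "`X` has characteristic 2" is written `X ⊓ centralizer (o2 X) ≤ o2 X`.

* `IsLoc S L` : `L ∈ L(S)`, i.e. `S ≤ L` and `O₂(L) ≠ 1`;
* `IsMaxLoc S M` : `M ∈ M(S)`, a maximal member of `L(S)`;
* `IsPar S P` : `P ∈ P(S)`, a minimal parabolic `P ∈ L(S)` (`S` not normal in `P`, `S` in a unique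
  maximal subgroup of `P`);
* `IsParS S P` : `P ∈ P*(S)`: moreover `Ω₁(Z(S))` is not normal in `P`;
* `NonLoc A B` : no nontrivial 2-subgroup is normalised by `A` and `B`;
* `OneMax S` : `|M(S)| = 1`.

Main facts, `S : Sylow 2 G`: `IsLoc.char2`, `IsLoc.of_le`, `exists_isMaxLoc`, `isMaxLoc_iff`,
`IsMaxLoc.normalizer_eq`, (F0) `IsLoc.le_of_forall` and `IsLoc.eq_sup`, `nonLoc_iff`,
`oneMax_or` (dichotomy), conjugation `IsLoc.map`, `IsMaxLoc.map`, `IsPar.map`.
-/

set_option autoImplicit false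

namespace Cfsg.Agent.Omega.MinPar

open Subgroup Cfsg Cfsg.Agent.ZN Cfsg.Agent.MinSimple.MinParabolic Cfsg.Agent.MinSimple.VModule
open Cfsg.Agent.MinSimple.Basic

universe u

variable {G : Type u} [Group G]

/-! ### Definitions -/

/-- `L ∈ L(S)`. -/
structure IsLoc (S L : Subgroup G) : Prop where
  le : S ≤ L
  o2_ne : o2 L ≠ ⊥

/-- `M ∈ M(S)`: a maximal member of `L(S)`. -/
structure IsMaxLoc (S M : Subgroup G) : Prop extends IsLoc S M where
  max : ∀ L : Subgroup G, IsLoc S L → M ≤ L → L ≤ M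

/-- `P ∈ P(S)`: `P ∈ L(S)` is a minimal parabolic over `S`. -/
structure IsPar (S P : Subgroup G) : Prop extends IsMinPar S P where
  o2_ne : o2 P ≠ ⊥

/-- `P ∈ P*(S)`: `P ∈ P(S)` and `Ω₁(Z(S))` is not normal in `P`. -/
structure IsParS (S P : Subgroup G) : Prop extends IsPar S P where
  not_zc : ¬ P ≤ normalizer (zc S : Set G)

/-- No nontrivial 2-subgroup is normalised by both `A` and `B`. -/
def NonLoc (A B : Subgroup G) : Prop :=
  ∀ U : Subgroup G, IsPGroup 2 U → A ≤ normalizer (U : Set G) → B ≤ normalizer (U : Set G) → U = ⊥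

/-- `|M(S)| = 1`. -/
def OneMax (S : Subgroup G) : Prop :=
  ∃ M : Subgroup G, IsMaxLoc S M ∧ ∀ L : Subgroup G, IsLoc S L → L ≤ M

/-! ### Without Sylow -/

theorem IsPar.isLoc {S P : Subgroup G} (h : IsPar S P) : IsLoc S P := ⟨h.le, h.o2_ne⟩

theorem IsParS.isLoc {S P : Subgroup G} (h : IsParS S P) : IsLoc S P := h.toIsPar.isLoc

/-- A subgroup normalising a nontrivial 2-subgroup of itself has `O₂ ≠ 1`. -/
theorem o2_ne_bot_of_le {U L : Subgroup G} (hU : IsPGroup 2 U) (hU1 : U ≠ ⊥) (hUL : U ≤ L)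
    (hL : L ≤ normalizer (U : Set G)) : o2 L ≠ ⊥ :=
  fun h => hU1 (le_bot_iff.mp (h ▸ le_o2 hUL hU hL))

theorem NonLoc.symm {A B : Subgroup G} (h : NonLoc A B) : NonLoc B A :=
  fun U hU h1 h2 => h U hU h2 h1

theorem NonLoc.mono {A B A' B' : Subgroup G} (h : NonLoc A B) (hA : A ≤ A') (hB : B ≤ B') :
    NonLoc A' B' :=
  fun U hU h1 h2 => h U hU (hA.trans h1) (hB.trans h2)

theorem NonLoc.o2_sup {A B : Subgroup G} (h : NonLoc A B) : o2 (A ⊔ B) = ⊥ :=
  h _ (o2_isPGroup _) (le_sup_left.trans (le_normalizer_o2 _))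
    (le_sup_right.trans (le_normalizer_o2 _))

theorem OneMax.eq {S M : Subgroup G} (h : OneMax S) (hM : IsMaxLoc S M) {L : Subgroup G}
    (hL : IsLoc S L) : L ≤ M := by
  obtain ⟨N, hN, h1⟩ := h
  exact (h1 L hL).trans (hM.max N hN.toIsLoc (h1 M hM.toIsLoc))

/-! ### The members of `L(S)`, `S` a Sylow 2-subgroup -/

section Sylow

variable (S : Sylow 2 G)

/-- A 2-subgroup normalised by `S` lies in `S`. -/
theorem le_of_le_normalizer {U : Subgroup G} (hU : IsPGroup 2 U)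
    (h : (S : Subgroup G) ≤ normalizer (U : Set G)) : U ≤ (S : Subgroup G) := by
  have h1 : IsPGroup 2 ((S : Subgroup G) ⊔ U : Subgroup G) :=
    IsPGroup.to_sup_of_normal_right' S.isPGroup' hU h
  have h2 := S.is_maximal' h1 le_sup_left
  exact le_sup_right.trans h2.le

theorem isLoc_of_le_normalizer {U L : Subgroup G} (hSL : (S : Subgroup G) ≤ L)
    (hU : IsPGroup 2 U) (hU1 : U ≠ ⊥) (hL : L ≤ normalizer (U : Set G)) :
    IsLoc (S : Subgroup G) L :=
  ⟨hSL, o2_ne_bot_of_le hU hU1 ((le_of_le_normalizer S hU (hSL.trans hL)).trans hSL) hL⟩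

theorem isLoc_iff {L : Subgroup G} : IsLoc (S : Subgroup G) L ↔ (S : Subgroup G) ≤ L ∧
    ∃ U : Subgroup G, IsPGroup 2 U ∧ U ≠ ⊥ ∧ L ≤ normalizer (U : Set G) :=
  ⟨fun h => ⟨h.le, o2 L, o2_isPGroup L, h.o2_ne, le_normalizer_o2 L⟩,
    fun ⟨h, _, hU, hU1, hL⟩ => isLoc_of_le_normalizer S h hU hU1 hL⟩

/-- `S ≤ X ≤ L ∈ L(S)` implies `X ∈ L(S)`. -/
theorem IsLoc.of_le {L X : Subgroup G} (h : IsLoc (S : Subgroup G) L)
    (hSX : (S : Subgroup G) ≤ X) (hXL : X ≤ L) : IsLoc (S : Subgroup G) X :=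
  isLoc_of_le_normalizer S hSX (o2_isPGroup L) h.o2_ne (hXL.trans (le_normalizer_o2 L))

theorem isLoc_normalizer {U : Subgroup G} (hU : IsPGroup 2 U) (hU1 : U ≠ ⊥)
    (hS : (S : Subgroup G) ≤ normalizer (U : Set G)) :
    IsLoc (S : Subgroup G) (normalizer (U : Set G)) :=
  isLoc_of_le_normalizer S hS hU hU1 le_rfl

theorem isLoc_normalizer_self (hS : (S : Subgroup G) ≠ ⊥) :
    IsLoc (S : Subgroup G) (normalizer ((S : Subgroup G) : Set G)) :=
  isLoc_normalizer S S.isPGroup' hS le_normalizer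

theorem isLoc_self (hS : (S : Subgroup G) ≠ ⊥) : IsLoc (S : Subgroup G) (S : Subgroup G) :=
  isLoc_of_le_normalizer S le_rfl S.isPGroup' hS le_normalizer

/-- `C_G(z) ∈ L(S)` for an involution `z` centralised by `S`. -/
theorem isLoc_centralizer {z : G} (hz : z ^ 2 = 1) (hz1 : z ≠ 1)
    (hS : (S : Subgroup G) ≤ centralizer ({z} : Set G)) :
    IsLoc (S : Subgroup G) (centralizer ({z} : Set G)) := by
  have h1 := isLoc_normalizer S (isPGroup_zpowers hz) (fun h => hz1 (zpowers_eq_bot.mp h))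
    (by rw [normalizer_zpowers_eq hz]; exact hS)
  rwa [normalizer_zpowers_eq hz] at h1

/-- A member of `L(S)` lies in the 2-local `N_G(O₂(L)) ∈ L(S)`. -/
theorem IsLoc.normalizer_o2 {L : Subgroup G} (h : IsLoc (S : Subgroup G) L) :
    IsLoc (S : Subgroup G) (normalizer (o2 L : Set G)) :=
  isLoc_normalizer S (o2_isPGroup L) h.o2_ne (h.le.trans (le_normalizer_o2 L))

theorem IsLoc.ne_top {L : Subgroup G} [IsSimpleGroup G] (hG : ¬ IsPGroup 2 G)
    (h : IsLoc (S : Subgroup G) L) : L ≠ ⊤ := by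
  rintro rfl
  have h1 : (o2 (⊤ : Subgroup G)).Normal :=
    normalizer_eq_top_iff.mp (top_le_iff.mp (le_normalizer_o2 ⊤))
  rcases h1.eq_bot_or_eq_top with h2 | h2
  · exact h.o2_ne h2
  · refine hG ?_
    have h3 := o2_isPGroup (⊤ : Subgroup G)
    rw [h2] at h3
    exact h3.of_equiv topEquiv

section Finite

variable [Finite G]

theorem IsLoc.o2_le {L : Subgroup G} (h : IsLoc (S : Subgroup G) L) :
    o2 L ≤ (S : Subgroup G) :=
  o2_le_of_sylow S.isPGroup' (MinSimple.Basic.not_dvd_relIndex S h.le)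

/-- `O₂(L) ≤ O₂(X)` for `S ≤ X ≤ L`. -/
theorem o2_le_o2 {L X : Subgroup G} (hSX : (S : Subgroup G) ≤ X) (hXL : X ≤ L) :
    o2 L ≤ o2 X :=
  o2_normal_le_o2 ((o2_le_of_sylow S.isPGroup'
    (MinSimple.Basic.not_dvd_relIndex S (hSX.trans hXL))).trans hSX) hXL

/-- Every member of `L(S)` has characteristic 2. -/
theorem IsLoc.char2 (hG : IsCharacteristicTwoType G) {L : Subgroup G}
    (h : IsLoc (S : Subgroup G) L) : L ⊓ centralizer (o2 L : Set G) ≤ o2 L :=
  char2_of_o2_ne_bot hG S h.le h.o2_ne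

/-- Every member of `L(S)` lies in a maximal one. -/
theorem exists_isMaxLoc {L : Subgroup G} (h : IsLoc (S : Subgroup G) L) :
    ∃ M : Subgroup G, IsMaxLoc (S : Subgroup G) M ∧ L ≤ M := by
  let s : Set (Subgroup G) := {M | IsLoc (S : Subgroup G) M ∧ L ≤ M}
  obtain ⟨M, hM⟩ := (Set.toFinite s).exists_maximal ⟨L, h, le_rfl⟩
  exact ⟨M, ⟨hM.prop.1, fun K hK hMK => hM.le_of_ge ⟨hK, hM.prop.2.trans hMK⟩ hMK⟩, hM.prop.2⟩

theorem exists_isMaxLoc_normalizer (hS : (S : Subgroup G) ≠ ⊥) :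
    ∃ M : Subgroup G, IsMaxLoc (S : Subgroup G) M ∧
      normalizer ((S : Subgroup G) : Set G) ≤ M :=
  exists_isMaxLoc S (isLoc_normalizer_self S hS)

omit [Finite G] in
/-- `M = N_G(U)` for `M ∈ M(S)` and every nontrivial 2-subgroup `U` normalised by `M`. -/
theorem IsMaxLoc.normalizer_eq {M U : Subgroup G} (h : IsMaxLoc (S : Subgroup G) M)
    (hU : IsPGroup 2 U) (hU1 : U ≠ ⊥) (hM : M ≤ normalizer (U : Set G)) :
    normalizer (U : Set G) = M :=
  le_antisymm (h.max _ (isLoc_normalizer S hU hU1 (h.le.trans hM)) hM) hM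

omit [Finite G] in
theorem IsMaxLoc.normalizer_o2_eq {M : Subgroup G} (h : IsMaxLoc (S : Subgroup G) M) :
    normalizer (o2 M : Set G) = M :=
  h.normalizer_eq S (o2_isPGroup M) h.o2_ne (le_normalizer_o2 M)

omit [Finite G] in
/-- `M(S)` is the set of maximal 2-local subgroups containing `S`. -/
theorem isMaxLoc_iff {M : Subgroup G} :
    IsMaxLoc (S : Subgroup G) M ↔ (S : Subgroup G) ≤ M ∧ IsMaximalTwoLocal M := by
  constructor
  · intro h
    refine ⟨h.le, ⟨o2 M, o2_isPGroup M, h.o2_ne, (h.normalizer_o2_eq S).symm⟩, ?_⟩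
    rintro N ⟨U, hU, hU1, rfl⟩ hMN
    exact h.normalizer_eq S hU hU1 hMN
  · rintro ⟨h1, ⟨U, hU, hU1, rfl⟩, h2⟩
    refine ⟨isLoc_normalizer S hU hU1 h1, fun L hL hML => ?_⟩
    have h3 := h2 (normalizer (o2 L : Set G)) ⟨o2 L, o2_isPGroup L, hL.o2_ne, rfl⟩
      (hML.trans (le_normalizer_o2 L))
    rw [← h3]
    exact le_normalizer_o2 L

omit [Finite G] in
/-- For `S ≤ A`: `A`, `B` generate a nonlocal subgroup iff `O₂(⟨A, B⟩) = 1`. -/
theorem nonLoc_iff {A B : Subgroup G} (hA : (S : Subgroup G) ≤ A) :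
    NonLoc A B ↔ o2 (A ⊔ B) = ⊥ := by
  refine ⟨fun h => h.o2_sup, fun h U hU h1 h2 => ?_⟩
  by_contra hU1
  exact (isLoc_of_le_normalizer S (hA.trans le_sup_left) hU hU1 (sup_le h1 h2)).o2_ne h

omit [Finite G] in
theorem not_nonLoc_iff {A B : Subgroup G} (hA : (S : Subgroup G) ≤ A) :
    ¬ NonLoc A B ↔ IsLoc (S : Subgroup G) (A ⊔ B) := by
  rw [nonLoc_iff S hA]
  exact ⟨fun h => ⟨hA.trans le_sup_left, h⟩, fun h => h.o2_ne⟩

/-! ### (F0) Generation -/

omit [Finite G] in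
/-- A minimal parabolic over `S` below a member of `L(S)` is a member of `P(S)`. -/
theorem IsLoc.isPar {L P : Subgroup G} (h : IsLoc (S : Subgroup G) L)
    (hP : IsMinPar (S : Subgroup G) P) (hPL : P ≤ L) : IsPar (S : Subgroup G) P :=
  ⟨hP, (h.of_le S hP.le hPL).o2_ne⟩

/-- (F0) `L ∈ L(S)` lies in `Y` as soon as `N_L(S)` and the members of `P(S)` below `L` do. -/
theorem IsLoc.le_of_forall {L Y : Subgroup G} (h : IsLoc (S : Subgroup G) L)
    (hN : L ⊓ normalizer ((S : Subgroup G) : Set G) ≤ Y)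
    (hP : ∀ P : Subgroup G, IsPar (S : Subgroup G) P → P ≤ L → P ≤ Y) : L ≤ Y :=
  MinSimple.MinParabolic.le_of_forall h.le hN fun P hPm hPL => hP P (h.isPar S hPm hPL) hPL

/-- (F0) `L ∈ L(S)` is generated by `N_L(S)` and the members of `P(S)` below `L`. -/
theorem IsLoc.eq_sup {L : Subgroup G} (h : IsLoc (S : Subgroup G) L) :
    (L ⊓ normalizer ((S : Subgroup G) : Set G)) ⊔
      sSup {P : Subgroup G | IsPar (S : Subgroup G) P ∧ P ≤ L} = L := by
  apply le_antisymm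
  · exact sup_le inf_le_left (sSup_le fun P hP => hP.2)
  · exact h.le_of_forall S le_sup_left fun P hP hPL =>
      le_sup_of_le_right (le_sSup (⟨hP, hPL⟩ : P ∈ {P | IsPar (S : Subgroup G) P ∧ P ≤ L}))

/-- A member of `L(S)` which does not normalise `S` contains a member of `P(S)`. -/
theorem IsLoc.exists_isPar {L : Subgroup G} (h : IsLoc (S : Subgroup G) L)
    (hL : ¬ L ≤ normalizer ((S : Subgroup G) : Set G)) :
    ∃ P : Subgroup G, IsPar (S : Subgroup G) P ∧ P ≤ L := by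
  by_contra hcon
  push Not at hcon
  exact hL (h.le_of_forall S inf_le_right fun P hP hPL => absurd hPL (hcon P hP))

/-- `L ∈ L(S)` not contained in `M ≥ N_L(S)`: some member of `P(S)` below `L` is not in `M`. -/
theorem IsLoc.exists_not_le {L M : Subgroup G} (h : IsLoc (S : Subgroup G) L)
    (hN : L ⊓ normalizer ((S : Subgroup G) : Set G) ≤ M) (hL : ¬ L ≤ M) :
    ∃ P : Subgroup G, IsPar (S : Subgroup G) P ∧ P ≤ L ∧ ¬ P ≤ M := by
  by_contra hcon
  push Not at hcon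
  exact hL (h.le_of_forall S hN fun P hP hPL => hcon P hP hPL)

/-- Dichotomy: `|M(S)| = 1`, or every `M ≥ N_G(S)` in `M(S)` misses a member of `P(S)`. -/
theorem oneMax_or : OneMax (S : Subgroup G) ∨
    ∀ M : Subgroup G, IsMaxLoc (S : Subgroup G) M →
      normalizer ((S : Subgroup G) : Set G) ≤ M →
      ∃ P : Subgroup G, IsPar (S : Subgroup G) P ∧ ¬ P ≤ M := by
  by_cases h : ∀ M : Subgroup G, IsMaxLoc (S : Subgroup G) M →
      normalizer ((S : Subgroup G) : Set G) ≤ M →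
      ∃ P : Subgroup G, IsPar (S : Subgroup G) P ∧ ¬ P ≤ M
  · exact Or.inr h
  left
  push Not at h
  obtain ⟨M, hM, hMS, hP⟩ := h
  exact ⟨M, hM, fun L hL => hL.le_of_forall S (inf_le_right.trans hMS) fun P hP1 _ => hP P hP1⟩

omit [Finite G] in
/-- `|M(S)| = 1` iff the members of `L(S)` generate a member of `L(S)`. -/
theorem oneMax_iff : OneMax (S : Subgroup G) ↔
    IsLoc (S : Subgroup G) (sSup {L : Subgroup G | IsLoc (S : Subgroup G) L}) := by
  constructor
  · rintro ⟨M, hM, h⟩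
    have h1 : sSup {L : Subgroup G | IsLoc (S : Subgroup G) L} = M :=
      le_antisymm (sSup_le h) (le_sSup hM.toIsLoc)
    rw [h1]
    exact hM.toIsLoc
  · intro h
    exact ⟨_, ⟨h, fun L hL _ => le_sSup hL⟩, fun L hL => le_sSup hL⟩

/-- Not `|M(S)| = 1`: the group `N_G(S)` and the members of `P(S)` generate a subgroup with
`O₂ = 1`. -/
theorem o2_sSup_eq_bot (h : ¬ OneMax (S : Subgroup G)) :
    o2 (normalizer ((S : Subgroup G) : Set G) ⊔
      sSup {P : Subgroup G | IsPar (S : Subgroup G) P}) = ⊥ := by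
  by_contra h1
  have h2 : IsLoc (S : Subgroup G) (normalizer ((S : Subgroup G) : Set G) ⊔
      sSup {P : Subgroup G | IsPar (S : Subgroup G) P}) := ⟨le_sup_of_le_left le_normalizer, h1⟩
  obtain ⟨M, hM, hM1⟩ := exists_isMaxLoc S h2
  refine h ⟨M, hM, fun L hL => hL.le_of_forall S (inf_le_right.trans (le_sup_left.trans hM1))
    fun P hP _ => ?_⟩
  exact (le_sSup (show P ∈ {P : Subgroup G | IsPar (S : Subgroup G) P} from hP)).trans
    (le_sup_right.trans hM1)

/-! ### `Ω₁(Z(S))` and `V_P` -/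

/-- `C_G(Ω₁(Z(S)))` and `N_G(Ω₁(Z(S)))` are members of `L(S)`. -/
theorem isLoc_normalizer_zc (hS : (S : Subgroup G) ≠ ⊥) :
    IsLoc (S : Subgroup G) (normalizer (zc (S : Subgroup G) : Set G)) :=
  isLoc_normalizer S (S.isPGroup'.to_le (zc_le _)) (zc_ne_bot S.isPGroup' hS)
    (le_normalizer.trans (normalizer_le_normalizer_zc _))

theorem isLoc_centralizer_zc (hS : (S : Subgroup G) ≠ ⊥) :
    IsLoc (S : Subgroup G) (centralizer (zc (S : Subgroup G) : Set G)) :=
  (isLoc_normalizer_zc S hS).of_le S (le_centralizer_zc _) (centralizer_le_normalizer _)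

/-- `V_P ≤ Ω₁(Z(O₂(P)))`. -/
theorem IsLoc.zl_le (hG : IsCharacteristicTwoType G) {P : Subgroup G}
    (h : IsLoc (S : Subgroup G) P) : zl (S : Subgroup G) P ≤ zc (o2 P) :=
  zl_le_zc h.le S.isPGroup' (MinSimple.Basic.not_dvd_relIndex S h.le) (h.char2 S hG)

/-- `C_S(V_P) = O₂(P)` for `P ∈ P*(S)`. -/
theorem IsParS.inf_centralizer (hG : IsCharacteristicTwoType G) {P : Subgroup G}
    (h : IsParS (S : Subgroup G) P) :
    (S : Subgroup G) ⊓ centralizer (zl (S : Subgroup G) P : Set G) = o2 P :=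
  inf_centralizer_zl h.toIsMinPar S.isPGroup' (MinSimple.Basic.not_dvd_relIndex S h.le)
    (h.isLoc.char2 S hG) h.not_zc

/-- `N ⊴ P ∈ P(S)`: `N S = P` or `S ∩ N ≤ O₂(P)`. -/
theorem IsPar.sup_eq_or_inf_le {P N : Subgroup G} (h : IsPar (S : Subgroup G) P) (hNP : N ≤ P)
    (hN : P ≤ normalizer (N : Set G)) :
    N ⊔ (S : Subgroup G) = P ∨ (S : Subgroup G) ⊓ N ≤ o2 P :=
  h.toIsMinPar.sup_eq_or_inf_le S.isPGroup' (MinSimple.Basic.not_dvd_relIndex S h.le) hNP hN

end Finite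

end Sylow

/-! ### Conjugation -/

section Map

universe v

variable {H : Type v} [Group H] (e : G ≃* H) {S L M P : Subgroup G}

theorem o2_map_equiv (L : Subgroup G) : o2 (L.map e.toMonoidHom) = (o2 L).map e.toMonoidHom :=
  o2_map e.toMonoidHom e.injective L

theorem map_symm_map (L : Subgroup H) : (L.map e.symm.toMonoidHom).map e.toMonoidHom = L := by
  ext x
  simp

theorem IsLoc.map (h : IsLoc S L) : IsLoc (S.map e.toMonoidHom) (L.map e.toMonoidHom) := by
  refine ⟨Subgroup.map_mono h.le, ?_⟩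
  rw [o2_map_equiv]
  exact fun h1 => h.o2_ne ((map_eq_bot_iff_of_injective _ e.injective).mp h1)

theorem isLoc_map_iff : IsLoc (S.map e.toMonoidHom) (L.map e.toMonoidHom) ↔ IsLoc S L := by
  refine ⟨fun h => ⟨(map_le_map_iff_of_injective e.injective).mp h.le, fun h1 => h.o2_ne ?_⟩,
    fun h => h.map e⟩
  rw [o2_map_equiv, h1, Subgroup.map_bot]

theorem IsMaxLoc.map (h : IsMaxLoc S M) :
    IsMaxLoc (S.map e.toMonoidHom) (M.map e.toMonoidHom) := by
  refine ⟨h.toIsLoc.map e, fun L hL hML => ?_⟩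
  rw [← map_symm_map e L] at hL hML ⊢
  exact Subgroup.map_mono (h.max _ ((isLoc_map_iff e).mp hL)
    ((map_le_map_iff_of_injective e.injective).mp hML))

theorem IsMinPar.map (h : IsMinPar S P) :
    IsMinPar (S.map e.toMonoidHom) (P.map e.toMonoidHom) := by
  obtain ⟨M, hM, h1⟩ := h.exists_max
  refine ⟨Subgroup.map_mono h.le, fun h2 => h.not_le ?_, M.map e.toMonoidHom, ?_, fun K hK hK1 => ?_⟩
  · exact (le_normalizer_map_iff e.toMonoidHom e.injective P S).mp h2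
  · exact lt_of_le_of_ne (Subgroup.map_mono hM.le) fun h2 =>
      hM.ne (Subgroup.map_injective e.injective h2)
  · rw [← map_symm_map e K] at hK hK1 ⊢
    refine Subgroup.map_mono (h1 _ ((map_le_map_iff_of_injective e.injective).mp hK) ?_)
    refine lt_of_le_of_ne ((map_le_map_iff_of_injective e.injective).mp hK1.le) fun h2 => ?_
    rw [h2] at hK1
    exact lt_irrefl _ hK1

theorem IsPar.map (h : IsPar S P) : IsPar (S.map e.toMonoidHom) (P.map e.toMonoidHom) :=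
  ⟨IsMinPar.map e h.toIsMinPar, (h.isLoc.map e).o2_ne⟩

theorem zc_map_equiv (S : Subgroup G) : zc (S.map e.toMonoidHom) = (zc S).map e.toMonoidHom :=
  zc_map e.toMonoidHom e.injective S

theorem IsParS.map (h : IsParS S P) : IsParS (S.map e.toMonoidHom) (P.map e.toMonoidHom) := by
  refine ⟨h.toIsPar.map e, fun h1 => h.not_zc ?_⟩
  rw [zc_map_equiv] at h1
  exact (le_normalizer_map_iff e.toMonoidHom e.injective P _).mp h1

theorem NonLoc.map {A B : Subgroup G} (h : NonLoc A B) :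
    NonLoc (A.map e.toMonoidHom) (B.map e.toMonoidHom) := by
  intro U hU hA hB
  rw [← map_symm_map e U] at hA hB ⊢
  rw [h (U.map e.symm.toMonoidHom) (hU.map _)
    ((le_normalizer_map_iff e.toMonoidHom e.injective _ _).mp hA)
    ((le_normalizer_map_iff e.toMonoidHom e.injective _ _).mp hB), Subgroup.map_bot]

end Map

end Cfsg.Agent.Omega.MinPar
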