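import Cfsg.Agent.Omega.FFThm
import Cfsg.Agent.PLocal.ElemAbSup

/-!
# The FF theorem, module form

`FFThm.Stmt` has offenders `A ≤ H` which are elementary abelian subgroups of `G`.  Here `A` is only elementary
abelian modulo `C_A(V)`:

* `OffM V A` : `A / C_A(V)` is elementary abelian, `[V, A] ≠ 1`, `|V : C_V(A)| ≤ |A : C_A(V)|`;
* `NoOverM V H`, `NatKM`, `SymKM`, `ConclM`, `StmtM` : the same for `FFThm.{NoOver, NatK, SymK, Concl, Stmt}`.

* `off_of_AA` : a member of `A(T)` which does not centralise `V ≤ T` is an offender.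

`StmtM` follows from `FFThm.Stmt` for the semidirect product `V ⋊ (H / C_H(V))`: there every `A / C_A(V)` is an
elementary abelian subgroup, `O₂ = V` or bigger is self-centralising, `zl = V`.
-/

set_option autoImplicit false

namespace Cfsg.Agent.Omega.FFThm

open Subgroup Cfsg Cfsg.Agent.ZN Cfsg.Agent.ZN.ChoiceBase Cfsg.Agent.ZN.ChoiceSit Cfsg.Agent.Omega.MinPar
open Cfsg.Agent.Omega.FrameFF Cfsg.Agent.MinSimple.MinParabolic
open Cfsg.Agent.Lib.SL2Mat

universe u

section defs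

variable {G : Type u} [Group G]

/-- `A` acts on `V` as an elementary abelian 2-group. -/
structure ElemM (V A : Subgroup G) : Prop where
  sq : ∀ a ∈ A, a ^ 2 ∈ centralizer (V : Set G)
  comm : ∀ a ∈ A, ∀ b ∈ A, a * b * a⁻¹ * b⁻¹ ∈ centralizer (V : Set G)

/-- `A` acts on `V` as an offender. -/
structure OffM (V A : Subgroup G) : Prop extends ElemM V A where
  ne : ¬ A ≤ centralizer (V : Set G)
  le : Nat.card V * Nat.card ↥(A ⊓ centralizer (V : Set G)) ≤
    Nat.card A * Nat.card ↥(V ⊓ centralizer (A : Set G))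

/-- No over-offender. -/
def NoOverM (V H : Subgroup G) : Prop :=
  ∀ A : Subgroup G, A ≤ H → ElemM V A →
    Nat.card A * Nat.card ↥(V ⊓ centralizer (A : Set G)) ≤
      Nat.card V * Nat.card ↥(A ⊓ centralizer (V : Set G))

/-- `NatK`, and every offender in `T` (module form) is a product of full root groups. -/
structure NatKM (F : Type) [Field F] (T H V D : Subgroup G) (k : ℕ) extends NatK F T H V D k where
  offM : ∀ A : Subgroup G, A ≤ T → OffM V A → ∃ I : Set (Fin k),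
    (∀ a ∈ A, ∃ b : Fin k → F, (∀ i, i ∉ I → b i = 0) ∧ ActsSL e V D a fun i => up (b i)) ∧
      ∀ b : Fin k → F, (∀ i, i ∉ I → b i = 0) → ∃ a ∈ A, ActsSL e V D a fun i => up (b i)

/-- `SymK`, and every offender in `T` (module form) is generated by transpositions. -/
structure SymKM (T H V D : Subgroup G) (k m : ℕ) extends SymK T H V D k m where
  offM : ∀ A : Subgroup G, A ≤ T → OffM V A → (∀ a ∈ A, ∀ d ∈ D, a * d = d * a) ∧
    ∀ a ∈ A, ∃ τ : Fin k → Equiv.Perm (Fin (2 ^ m + 1)), ActsSym e V a 1 τ ∧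
      ∀ i x, τ i x ≠ x → τ i (τ i x) = x ∧
        ∃ b ∈ A, ActsSym e V b 1 (Function.update 1 i (Equiv.swap x (τ i x)))

/-- The conclusion of the FF theorem, module form. -/
def ConclM (T H : Subgroup G) : Prop :=
  (∃ (F : Type) (_ : Field F) (_ : Finite F) (_ : CharP F 2) (k : ℕ),
    0 < k ∧ Nonempty (NatKM F T H (zl T H) (cv T H) k)) ∨
  ∃ k m : ℕ, 0 < k ∧ 2 ≤ m ∧ Nonempty (SymKM T H (zl T H) (cv T H) k m)

end defs

/-- **The FF theorem, module form.** -/
def StmtM : Prop :=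
  ∀ (G : Type u) [Group G] [Finite G] (T H : Subgroup G), Syl T H → IsMinPar T H →
    H ⊓ centralizer (o2 H : Set G) ≤ o2 H → (∃ A : Subgroup G, A ≤ H ∧ OffM (zl T H) A) →
      NoOverM (zl T H) H ∧ ConclM T H

section facts

variable {G : Type u} [Group G] {V A : Subgroup G}

theorem ElemM.of_elem (hA : IsElementaryAbelian 2 A) : ElemM V A := by
  obtain ⟨hc, h2⟩ := hA
  refine ⟨fun a ha => ?_, fun a ha b hb => ?_⟩
  · rw [h2 a ha]; exact one_mem _
  · have h3 : a * b = b * a := congrArg Subtype.val (hc.is_comm.comm ⟨a, ha⟩ ⟨b, hb⟩)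
    have h4 : a * b * a⁻¹ * b⁻¹ = 1 := by rw [h3]; group
    rw [h4]; exact one_mem _

theorem Off.offM (h : Off V A) : OffM V A := ⟨ElemM.of_elem h.elem, h.ne, h.le⟩

theorem NoOverM.noOver {H : Subgroup G} (h : NoOverM V H) : NoOver V H :=
  fun A hA hE => h A hA (ElemM.of_elem hE)

/-- `|V| |A ∩ B| ≤ |A| |V ∩ D|` is `|V : V ∩ D| ≤ |A : A ∩ B|`. -/
theorem relIndex_le_iff [Finite G] {V A B D : Subgroup G} :
    Nat.card V * Nat.card ↥(A ⊓ B) ≤ Nat.card A * Nat.card ↥(V ⊓ D) ↔ D.relIndex V ≤ B.relIndex A := by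
  have h1 : D.relIndex V * Nat.card ↥(V ⊓ D) = Nat.card V := by
    have e := relIndex_inf_mul_relIndex (⊥ : Subgroup G) D V
    rw [relIndex_bot_left, bot_inf_eq, relIndex_bot_left, mul_comm, inf_comm] at e
    exact e
  have h2 : B.relIndex A * Nat.card ↥(A ⊓ B) = Nat.card A := by
    have e := relIndex_inf_mul_relIndex (⊥ : Subgroup G) B A
    rw [relIndex_bot_left, bot_inf_eq, relIndex_bot_left, mul_comm, inf_comm] at e
    exact e
  have h3 : 0 < Nat.card ↥(V ⊓ D) := Nat.card_pos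
  have h4 : 0 < Nat.card ↥(A ⊓ B) := Nat.card_pos
  have e1 : Nat.card V * Nat.card ↥(A ⊓ B) =
      D.relIndex V * (Nat.card ↥(V ⊓ D) * Nat.card ↥(A ⊓ B)) := by rw [← h1]; ring
  have e2 : Nat.card A * Nat.card ↥(V ⊓ D) =
      B.relIndex A * (Nat.card ↥(V ⊓ D) * Nat.card ↥(A ⊓ B)) := by rw [← h2]; ring
  rw [e1, e2]
  exact Nat.mul_le_mul_right_iff (Nat.mul_pos h3 h4)

/-- Thompson: a largest elementary abelian subgroup of `T` which does not centralise `V` is an offender. -/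
theorem off_of_AA [Finite G] {V T A : Subgroup G} (hV : IsElementaryAbelian 2 V) (hVT : V ≤ T) (hA : A ∈ AA T)
    (hne : ¬ A ≤ centralizer (V : Set G)) : Off V A where
  elem := hA.1
  ne := hne
  le := by
    have hc : A ⊓ centralizer (V : Set G) ≤ centralizer (V : Set G) := inf_le_right
    have hCe : IsElementaryAbelian 2 (A ⊓ centralizer (V : Set G)) :=
      ⟨⟨⟨fun a b => Subtype.ext (congrArg (fun t : A => (t : G))
        (hA.1.1.is_comm.comm ⟨a, a.2.1⟩ ⟨b, b.2.1⟩))⟩⟩, fun a ha => hA.1.2 a ha.1⟩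
    have h1 := Cfsg.Agent.PLocal.ElemAbSup.isElementaryAbelian_sup hV hCe hc
    have h2 := hA.2.2 _ h1 (sup_le hVT (inf_le_left.trans hA.2.1))
    have h3 := Cfsg.Agent.PLocal.ElemAbSup.card_sup_mul_card_inf hc
    have h4 : Nat.card ↥(V ⊓ (A ⊓ centralizer (V : Set G))) ≤ Nat.card ↥(V ⊓ centralizer (A : Set G)) := by
      refine Subgroup.card_le_of_le (le_inf inf_le_left fun x hx => mem_centralizer_iff.2 fun a ha => ?_)
      exact congrArg (fun t : A => (t : G)) (hA.1.1.is_comm.comm ⟨a, ha⟩ ⟨x, hx.2.1⟩)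
    rw [← h3]
    exact Nat.mul_le_mul h2 h4

end facts

end Cfsg.Agent.Omega.FFThm
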