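import Mathlib
import Cfsg.Prelude.Def_CaseTheorems
import Cfsg.Agent.MinSimple.CosetFam
import Cfsg.Agent.MinSimple.Basic
import Cfsg.Agent.Omega.MinPar

/-!
# Pairs of parabolics: `V_P`, mutual pairs, the dichotomy FF / NOFF

Everything is a subgroup of the ambient group `G`; `o2 L = O₂(L)`, `zc S = Ω₁(Z(S))`,
`zl S P = ⟨Ω₁(Z(S))^P⟩ = V_P` are those of `Cfsg.Agent.ZN.Defs`; nothing is solvable here.

* `IsPar S P` (`P ∈ P(S)`), `IsParS S P` (`P ∈ P*(S)`), `IsLoc`, `NonLoc` are those of `Omega.MinPar`;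
* `Mutual S P₁ P₂ x` : mutual pair (frame v1): `P₁, P₂ ∈ P*(S)`, `V_{P₁}` and `(V_{P₂})^x` normalise
  each other and do not commute; `FF S`: there is one;
* `PairData` : the abstract data `Z_i ≤ Q_i ⊴ P_i ≥ S`, each `i` either *noncentral*
  (`C_S(Z_i) ≤ Q_i`) or *central* (`Z_i ≤ Z_{3-i}`); `Pair.dichotomy` : a critical pair gives either two
  noncentral `Z_i`, `Z_j^x` which normalise each other and do not commute, or `b` is odd and every
  critical pair goes from the noncentral type to the central one;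
* `MinPar.IsPar.dichotomy` : the same for two minimal parabolics `P₁`, `P₂` with `O₂(⟨P₁, P₂⟩) = 1`.
-/

set_option autoImplicit false

namespace Cfsg.Agent.Omega

open Subgroup MulAction Pointwise Cfsg Cfsg.Agent.ZN Cfsg.Agent.MinSimple
open Cfsg.Agent.Omega.MinPar (IsPar IsParS IsLoc NonLoc)
open Cfsg.Agent.MinSimple.CosetGraph Cfsg.Agent.MinSimple.CosetFam
open Cfsg.Agent.MinSimple.VModule (le_o2 mem_zc zc_le zc_le_zl zl_le_zc zl_comm zl_sq
  le_normalizer_zl zl_le inf_centralizer_zl o2_le_centralizer_zl normalizer_le_normalizer_zc)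
open scoped commutatorElement

universe u

variable {G : Type u} [Group G]

/-! ### Definitions -/

/-- Mutual pair: `V = V_{P₁}` and `V' = (V_{P₂})^x` normalise each other and do not commute. -/
structure Mutual (S P₁ P₂ : Subgroup G) (x : G) : Prop where
  star₁ : IsParS S P₁
  star₂ : IsParS S P₂
  le₁ : zl S P₁ ≤ normalizer ((MulAut.conj x • zl S P₂ : Subgroup G) : Set G)
  le₂ : MulAut.conj x • zl S P₂ ≤ normalizer (zl S P₁ : Set G)
  ne : ⁅zl S P₁, MulAut.conj x • zl S P₂⁆ ≠ ⊥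

/-- Case FF: there is a mutual pair. -/
def FF (S : Subgroup G) : Prop := ∃ (P₁ P₂ : Subgroup G) (x : G), Mutual S P₁ P₂ x

/-! ### Conjugation -/

theorem conj_smul_commutator (g : G) (X Y : Subgroup G) :
    MulAut.conj g • ⁅X, Y⁆ = ⁅MulAut.conj g • X, MulAut.conj g • Y⁆ :=
  Subgroup.map_commutator _ _ _

theorem conj_inv_smul (g : G) (X : Subgroup G) : MulAut.conj g⁻¹ • MulAut.conj g • X = X := by
  rw [conj_smul_conj_smul, inv_mul_cancel, conj_one_smul]

theorem conj_smul_inv (g : G) (X : Subgroup G) : MulAut.conj g • MulAut.conj g⁻¹ • X = X := by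
  rw [conj_smul_conj_smul, mul_inv_cancel, conj_one_smul]

theorem conj_smul_mono_iff {g : G} {X Y : Subgroup G} :
    MulAut.conj g • X ≤ MulAut.conj g • Y ↔ X ≤ Y :=
  pointwise_smul_le_pointwise_smul_iff

theorem conj_smul_eq_bot_iff {g : G} {X : Subgroup G} : MulAut.conj g • X = ⊥ ↔ X = ⊥ := by
  constructor
  · intro h
    rw [← conj_inv_smul g X, h, smul_bot]
  · rintro rfl
    exact smul_bot _

theorem Mutual.symm {S P₁ P₂ : Subgroup G} {x : G} (h : Mutual S P₁ P₂ x) : Mutual S P₂ P₁ x⁻¹ := by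
  refine ⟨h.star₂, h.star₁, ?_, ?_, ?_⟩
  · rw [← conj_smul_mono_iff (g := x), ← normalizer_conj, conj_smul_inv]
    exact h.le₂
  · rw [← conj_smul_mono_iff (g := x), ← normalizer_conj, conj_smul_inv]
    exact h.le₁
  · intro h0
    apply h.ne
    rw [commutator_comm, ← conj_smul_inv x (zl S P₁), ← conj_smul_commutator, h0, smul_bot]

/-! ### Abstract pairs -/

/-- Abstract data of a pair of parabolics over `S`. -/
structure PairData (S : Subgroup G) (P Q Z : Bool → Subgroup G) : Prop where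
  le : ∀ i, S ≤ P i
  Qn : ∀ i, P i ≤ normalizer (Q i : Set G)
  Zn : ∀ i, P i ≤ normalizer (Z i : Set G)
  ZQ : ∀ i, Z i ≤ Q i
  QS : ∀ i, Q i ≤ S
  QZ : ∀ i, Q i ≤ centralizer (Z i : Set G)
  alt : ∀ i, S ⊓ centralizer (Z i : Set G) ≤ Q i ∨ Z i ≤ Z (!i)
  core : ∀ N : Subgroup G, N ≤ P false → N ≤ P true → P false ≤ normalizer (N : Set G) →
    P true ≤ normalizer (N : Set G) → N = ⊥
  ne : ∃ i, Z i ≠ ⊥

namespace Pair

variable {S : Subgroup G} {P Q Z : Bool → Subgroup G}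

/-- The index `i` is noncentral. -/
def NC (S : Subgroup G) (Q Z : Bool → Subgroup G) (i : Bool) : Prop :=
  S ⊓ centralizer (Z i : Set G) ≤ Q i

theorem exists_crit (h : PairData S P Q Z) :
    ∃ b, 1 ≤ b ∧ (coset P).Crit (fam P Z) (fam P Q) b := by
  have hfaith : (coset P).Faithful := coset_faithful P h.core
  have hZe : Eqv (fam P Z) := fam_eqv P h.Zn
  have hQe : Eqv (fam P Q) := fam_eqv P h.Qn
  have hZQ : ∀ v, fam P Z v ≤ fam P Q v := by
    refine forall_vertex P (p := fun v => fam P Z v ≤ fam P Q v) ?_ ?_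
    · intro g v h1
      exact (hZe.le_iff hQe).mpr h1
    · intro i
      rw [fam_mk_one P h.Zn, fam_mk_one P h.Qn]; exact h.ZQ i
  have hQs : ∀ v, fam P Q v ≤ stabilizer G v := by
    refine forall_vertex P (p := fun v => fam P Q v ≤ stabilizer G v) ?_ ?_
    · intro g v h1
      exact (hQe.le_iff Eqv.stabilizer).mpr h1
    · intro i
      rw [fam_mk_one P h.Qn, mk_one_stab]
      exact (h.QS i).trans (h.le i)
  obtain ⟨i, hi⟩ := h.ne
  have hne : fam P Z (mk P i 1) ≠ ⊥ := by rw [fam_mk_one P h.Zn]; exact hi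
  obtain ⟨b, hb⟩ := RGraph.exists_crit hfaith hZe hQe hQs (coset_adj P i 1) hne
  exact ⟨b, hb.pos hZQ, hb⟩

/-- An adjacent pair of vertices is a translate of a base edge. -/
theorem exists_edge {v w : CV P} (hvw : (coset P).A v w) :
    ∃ (g : G) (i : Bool), v = g • mk P i 1 ∧ w = g • mk P (!i) 1 := by
  obtain ⟨i, g, rfl, rfl⟩ := hvw
  exact ⟨g, i, by rw [smul_mk_one], by rw [smul_mk_one]⟩

/-- The output of the mutual case: `Z_i ≤ (Q_{¬j})^x`, `(Z_j)^x ≤ Q_{¬i}`, both noncentral, not commuting,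
at distance `b` in the coset graph. -/
structure MutualAt (S : Subgroup G) (P Q Z : Bool → Subgroup G) (b : ℕ) (i j : Bool) (x : G) : Prop where
  nc₁ : NC S Q Z i
  nc₂ : NC S Q Z j
  le₁ : Z i ≤ MulAut.conj x • Q (!j)
  le₂ : MulAut.conj x • Z j ≤ Q (!i)
  ne : ⁅Z i, MulAut.conj x • Z j⁆ ≠ ⊥
  walk : (coset P).W b (mk P i 1) (mk P j x)
  walk₁ : (coset P).W (b - 1) (mk P (!i) 1) (mk P j x)
  walk₂ : (coset P).W (b - 1) (mk P i 1) (mk P (!j) x)

/-- A critical pair: the first member is noncentral; if the second member is noncentral, the pair is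
mutual (up to conjugation). -/
theorem crit_pair (h : PairData S P Q Z) {b : ℕ} (hb : (coset P).Crit (fam P Z) (fam P Q) b)
    {v w : CV P} (hw : (coset P).W b v w) (hn : ¬ fam P Z v ≤ fam P Q w) :
    NC S Q Z v.1 ∧ (NC S Q Z w.1 → ∃ x : G, MutualAt S P Q Z b v.1 w.1 x) := by
  have hZe : Eqv (fam P Z) := fam_eqv P h.Zn
  have hQe : Eqv (fam P Q) := fam_eqv P h.Qn
  have hZ1 : ∀ (g : G) (i : Bool), fam P Z (g • mk P i 1) = MulAut.conj g • Z i := fun g i => by
    rw [hZe, fam_mk_one P h.Zn]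
  have hQ1 : ∀ (g : G) (i : Bool), fam P Q (g • mk P i 1) = MulAut.conj g • Q i := fun g i => by
    rw [hQe, fam_mk_one P h.Qn]
  have hZQ : ∀ v, fam P Z v ≤ fam P Q v := by
    refine forall_vertex P (p := fun v => fam P Z v ≤ fam P Q v) ?_ ?_
    · intro g v h1
      exact (hZe.le_iff hQe).mpr h1
    · intro i
      rw [fam_mk_one P h.Zn, fam_mk_one P h.Qn]; exact h.ZQ i
  have hb1 := hb.pos hZQ
  obtain ⟨b, rfl⟩ : ∃ b', b = b' + 1 := ⟨b - 1, by omega⟩
  obtain ⟨p, hvp, hpw⟩ := Wlk.succ_iff.mp hw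
  obtain ⟨q, hvq, hqw⟩ := Wlk.succ_iff'.mp hw
  obtain ⟨g, i, rfl, rfl⟩ := exists_edge hvp
  obtain ⟨g', j, rfl, rfl⟩ := exists_edge ((coset P).symm hqw)
  have hi : (g • mk P i 1 : CV P).1 = i := rfl
  have hj : (g' • mk P j 1 : CV P).1 = j := rfl
  rw [hi, hj]
  have hZq : fam P Z (g • mk P i 1) ≤ fam P Q (g' • mk P (!j) 1) := hb.min b (by omega) _ _ hvq
  have hnc : NC S Q Z i := by
    rcases h.alt i with h1 | h1
    · exact h1
    · exfalso
      apply hn
      refine le_trans ?_ (hb.min b (by omega) _ _ hpw)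
      rw [hZ1, hZ1]
      exact conj_smul_mono_iff.mpr h1
  refine ⟨hnc, fun hncj => ?_⟩
  have hZp : fam P Z (g' • mk P j 1) ≤ fam P Q (g • mk P (!i) 1) :=
    hb.min b (by omega) _ _ (RGraph.W.symm hpw)
  rw [hZ1, hQ1] at hZq hZp hn
  have hne : ⁅MulAut.conj g • Z i, MulAut.conj g' • Z j⁆ ≠ ⊥ := by
    intro h0
    apply hn
    rw [commutator_eq_bot_iff_le_centralizer, centralizer_conj] at h0
    refine le_trans (le_inf (hZq.trans (conj_smul_mono_iff.mpr (h.QS (!j)))) h0) ?_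
    rw [← smul_inf]
    exact conj_smul_mono_iff.mpr hncj
  have e2 : ∀ X : Subgroup G, MulAut.conj (g⁻¹ * g') • X = MulAut.conj g⁻¹ • MulAut.conj g' • X :=
    fun X => (conj_smul_conj_smul _ _ _).symm
  refine ⟨g⁻¹ * g', hnc, hncj, ?_, ?_, ?_, ?_, ?_, ?_⟩
  · rw [e2, ← conj_smul_mono_iff (g := g), conj_smul_inv]
    exact hZq
  · rw [e2, ← conj_smul_mono_iff (g := g), conj_smul_inv]
    exact hZp
  · intro h0
    apply hne
    rw [← conj_smul_inv g (MulAut.conj g' • Z j), ← conj_smul_commutator, ← e2, h0, smul_bot]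
  · have h1 := RGraph.W.smul g⁻¹ hw
    rw [inv_smul_smul, ← mul_smul, smul_mk_one] at h1
    exact h1
  · have h1 := RGraph.W.smul g⁻¹ hpw
    rw [inv_smul_smul, ← mul_smul, smul_mk_one] at h1
    exact h1
  · have h1 := RGraph.W.smul g⁻¹ hvq
    rw [inv_smul_smul, ← mul_smul, smul_mk_one] at h1
    exact h1

/-- **Dichotomy.** Either a critical pair is mutual (two noncentral members which normalise each other and
do not commute), or `b` is odd, exactly one type `i` is noncentral and every critical pair goes from type `i`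
to type `¬i`, where `Z_{¬i} ≤ Z_i`. -/
theorem dichotomy (h : PairData S P Q Z) {b : ℕ} (hb : (coset P).Crit (fam P Z) (fam P Q) b) :
    (∃ (i j : Bool) (x : G), MutualAt S P Q Z b i j x) ∨
    (Odd b ∧ ∃ i : Bool, NC S Q Z i ∧ ¬ NC S Q Z (!i) ∧ Z (!i) ≤ Z i ∧
      ∀ v w : CV P, (coset P).W b v w → ¬ fam P Z v ≤ fam P Q w → v.1 = i ∧ w.1 = !i) := by
  by_cases h1 : ∃ v w : CV P, (coset P).W b v w ∧ ¬ fam P Z v ≤ fam P Q w ∧ NC S Q Z w.1
  · obtain ⟨v, w, hw, hn, h2⟩ := h1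
    obtain ⟨x, hx⟩ := (crit_pair h hb hw hn).2 h2
    exact Or.inl ⟨_, _, x, hx⟩
  · right
    push Not at h1
    obtain ⟨v, w, hw, hn⟩ := hb.ex
    have h2 := (crit_pair h hb hw hn).1
    have h3 := h1 v w hw hn
    have hvw : w.1 = !v.1 := by
      have : w.1 ≠ v.1 := fun e => h3 (e ▸ h2)
      cases hv : v.1 <;> cases hw' : w.1 <;> simp_all
    have hodd : Odd b := by
      rw [← Nat.not_even_iff_odd, ← RGraph.W.typ_eq hw]
      change ¬ (w.1 = v.1)
      rw [hvw]
      cases v.1 <;> simp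
    rw [hvw] at h3
    refine ⟨hodd, v.1, h2, h3, ?_, ?_⟩
    · rcases h.alt (!v.1) with h4 | h4
      · exact absurd h4 h3
      · rwa [Bool.not_not] at h4
    · intro v' w' hw' hn'
      have h5 := (crit_pair h hb hw' hn').1
      have h6 := h1 v' w' hw' hn'
      have e1 : v'.1 = v.1 := by
        by_contra hne
        have : v'.1 = !v.1 := by cases h7 : v'.1 <;> cases h8 : v.1 <;> simp_all
        exact h3 (this ▸ h5)
      refine ⟨e1, ?_⟩
      by_contra hne
      have : w'.1 = v.1 := by cases h7 : w'.1 <;> cases h8 : v.1 <;> simp_all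
      exact h6 (this ▸ h2)

end Pair

/-! ### Minimal parabolics -/

section MinPar

variable [Finite G]

omit [Finite G] in
theorem zl_eq_zc {S P : Subgroup G} (h : P ≤ normalizer (zc S : Set G)) : zl S P = zc S :=
  le_antisymm (VModule.zl_le le_rfl h) (zc_le_zl S P)

omit [Finite G] in
theorem normalizer_le_normalizer_o2' (N : Subgroup G) :
    normalizer (N : Set G) ≤ normalizer (o2 N : Set G) := by
  intro g hg
  rw [mem_normalizer_iff_conj_smul] at hg ⊢
  rw [← o2_conj, hg]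

omit [Finite G] in
/-- A subgroup normal in two groups of characteristic 2 over `S` whose join has trivial `O₂` is trivial. -/
theorem core_of_o2 {X Y : Subgroup G} (hX : X ⊓ centralizer (o2 X : Set G) ≤ o2 X)
    (h : o2 (X ⊔ Y) = ⊥) (N : Subgroup G) (h1 : N ≤ X)
    (h3 : X ≤ normalizer (N : Set G)) (h4 : Y ≤ normalizer (N : Set G)) : N = ⊥ := by
  have hXY : X ⊔ Y ≤ normalizer (N : Set G) := sup_le h3 h4
  have hO : o2 N = ⊥ := by
    rw [eq_bot_iff, ← h]
    refine le_o2 ((o2_le_self N).trans (h1.trans le_sup_left)) (CosetFam.o2_isPGroup N) ?_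
    exact hXY.trans (normalizer_le_normalizer_o2' N)
  have hcom : N ≤ centralizer (o2 X : Set G) := by
    rw [← commutator_eq_bot_iff_le_centralizer, eq_bot_iff, ← hO]
    have h5 : ⁅N, o2 X⁆ ≤ N ⊓ o2 X := by
      rw [commutator_le]
      intro n hn x hx
      refine ⟨?_, ?_⟩
      · rw [commutatorElement_def, mul_assoc, mul_assoc]
        refine N.mul_mem hn ?_
        rw [← mul_assoc]
        exact (mem_normalizer_iff.mp (h3 (o2_le_self X hx)) _).mp (N.inv_mem hn)
      · rw [commutatorElement_def]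
        exact (o2 X).mul_mem ((mem_normalizer_iff.mp (CosetFam.le_normalizer_o2 X (h1 hn)) _).mp hx)
          ((o2 X).inv_mem hx)
    refine h5.trans (le_o2 inf_le_left ((CosetFam.o2_isPGroup X).to_le inf_le_right) ?_)
    intro n hn
    have h6 : n ∈ normalizer (o2 X : Set G) := CosetFam.le_normalizer_o2 X (h1 hn)
    have h7 : n ∈ normalizer (N : Set G) := le_normalizer hn
    rw [mem_normalizer_iff] at h6 h7 ⊢
    intro y
    exact ⟨fun hy => ⟨(h7 y).mp hy.1, (h6 y).mp hy.2⟩, fun hy => ⟨(h7 y).mpr hy.1, (h6 y).mpr hy.2⟩⟩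
  have h8 : N ≤ o2 X := (le_inf h1 hcom).trans hX
  have h9 : N ≤ o2 N := le_o2 le_rfl ((CosetFam.o2_isPGroup X).to_le h8) le_normalizer
  rw [eq_bot_iff, ← hO]
  exact h9

omit [Finite G] in
theorem zc_ne_bot_of_par [Finite G] (S : Sylow 2 G) {P : Subgroup G} (h : IsPar (S : Subgroup G) P) :
    zc (S : Subgroup G) ≠ ⊥ := by
  refine Basic.zc_ne_bot S.isPGroup' fun h0 => h.o2_ne ?_
  rw [eq_bot_iff, ← h0]
  exact CosetFam.o2_le_of_sylow S.isPGroup' (Basic.not_dvd_relIndex S h.le)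

/-- The pair data of two minimal parabolics with `O₂(⟨P₁, P₂⟩) = 1`. -/
theorem MinPar.IsPar.pairData (hG : IsCharacteristicTwoType G) (S : Sylow 2 G) {P : Bool → Subgroup G}
    (h : ∀ i, IsPar (S : Subgroup G) (P i)) (core : o2 (P false ⊔ P true) = ⊥) :
    PairData (S : Subgroup G) P (fun i => o2 (P i)) (fun i => zl (S : Subgroup G) (P i)) where
  le i := (h i).le
  Qn i := CosetFam.le_normalizer_o2 (P i)
  Zn i := le_normalizer_zl _ _
  ZQ i := ((h i).isLoc.zl_le S hG).trans (zc_le _)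
  QS i := CosetFam.o2_le_of_sylow S.isPGroup' (Basic.not_dvd_relIndex S (h i).le)
  QZ i := (VModule.le_centralizer_zc _).trans (centralizer_le ((h i).isLoc.zl_le S hG))
  alt i := by
    by_cases h1 : P i ≤ normalizer (zc (S : Subgroup G) : Set G)
    · exact Or.inr (by rw [zl_eq_zc h1]; exact zc_le_zl _ _)
    · exact Or.inl (IsParS.inf_centralizer S hG ⟨h i, h1⟩).le
  core N h1 _ h3 h4 := core_of_o2 ((h false).isLoc.char2 S hG) core N h1 h3 h4
  ne := ⟨false, fun h0 => zc_ne_bot_of_par S (h false) (le_bot_iff.mp (h0 ▸ zc_le_zl _ _))⟩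

/-- `i` is noncentral iff `P_i ∈ P*(S)`. -/
theorem MinPar.IsPar.nc_iff (hG : IsCharacteristicTwoType G) (S : Sylow 2 G) {P : Bool → Subgroup G}
    (h : ∀ i, IsPar (S : Subgroup G) (P i)) {i : Bool} (hne : ¬ S ≤ o2 (P i)) :
    Pair.NC (S : Subgroup G) (fun i => o2 (P i)) (fun i => zl (S : Subgroup G) (P i)) i ↔
      IsParS (S : Subgroup G) (P i) := by
  constructor
  · refine fun h1 => ⟨h i, fun h2 => hne ?_⟩
    refine le_trans ?_ h1
    change _ ≤ _ ⊓ centralizer ((zl (S : Subgroup G) (P i) : Subgroup G) : Set G)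
    rw [zl_eq_zc h2]
    exact le_inf le_rfl (VModule.le_centralizer_zc _)
  · exact fun h1 => (IsParS.inf_centralizer S hG h1).le

omit [Finite G] in
/-- `S` is not normal in `P ∈ P(S)`. -/
theorem MinPar.IsPar.not_le_o2 {S P : Subgroup G} (h : IsPar S P) (hO : o2 P ≤ S) : ¬ S ≤ o2 P := fun h1 =>
  h.not_le ((le_antisymm h1 hO) ▸ CosetFam.le_normalizer_o2 P)

/-- **FF / NOFF for a nonlocal pair of minimal parabolics.** `G` of characteristic 2 type,
`P₁, P₂ ∈ P(S)`, `O₂(⟨P₁, P₂⟩) = 1`, `b` the critical distance of `V_P` against `O₂(P)` in the coset graph: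
either there is a mutual pair (with `P₁`, `P₂` themselves), or `b` is odd, `P_i ∈ P*(S)`, `P_{¬i}` normalises
`Ω₁(Z(S))` and every critical pair goes from type `i` to type `¬i`. -/
theorem MinPar.IsPar.dichotomy (hG : IsCharacteristicTwoType G) (S : Sylow 2 G) {P : Bool → Subgroup G}
    (h : ∀ i, IsPar (S : Subgroup G) (P i)) (core : o2 (P false ⊔ P true) = ⊥) :
    ∃ b, 1 ≤ b ∧ (coset P).Crit (fam P (fun i => zl (S : Subgroup G) (P i)))
        (fam P (fun i => o2 (P i))) b ∧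
      ((∃ (i j : Bool) (x : G), Pair.MutualAt (S : Subgroup G) P (fun i => o2 (P i))
          (fun i => zl (S : Subgroup G) (P i)) b i j x ∧ Mutual (S : Subgroup G) (P i) (P j) x) ∨
        (Odd b ∧ ∃ i : Bool, IsParS (S : Subgroup G) (P i) ∧
          P (!i) ≤ normalizer (zc (S : Subgroup G) : Set G) ∧
          ∀ v w : CV P, (coset P).W b v w →
            ¬ fam P (fun i => zl (S : Subgroup G) (P i)) v ≤ fam P (fun i => o2 (P i)) w →
              v.1 = i ∧ w.1 = !i)) := by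
  have hD := MinPar.IsPar.pairData hG S h core
  have hQS : ∀ i, o2 (P i) ≤ S := hD.QS
  have hiff : ∀ i, Pair.NC (S : Subgroup G) (fun i => o2 (P i))
      (fun i => zl (S : Subgroup G) (P i)) i ↔ IsParS (S : Subgroup G) (P i) := fun i =>
    MinPar.IsPar.nc_iff hG S h ((h i).not_le_o2 (hQS i))
  obtain ⟨b, hb1, hb⟩ := Pair.exists_crit hD
  refine ⟨b, hb1, hb, ?_⟩
  rcases Pair.dichotomy hD hb with ⟨i, j, x, hx⟩ | ⟨hodd, i, h1, h2, -, h4⟩
  · left
    refine ⟨i, j, x, hx, (hiff i).mp hx.nc₁, (hiff j).mp hx.nc₂, ?_, ?_, hx.ne⟩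
    · rw [normalizer_conj]
      refine hx.le₁.trans (conj_smul_mono_iff.mpr ?_)
      exact (hQS (!j)).trans ((hD.le j).trans (le_normalizer_zl _ _))
    · exact hx.le₂.trans ((hQS (!i)).trans ((hD.le i).trans (le_normalizer_zl _ _)))
  · right
    refine ⟨hodd, i, (hiff i).mp h1, ?_, h4⟩
    by_contra h5
    exact h2 ((hiff (!i)).mpr ⟨h (!i), h5⟩)

/-- In the case NOFF a nonlocal pair of minimal parabolics has exactly one member in `P*(S)` and `b` is
odd. -/
theorem MinPar.IsPar.odd_of_not_FF (hG : IsCharacteristicTwoType G) (S : Sylow 2 G)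
    (hF : ¬ FF (S : Subgroup G)) {P : Bool → Subgroup G}
    (h : ∀ i, IsPar (S : Subgroup G) (P i)) (core : o2 (P false ⊔ P true) = ⊥) :
    ∃ b, (coset P).Crit (fam P (fun i => zl (S : Subgroup G) (P i))) (fam P (fun i => o2 (P i))) b ∧
      Odd b ∧ ∃ i : Bool, IsParS (S : Subgroup G) (P i) ∧
        P (!i) ≤ normalizer (zc (S : Subgroup G) : Set G) ∧
        ∀ v w : CV P, (coset P).W b v w →
          ¬ fam P (fun i => zl (S : Subgroup G) (P i)) v ≤ fam P (fun i => o2 (P i)) w →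
            v.1 = i ∧ w.1 = !i := by
  obtain ⟨b, -, hb, h1 | h1⟩ := MinPar.IsPar.dichotomy hG S h core
  · obtain ⟨i, j, x, -, h2⟩ := h1
    exact absurd ⟨_, _, _, h2⟩ hF
  · exact ⟨b, hb, h1⟩

omit [Finite G] in
/-- In the case NOFF two conjugates of `V_{P₁}`, `V_{P₂}` (`P₁, P₂ ∈ P*(S)`) which normalise each other
commute. -/
theorem commute_of_not_FF {S : Subgroup G} (hF : ¬ FF S) {P₁ P₂ : Subgroup G} (h₁ : IsParS S P₁)
    (h₂ : IsParS S P₂) (x : G)
    (le₁ : zl S P₁ ≤ normalizer ((MulAut.conj x • zl S P₂ : Subgroup G) : Set G))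
    (le₂ : MulAut.conj x • zl S P₂ ≤ normalizer (zl S P₁ : Set G)) :
    ⁅zl S P₁, MulAut.conj x • zl S P₂⁆ = ⊥ := by
  by_contra h
  exact hF ⟨P₁, P₂, x, h₁, h₂, le₁, le₂, h⟩

end MinPar

end Cfsg.Agent.Omega
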