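import Cfsg.Agent.Omega.FFThm

/-!
# The FF theorem for mutual pairs

`S` a Sylow 2-subgroup of `G`, `G` of characteristic 2 type, `V_P = zl S P`.

* `exists_conj_le` : a 2-subgroup of `N_G(V_P)` is conjugate in `N_G(V_P)` to a subgroup of `S`;
* `of_off` : an offender on `V_P` in `N_G(V_P)` gives `NoOver` and `Concl` for `P`;
* `le_of_noOver` : `NoOver V_P P` holds for all elementary abelian 2-subgroups of `N_G(V_P)`;
* `of_mutual` : both members of a mutual pair satisfy `NoOver` and `Concl`, and `|V : C_V(V')| = |V' : C_{V'}(V)|`;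
* `Concl.cases` : `Single`, or `k ≥ 2` natural factors, or `k` even-subset modules.
-/

set_option autoImplicit false

namespace Cfsg.Agent.Omega.FFThm

open Subgroup Pointwise Cfsg Cfsg.Agent.ZN Cfsg.Agent.ZN.ChoiceBase Cfsg.Agent.ZN.ChoiceSit
open Cfsg.Agent.Omega.MinPar Cfsg.Agent.Omega.FrameFF Cfsg.Agent.MinSimple.MinParabolic
open Cfsg.Agent.MinSimple.VModule (zl_comm zl_sq le_normalizer_zl)

universe u

section facts

variable {G : Type u} [Group G]

theorem syl_of_sylow (S : Sylow 2 G) {X : Subgroup G} (h : (S : Subgroup G) ≤ X) : Syl (S : Subgroup G) X :=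
  ⟨h, S.isPGroup', fun _ _ hQ hSQ => S.is_maximal' hQ hSQ⟩

theorem isPGroup_of_elem {A : Subgroup G} (h : IsElementaryAbelian 2 A) : IsPGroup 2 A := by
  rintro ⟨a, ha⟩
  exact ⟨1, Subtype.ext (by simpa using h.2 a ha)⟩

variable [Finite G]

theorem elem_zl (hc : IsCharacteristicTwoType G) (S : Sylow 2 G) {P : Subgroup G}
    (h : IsLoc (S : Subgroup G) P) : IsElementaryAbelian 2 (zl (S : Subgroup G) P) :=
  ⟨⟨⟨fun a b => Subtype.ext (zl_comm h.le S.isPGroup' (MinSimple.Basic.not_dvd_relIndex S h.le)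
      (h.char2 S hc) a a.2 b b.2)⟩⟩,
    zl_sq h.le S.isPGroup' (MinSimple.Basic.not_dvd_relIndex S h.le) (h.char2 S hc)⟩

/-- A 2-subgroup of `N ≥ S` is conjugate in `N` to a subgroup of `S`. -/
theorem exists_conj_le (S : Sylow 2 G) {N A : Subgroup G} (hSN : (S : Subgroup G) ≤ N) (hA : IsPGroup 2 A)
    (hAN : A ≤ N) : ∃ n ∈ N, cj n A ≤ (S : Subgroup G) := by
  obtain ⟨T, hT, hAT⟩ := exists_syl hA hAN
  obtain ⟨n, hn, h1⟩ := syl_conj hT (syl_of_sylow S hSN)
  exact ⟨n, hn, h1 ▸ cj_mono n hAT⟩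

/-- Offenders in `N_G(V)` move into `S`. -/
theorem Off.exists_le (S : Sylow 2 G) {V A : Subgroup G} (hV : (S : Subgroup G) ≤ normalizer (V : Set G))
    (hA : A ≤ normalizer (V : Set G)) (h : Off V A) : ∃ B ≤ (S : Subgroup G), Off V B := by
  obtain ⟨n, hn, h1⟩ := exists_conj_le S hV (isPGroup_of_elem h.elem) hA
  refine ⟨cj n A, h1, ?_⟩
  have h2 := off_cj h n
  rwa [cj_eq_of_mem_normalizer hn] at h2

/-- **An offender on `V_P` in `N_G(V_P)`**: the conclusion of the FF theorem for `P`. -/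
theorem of_off (hFF : Stmt.{u}) (hc : IsCharacteristicTwoType G) (S : Sylow 2 G) {P : Subgroup G}
    (hP : IsPar (S : Subgroup G) P) {A : Subgroup G} (hA : A ≤ normalizer (zl (S : Subgroup G) P : Set G))
    (h : Off (zl (S : Subgroup G) P) A) :
    NoOver (zl (S : Subgroup G) P) P ∧ Concl (S : Subgroup G) P := by
  obtain ⟨B, hB, hoff⟩ := h.exists_le S (hP.le.trans (le_normalizer_zl _ _)) hA
  exact hFF G (S : Subgroup G) P (syl_of_sylow S hP.le) hP.toIsMinPar (hP.isLoc.char2 S hc)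
    ⟨B, hB.trans hP.le, hoff⟩

/-- `NoOver` for all elementary abelian 2-subgroups of `N_G(V_P)`. -/
theorem le_of_noOver (S : Sylow 2 G) {P V A : Subgroup G} (hSP : (S : Subgroup G) ≤ P)
    (hPV : P ≤ normalizer (V : Set G)) (hNO : NoOver V P) (hA : IsElementaryAbelian 2 A)
    (hAN : A ≤ normalizer (V : Set G)) :
    Nat.card A * Nat.card ↥(V ⊓ centralizer (A : Set G)) ≤
      Nat.card V * Nat.card ↥(A ⊓ centralizer (V : Set G)) := by
  obtain ⟨n, hn, h1⟩ := exists_conj_le S (hSP.trans hPV) (isPGroup_of_elem hA) hAN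
  have h2 := hNO (cj n A) (h1.trans hSP) (isElementaryAbelian_cj n hA)
  have h3 : cj n V = V := cj_eq_of_mem_normalizer hn
  have h4 : V ⊓ centralizer (cj n A : Set G) = cj n (V ⊓ centralizer (A : Set G)) := by
    rw [cj_inf, cj_centralizer, h3]
  have h5 : cj n A ⊓ centralizer (V : Set G) = cj n (A ⊓ centralizer (V : Set G)) := by
    rw [cj_inf, cj_centralizer, h3]
  rw [h4, h5, card_cj, card_cj, card_cj] at h2
  exact h2

end facts

/-! ### Mutual pairs -/

section pair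

variable {G : Type u} [Group G] [Finite G]

omit [Finite G] in
theorem conj_smul_eq_cj (x : G) (H : Subgroup G) : MulAut.conj x • H = cj x H := rfl

omit [Finite G] in
theorem Mutual.not_le {S P₁ P₂ : Subgroup G} {x : G} (h : Mutual S P₁ P₂ x) :
    ¬ MulAut.conj x • zl S P₂ ≤ centralizer (zl S P₁ : Set G) := by
  intro h1
  apply h.ne
  rw [commutator_comm, commutator_eq_bot_iff_le_centralizer]
  exact h1

/-- The first member of a mutual pair with `V'` an offender on `V`. -/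
theorem of_mutual_off (hFF : Stmt.{u}) (hc : IsCharacteristicTwoType G) (S : Sylow 2 G)
    {P₁ P₂ : Subgroup G} {x : G} (h : Mutual (S : Subgroup G) P₁ P₂ x)
    (hoff : Off (zl (S : Subgroup G) P₁) (cj x (zl (S : Subgroup G) P₂))) :
    (NoOver (zl (S : Subgroup G) P₁) P₁ ∧ Concl (S : Subgroup G) P₁) ∧
      Off (cj x (zl (S : Subgroup G) P₂)) (zl (S : Subgroup G) P₁) := by
  have h1 := of_off hFF hc S h.star₁.toIsPar h.le₂ hoff
  refine ⟨h1, elem_zl hc S h.star₁.isLoc, ?_, ?_⟩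
  · exact fun h2 => hoff.ne (le_centralizer_iff.mp h2)
  · exact le_of_noOver S h.star₁.le (le_normalizer_zl _ _) h1.1 hoff.elem h.le₂

/-- **Both members of a mutual pair.** -/
theorem of_mutual (hFF : Stmt.{u}) (hc : IsCharacteristicTwoType G) (S : Sylow 2 G)
    {P₁ P₂ : Subgroup G} {x : G} (h : Mutual (S : Subgroup G) P₁ P₂ x) :
    (NoOver (zl (S : Subgroup G) P₁) P₁ ∧ Concl (S : Subgroup G) P₁) ∧
      (NoOver (zl (S : Subgroup G) P₂) P₂ ∧ Concl (S : Subgroup G) P₂) ∧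
      Off (zl (S : Subgroup G) P₁) (MulAut.conj x • zl (S : Subgroup G) P₂) ∧
      Off (MulAut.conj x • zl (S : Subgroup G) P₂) (zl (S : Subgroup G) P₁) ∧
      Nat.card (zl (S : Subgroup G) P₁) *
          Nat.card ↥((MulAut.conj x • zl (S : Subgroup G) P₂) ⊓ centralizer (zl (S : Subgroup G) P₁ : Set G)) =
        Nat.card ↥(MulAut.conj x • zl (S : Subgroup G) P₂) *
          Nat.card ↥(zl (S : Subgroup G) P₁ ⊓
            centralizer ((MulAut.conj x • zl (S : Subgroup G) P₂ : Subgroup G) : Set G)) := by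
  -- both are offenders on each other as soon as one is
  have key : ∀ {Q₁ Q₂ : Subgroup G} {y : G}, Mutual (S : Subgroup G) Q₁ Q₂ y →
      Off (zl (S : Subgroup G) Q₁) (cj y (zl (S : Subgroup G) Q₂)) →
      (NoOver (zl (S : Subgroup G) Q₁) Q₁ ∧ Concl (S : Subgroup G) Q₁) ∧
        (NoOver (zl (S : Subgroup G) Q₂) Q₂ ∧ Concl (S : Subgroup G) Q₂) ∧
        Off (cj y (zl (S : Subgroup G) Q₂)) (zl (S : Subgroup G) Q₁) := by
    intro Q₁ Q₂ y hm hoff
    obtain ⟨h1, h2⟩ := of_mutual_off hFF hc S hm hoff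
    refine ⟨h1, ?_, h2⟩
    have h3 := off_cj h2 y⁻¹
    rw [cj_inv_cj] at h3
    exact (of_mutual_off hFF hc S hm.symm h3).1
  have hboth : (NoOver (zl (S : Subgroup G) P₁) P₁ ∧ Concl (S : Subgroup G) P₁) ∧
      (NoOver (zl (S : Subgroup G) P₂) P₂ ∧ Concl (S : Subgroup G) P₂) ∧
      Off (zl (S : Subgroup G) P₁) (cj x (zl (S : Subgroup G) P₂)) ∧
      Off (cj x (zl (S : Subgroup G) P₂)) (zl (S : Subgroup G) P₁) := by
    rcases off_or (elem_zl hc S h.star₁.isLoc) (isElementaryAbelian_cj x (elem_zl hc S h.star₂.isLoc))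
      (Mutual.not_le h) with h1 | h1
    · obtain ⟨h2, h3, h4⟩ := key h h1
      exact ⟨h2, h3, h1, h4⟩
    · have h2 := off_cj h1 x⁻¹
      rw [cj_inv_cj] at h2
      obtain ⟨h3, h4, h5⟩ := key h.symm h2
      refine ⟨h4, h3, ?_, h1⟩
      have h6 := off_cj h5 x
      rwa [cj_cj_inv] at h6
  obtain ⟨h1, h2, h3, h4⟩ := hboth
  exact ⟨h1, h2, h3, h4, le_antisymm h3.le h4.le⟩

end pair

/-! ### The cases of the conclusion -/

section conclcases

variable {G : Type u} [Group G] {T H : Subgroup G}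

theorem Concl.cases (h : Concl T H) : Single T H ∨
    (∃ (F : Type) (_ : Field F) (_ : Finite F) (_ : CharP F 2) (k : ℕ),
      2 ≤ k ∧ Nonempty (NatK F T H (zl T H) (cv T H) k)) ∨
    ∃ k m : ℕ, 0 < k ∧ 2 ≤ m ∧ Nonempty (SymK T H (zl T H) (cv T H) k m) := by
  rcases h with ⟨F, i1, i2, i3, k, hk, ⟨M⟩⟩ | h
  · rcases Nat.lt_or_ge k 2 with h2 | h2
    · obtain rfl : k = 1 := by omega
      exact Or.inl M.single
    · exact Or.inr (Or.inl ⟨F, i1, i2, i3, k, h2, ⟨M⟩⟩)
  · exact Or.inr (Or.inr h)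

end conclcases

end Cfsg.Agent.Omega.FFThm
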