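import Cfsg.Agent.Omega.MinPar

/-!
# LEMMA K: two blocks in a common 2-local subgroup have commuting modules (project OMEGA)

`L` is a *block over `B` with module `V`* (`Block p B L V`) if `B` is a `p`-group which is normal in
every `p`-subgroup over it (for instance a Baumann subgroup), `L` is generated by the `L`-conjugates
of `B`, every element normalising all these conjugates normalises `V`, `L` acts on `V = [V, L]`, every
`L`-invariant subgroup of `V` is centralised by `L` or is `V`, and every normal `p`-subgroup of `L`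
centralises `V`.  No module theory, no condition on Sylow subgroups, nothing on the field.

* `Block.le_centralizer` : a `p`-group normalised by `L` centralises `V`;
* `Block.le` (LEMMA K) : if `W` is a `p`-subgroup normalised by `H ≥ L, V` and `C_H(W) ≤ W` then
  `V ≤ W` (and `W ≤ C(V)`);
* `Block.commutator_eq_bot` : two blocks in a common such `H` have commuting modules;
* `Block.nonLoc` : in a group of characteristic 2 type, `[V, V'] ≠ 1` implies that `L`, `L'`
  normalise no common nontrivial 2-subgroup.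
-/

set_option autoImplicit false

namespace Cfsg.Agent.Omega.LemmaK

open Subgroup MulAction Pointwise Cfsg Cfsg.Agent.ZN Cfsg.Agent.MinSimple.VModule
open Cfsg.Agent.MinSimple.MinParabolic Cfsg.Agent.MinSimple.Basic

universe u

variable {G : Type u} [Group G]

/-! ### Preliminaries -/

theorem eq_bot_of_le_commutator [Finite G] {p : ℕ} [Fact p.Prime] {T V : Subgroup G}
    (hT : IsPGroup p T) (hVT : V ≤ T) (h : V ≤ ⁅V, T⁆) : V = ⊥ := by
  have h1 : ∀ n, V ≤ T.lowerCentralSeries n := by
    intro n
    induction n with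
    | zero => exact hVT
    | succ n ih => exact h.trans (commutator_mono ih le_rfl)
  have := hT.isNilpotent
  obtain ⟨n, hn⟩ := (T.isNilpotent_iff_lowerCentralSeries).mp inferInstance
  exact le_bot_iff.mp (hn ▸ h1 n)

/-- A `p`-group `B` which is normal in every `p`-subgroup over it. -/
def WeakNormal (p : ℕ) (B : Subgroup G) : Prop :=
  ∀ T : Subgroup G, IsPGroup p T → B ≤ T → T ≤ normalizer (B : Set G)

theorem normalizer_conj (x : G) (B : Subgroup G) :
    normalizer ((MulAut.conj x • B : Subgroup G) : Set G) =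
      MulAut.conj x • normalizer (B : Set G) := by
  ext g
  rw [Subgroup.mem_pointwise_smul_iff_inv_smul_mem]
  simp only [mem_normalizer_iff, Subgroup.mem_pointwise_smul_iff_inv_smul_mem, ← map_inv,
    MulAut.smul_def, MulAut.conj_apply, inv_inv]
  constructor
  · intro h y
    have h1 := h (x * y * x⁻¹)
    simpa [mul_assoc] using h1
  · intro h y
    have h1 := h (x⁻¹ * y * x)
    simpa [mul_assoc] using h1

theorem WeakNormal.conj {p : ℕ} {B : Subgroup G} (h : WeakNormal p B) (x : G) :
    WeakNormal p (MulAut.conj x • B) := by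
  intro T hT hBT
  have h1 : IsPGroup p (MulAut.conj x⁻¹ • T : Subgroup G) := hT.map _
  have h2 : B ≤ MulAut.conj x⁻¹ • T := by
    intro b hb
    rw [Subgroup.mem_pointwise_smul_iff_inv_smul_mem]
    have h3 := hBT (Subgroup.smul_mem_pointwise_smul b (MulAut.conj x) B hb)
    simpa using h3
  have h3 := h _ h1 h2
  rw [normalizer_conj]
  intro t ht
  rw [Subgroup.mem_pointwise_smul_iff_inv_smul_mem]
  have h4 := h3 (Subgroup.smul_mem_pointwise_smul t (MulAut.conj x⁻¹) T ht)
  simpa using h4

/-! ### Blocks -/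

/-- A block `L` over the `p`-group `B`, with module `V`. -/
structure Block (p : ℕ) (B L V : Subgroup G) : Prop where
  two : IsPGroup p B
  le : B ≤ L
  nor : WeakNormal p B
  gen : L ≤ ⨆ x : L, MulAut.conj (x : G) • B
  inv : ∀ g : G, (∀ x ∈ L, g ∈ normalizer ((MulAut.conj x • B : Subgroup G) : Set G)) →
    g ∈ normalizer (V : Set G)
  Vp : IsPGroup p V
  VL : V ≤ L
  LV : L ≤ normalizer (V : Set G)
  core : ∀ W : Subgroup G, IsPGroup p W → W ≤ L → L ≤ normalizer (W : Set G) →
    W ≤ centralizer (V : Set G)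
  irr : ∀ U : Subgroup G, U ≤ V → L ≤ normalizer (U : Set G) →
    U ≤ centralizer (L : Set G) ∨ V ≤ U
  perf : V ≤ ⁅V, L⁆

variable {p : ℕ} {B L V : Subgroup G}

theorem Block.conj_le (h : Block p B L V) {x : G} (hx : x ∈ L) : MulAut.conj x • B ≤ L := by
  rintro _ ⟨b, hb, rfl⟩
  exact L.mul_mem (L.mul_mem hx (h.le hb)) (L.inv_mem hx)

/-- An element normalising all conjugates `B^x`, `x ∈ L`, normalises `L`. -/
theorem Block.mem_normalizer (h : Block p B L V) {g : G}
    (hg : ∀ x ∈ L, g ∈ normalizer ((MulAut.conj x • B : Subgroup G) : Set G)) :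
    g ∈ normalizer (L : Set G) := by
  have h1 : L = ⨆ x : L, MulAut.conj (x : G) • B :=
    le_antisymm h.gen (iSup_le fun x => h.conj_le x.2)
  have key : ∀ k : G, (∀ x ∈ L, k ∈ normalizer ((MulAut.conj x • B : Subgroup G) : Set G)) →
      ∀ y ∈ L, k * y * k⁻¹ ∈ L := by
    intro k hk y hy
    have h2 : L ≤ L.comap (MulAut.conj k).toMonoidHom := by
      conv_lhs => rw [h1]
      refine iSup_le fun x b hb => ?_
      rw [mem_comap]
      exact h.conj_le x.2 (((mem_normalizer_iff.mp (hk x x.2)) b).mp hb)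
    exact h2 hy
  rw [mem_normalizer_iff]
  intro y
  refine ⟨key g hg y, fun hy => ?_⟩
  have h3 := key g⁻¹ (fun x hx => inv_mem (hg x hx)) _ hy
  simpa [mul_assoc] using h3

/-- A `p`-group normalised by a block centralises its module. -/
theorem Block.le_centralizer [Finite G] [Fact p.Prime] (h : Block p B L V) {W : Subgroup G}
    (hW : IsPGroup p W) (hLW : L ≤ normalizer (W : Set G)) : W ≤ centralizer (V : Set G) := by
  -- `W` normalises all `B^x`
  have h1 : ∀ w ∈ W, ∀ x ∈ L, w ∈ normalizer ((MulAut.conj x • B : Subgroup G) : Set G) := by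
    intro w hw x hx
    have h2 : IsPGroup p (MulAut.conj x • B : Subgroup G) := h.two.map _
    have h3 : IsPGroup p ((MulAut.conj x • B : Subgroup G) ⊔ W : Subgroup G) :=
      IsPGroup.to_sup_of_normal_right' h2 hW ((h.conj_le hx).trans hLW)
    exact (h.nor.conj x _ h3 le_sup_left) (le_sup_right (a := MulAut.conj x • B) hw)
  have hWV : W ≤ normalizer (V : Set G) := fun w hw => h.inv w (h1 w hw)
  have hWL : W ≤ normalizer (L : Set G) := fun w hw => h.mem_normalizer (h1 w hw)
  -- `[W, L] ≤ W ∩ L ≤ C(V)`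
  have h4 : W ⊓ L ≤ centralizer (V : Set G) := by
    refine h.core _ (hW.to_le inf_le_left) inf_le_right ?_
    intro l hl
    rw [mem_normalizer_iff]
    intro y
    rw [mem_inf, mem_inf, ← mem_normalizer_iff.mp (hLW hl) y]
    exact and_congr_right fun _ => ⟨fun hy => L.mul_mem (L.mul_mem hl hy) (L.inv_mem hl),
      fun hy => by simpa [mul_assoc] using L.mul_mem (L.mul_mem (L.inv_mem hl) hy) hl⟩
  have h5 : ⁅W, L⁆ ≤ W ⊓ L := by
    refine le_inf ?_ ?_
    · exact commutator_le.mpr fun w hw l hl => by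
        have := (mem_normalizer_iff.mp (hLW hl) w⁻¹).mp (W.inv_mem hw)
        have h6 := W.mul_mem hw this
        simpa [commutatorElement_def, mul_assoc] using h6
    · exact commutator_le.mpr fun w hw l hl => by
        have := (mem_normalizer_iff.mp (hWL hw) l).mp hl
        have h6 := L.mul_mem this (L.inv_mem hl)
        simpa [commutatorElement_def, mul_assoc] using h6
  have h7 : ⁅⁅W, L⁆, V⁆ = ⊥ := by
    rw [commutator_eq_bot_iff_le_centralizer]
    exact h5.trans h4
  -- `D = [V, W]` is `L`-invariant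
  have hD : ⁅V, W⁆ ≤ V := by
    exact commutator_le.mpr fun v hv w hw => by
      have := (mem_normalizer_iff.mp (hWV hw) v⁻¹).mp (V.inv_mem hv)
      have h6 := V.mul_mem hv this
      simpa [commutatorElement_def, mul_assoc] using h6
  have hLD : L ≤ normalizer ((⁅V, W⁆ : Subgroup G) : Set G) := by
    have key : ∀ l ∈ L, ∀ y ∈ ⁅V, W⁆, l * y * l⁻¹ ∈ ⁅V, W⁆ := by
      intro l hl
      have h8 : ⁅V, W⁆ ≤ (⁅V, W⁆ : Subgroup G).comap (MulAut.conj l).toMonoidHom := by
        refine commutator_le.mpr fun v hv w hw => ?_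
        rw [mem_comap, map_commutatorElement]
        exact commutator_mem_commutator ((mem_normalizer_iff.mp (h.LV hl) v).mp hv)
          ((mem_normalizer_iff.mp (hLW hl) w).mp hw)
      exact fun y hy => h8 hy
    intro l hl
    rw [mem_normalizer_iff]
    intro y
    refine ⟨key l hl y, fun hy => ?_⟩
    have := key l⁻¹ (L.inv_mem hl) _ hy
    simpa [mul_assoc] using this
  rcases h.irr _ hD hLD with h9 | h9
  · have h10 : ⁅⁅V, W⁆, L⁆ = ⊥ := by
      rw [commutator_eq_bot_iff_le_centralizer]
      exact h9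
    have h11 : ⁅⁅L, V⁆, W⁆ = ⊥ := commutator_commutator_eq_bot_of_rotate h10 h7
    have h12 : ⁅V, W⁆ = ⊥ := by
      refine le_bot_iff.mp (h11 ▸ commutator_mono ?_ le_rfl)
      rw [commutator_comm L V]
      exact h.perf
    rw [← commutator_eq_bot_iff_le_centralizer, commutator_comm]
    exact h12
  · have h13 : V = ⊥ := by
      refine eq_bot_of_le_commutator (p := p) (T := V ⊔ W)
        (IsPGroup.to_sup_of_normal_left' h.Vp hW hWV) le_sup_left
        (h9.trans (commutator_mono le_rfl le_sup_right))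
    rw [h13]
    intro w _
    rw [mem_centralizer_iff]
    rintro y hy
    rw [mem_bot.mp hy, one_mul, mul_one]

/-- LEMMA K. -/
theorem Block.le_of_char [Finite G] [Fact p.Prime] (h : Block p B L V) {H W : Subgroup G}
    (hLH : L ≤ H) (hW : IsPGroup p W) (hHW : H ≤ normalizer (W : Set G))
    (hc : H ⊓ centralizer (W : Set G) ≤ W) : V ≤ W := by
  have h1 := h.le_centralizer hW (hLH.trans hHW)
  refine le_trans (le_inf (h.VL.trans hLH) ?_) hc
  rwa [le_centralizer_iff]

/-- Two blocks in a common subgroup of characteristic `p` have commuting modules. -/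
theorem Block.commutator_eq_bot [Finite G] [Fact p.Prime] (h : Block p B L V)
    {B' L' V' : Subgroup G} (h' : Block p B' L' V') {H W : Subgroup G}
    (hLH : L ≤ H) (hLH' : L' ≤ H) (hW : IsPGroup p W)
    (hHW : H ≤ normalizer (W : Set G)) (hc : H ⊓ centralizer (W : Set G) ≤ W) : ⁅V, V'⁆ = ⊥ := by
  have h1 := h.le_of_char hLH hW hHW hc
  have h2 := h'.le_centralizer hW (hLH'.trans hHW)
  rw [commutator_eq_bot_iff_le_centralizer]
  exact h1.trans h2

/-- In a group of characteristic 2 type: two blocks normalising a common nontrivial 2-subgroup have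
commuting modules. -/
theorem Block.commutator_eq_bot_of_local [Finite G] (hG : IsCharacteristicTwoType G)
    (h : Block 2 B L V) {B' L' V' : Subgroup G} (h' : Block 2 B' L' V') {U : Subgroup G}
    (hU : IsPGroup 2 U) (hU1 : U ≠ ⊥) (hL : L ≤ normalizer (U : Set G))
    (hL' : L' ≤ normalizer (U : Set G)) : ⁅V, V'⁆ = ⊥ := by
  have : Fact (Nat.Prime 2) := ⟨Nat.prime_two⟩
  refine h.commutator_eq_bot h' hL hL' (o2_isPGroup (normalizer (U : Set G)))
    (le_normalizer_o2 _) ?_
  have h1 := hG.2 U hU hU1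
  rintro x ⟨hx, hxc⟩
  have h2 : (⟨x, hx⟩ : normalizer (U : Set G)) ∈
      centralizer (pCore 2 (normalizer (U : Set G)) : Set (normalizer (U : Set G))) := by
    rw [mem_centralizer_iff]
    intro y hy
    refine Subtype.ext ?_
    exact mem_centralizer_iff.mp hxc (y : G) ⟨y, hy, rfl⟩
  exact ⟨⟨x, hx⟩, h1 h2, rfl⟩

/-- Corollary 1: `[V, V'] ≠ 1` implies that `(L, L')` is nonlocal. -/
theorem Block.nonLoc [Finite G] (hG : IsCharacteristicTwoType G) (h : Block 2 B L V)
    {B' L' V' : Subgroup G} (h' : Block 2 B' L' V') (hne : ⁅V, V'⁆ ≠ ⊥) :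
    MinPar.NonLoc L L' := by
  intro U hU h1 h2
  by_contra h3
  exact hne (h.commutator_eq_bot_of_local hG h' hU h3 h1 h2)

/-! ### Building blocks -/

theorem mem_normalizer_iff_smul {g : G} {X : Subgroup G} :
    g ∈ normalizer (X : Set G) ↔ MulAut.conj g • X = X := by
  rw [mem_normalizer_iff]
  constructor
  · intro h
    ext y
    rw [Subgroup.mem_pointwise_smul_iff_inv_smul_mem, h]
    simp [mul_assoc]
  · intro h y
    have h1 : g * y * g⁻¹ ∈ MulAut.conj g • X ↔ y ∈ X := by
      rw [Subgroup.mem_pointwise_smul_iff_inv_smul_mem]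
      simp [mul_assoc]
    rw [← h1, h]

/-- The field `inv` for `V = [⟨Z₀^L⟩, K]`: `Z₀` is normalised by the elements normalising `B`, and `K`
by the elements normalising `L`. -/
theorem inv_of {Z₀ K : Subgroup G} (hBL : B ≤ L) (hgen : L ≤ ⨆ x : L, MulAut.conj (x : G) • B)
    (hZ : normalizer (B : Set G) ≤ normalizer (Z₀ : Set G))
    (hK : normalizer (L : Set G) ≤ normalizer (K : Set G))
    (hV : V = ⁅⨆ x : L, MulAut.conj (x : G) • Z₀, K⁆) (g : G)
    (hg : ∀ x ∈ L, g ∈ normalizer ((MulAut.conj x • B : Subgroup G) : Set G)) :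
    g ∈ normalizer (V : Set G) := by
  have hL1 : (⨆ x : L, MulAut.conj (x : G) • B) = L := by
    refine le_antisymm (iSup_le fun x => ?_) hgen
    rintro _ ⟨b, hb, rfl⟩
    exact L.mul_mem (L.mul_mem x.2 (hBL hb)) (L.inv_mem x.2)
  have hsup : ∀ Z : Subgroup G, (∀ x ∈ L, g ∈ normalizer ((MulAut.conj x • Z : Subgroup G) : Set G)) →
      g ∈ normalizer ((⨆ x : L, MulAut.conj (x : G) • Z : Subgroup G) : Set G) := fun Z hZ' =>
    iInf_normalizer_le_normalizer_iSup _ (mem_iInf.mpr fun x => hZ' x x.2)
  have hgL : g ∈ normalizer (L : Set G) := by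
    rw [← hL1]
    exact hsup B hg
  rw [mem_normalizer_iff_smul, hV]
  have h1 : MulAut.conj g • (⨆ x : L, MulAut.conj (x : G) • Z₀ : Subgroup G) =
      ⨆ x : L, MulAut.conj (x : G) • Z₀ := by
    refine mem_normalizer_iff_smul.mp (hsup Z₀ fun x hx => ?_)
    have h2 := hg x hx
    rw [normalizer_conj] at h2 ⊢
    exact Subgroup.pointwise_smul_le_pointwise_smul_iff.mpr hZ h2
  have h2 := mem_normalizer_iff_smul.mp (hK hgL)
  calc MulAut.conj g • ⁅⨆ x : L, MulAut.conj (x : G) • Z₀, K⁆
      = ⁅MulAut.conj g • (⨆ x : L, MulAut.conj (x : G) • Z₀ : Subgroup G), MulAut.conj g • K⁆ :=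
        Subgroup.map_commutator _ _ _
    _ = _ := by rw [h1, h2]

end Cfsg.Agent.Omega.LemmaK
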