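import Cfsg.Agent.Omega.Assembly
import Cfsg.Agent.Omega.MinPar
import Cfsg.Agent.Omega.VP

/-!
# OMEGA: the master reduction of the even half (frame)

`G` is simple, K-proper, of characteristic 2 type and of sectional 2-rank at least 5 (`Ctx G`), `S` is a
Sylow 2-subgroup, `Z = Ω₁(Z(S)) = zc S`, `L(S)`, `P(S)`, `P*(S)` are `IsLoc`, `IsPar`, `IsParS`.

* `FF S` (`Omega.VP`): there is a mutual pair `V_P`, `V_{P'}^g` (`P, P' ∈ P*(S)`);
* `Full S`: no proper subgroup of `G` contains all members of `L(S)`;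
* `NodeI`: not `Full S` implies that `G` has a strongly embedded subgroup;
* `NodeFF`, `NodeNOFF`: the two main cases;
* `evenHalf`: Bender's theorem and the three nodes imply the even half.

`NodeFF` is subdivided in `Omega.FrameFF`, `NodeNOFF` in `Omega.FrameNOFF`, `NodeI` in `Omega.FrameI`.
-/

set_option autoImplicit false

namespace Cfsg.Agent.Omega.Frame

open Subgroup Cfsg Cfsg.Agent.ZN Cfsg.Agent.Omega.MinPar
open Cfsg.Agent.MinSimple.VModule (zc_le normalizer_le_normalizer_zc)
open Cfsg.Agent.MinSimple.Basic (zc_ne_bot)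

universe u

/-! ### The context -/

/-- The standing hypotheses of the even half. -/
structure Ctx (G : Type u) [Group G] [Finite G] : Prop where
  simple : IsSimpleGroup G
  nonComm : ¬ IsMulCommutative G
  kproper : IsKProper G
  char2 : IsCharacteristicTwoType G
  rank : ¬ SectionalPRankLE 2 4 G

section defs

variable {G : Type u} [Group G]

/-- No proper subgroup contains all members of `L(S)`. -/
def Full (S : Subgroup G) : Prop :=
  ∀ Y : Subgroup G, (∀ L : Subgroup G, IsLoc S L → L ≤ Y) → Y = ⊤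

end defs

/-! ### Bender's theorem -/

theorem charP_two {F : Type*} [Field F] [Fintype F] {n : ℕ} (hF : Fintype.card F = 2 ^ n) :
    CharP F 2 := by
  obtain ⟨p, hp⟩ := CharP.exists F
  have hp' : p.Prime := (CharP.char_is_prime_or_zero F p).resolve_right
    (fun h0 => by subst h0; exact CharP.char_ne_zero_of_finite F 0 rfl)
  obtain ⟨k, hk1, hk2⟩ := FiniteField.card F p
  have h2 : p = 2 := by
    have h1 : p ∣ 2 ^ n := by
      rw [← hF, hk2]
      exact dvd_pow_self p k.pos.ne'
    exact (Nat.prime_dvd_prime_iff_eq hp' Nat.prime_two).mp (hp'.dvd_of_dvd_pow h1)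
  rwa [h2] at hp

/-- The text of `StrongEmb.Strong.result` (landed): Bender's theorem for simple groups. -/
def Bender : Prop :=
  ∀ (G : Type u) [Group G] [Finite G] [IsSimpleGroup G], (∃ a b : G, a * b ≠ b * a) →
    ∀ H : Subgroup G, IsStronglyEmbedded H →
    (∃ (F : Type) (_ : Field F) (_ : Fintype F), (∃ n : ℕ, 2 ≤ n ∧ Fintype.card F = 2 ^ n) ∧
          Nonempty (G ≃* Matrix.ProjectiveSpecialLinearGroup (Fin 2) F)) ∨
        Cfsg.Lie.IsoSuzuki G ∨
        (∃ (F : Type) (_ : Field F) (_ : Fintype F) (n : ℕ), 2 ≤ n ∧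
          Fintype.card F = (2 ^ n) ^ 2 ∧ Nonempty (G ≃* Cfsg.PSU 3 F (2 ^ n)))

/-- A simple group with a strongly embedded subgroup is known. -/
theorem known_of_stronglyEmbedded (hB : Bender.{u}) {G : Type u} [Group G] [Finite G]
    [IsSimpleGroup G] (hna : ¬ IsMulCommutative G) {H : Subgroup G} (hH : IsStronglyEmbedded H) :
    IsKnownSimple' G := by
  have hna' : ∃ a b : G, a * b ≠ b * a := by
    by_contra hcon
    push Not at hcon
    exact hna ⟨⟨hcon⟩⟩
  rcases hB G hna' H hH with ⟨F, i1, i2, ⟨n, hn, hF⟩, he⟩ | h |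
    ⟨F, i1, i2, n, hn, hF, he⟩
  · have hc := charP_two hF
    refine OddHalf.Known.known_of_isLie (p := 2) (Or.inl ⟨F, i1, i2, hc, 2, le_rfl, fun _ => ?_, he⟩)
    rw [hF]
    calc 4 = 2 ^ 2 := by norm_num
      _ ≤ 2 ^ n := Nat.pow_le_pow_right (by norm_num) hn
  · refine OddHalf.Known.known_of_isLie (p := 2) ?_
    unfold IsLieTypeChar
    tauto
  · have hF' : Fintype.card F = 2 ^ (n * 2) := by rw [hF, ← pow_mul]
    have hc := charP_two hF'
    refine OddHalf.Known.known_of_isLie (p := 2) (Or.inr (Or.inr (Or.inl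
      ⟨F, i1, i2, hc, 3, 2 ^ n, hF, le_rfl, ?_, he⟩)))
    rintro ⟨-, h2⟩
    have h4 : 4 ≤ 2 ^ n := by
      calc 4 = 2 ^ 2 := by norm_num
        _ ≤ 2 ^ n := Nat.pow_le_pow_right (by norm_num) hn
    omega

/-! ### The nodes -/

/-- **Node I** (`|M(S)| = 1` and its generalisation): if all members of `L(S)` lie in a proper subgroup,
then `G` has a strongly embedded subgroup. -/
def NodeI : Prop :=
  ∀ (G : Type u) [Group G] [Finite G], Ctx G → ∀ (S : Sylow 2 G), ¬ Full (S : Subgroup G) →
    ∃ H : Subgroup G, IsStronglyEmbedded H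

/-- **Node FF**: a mutual pair exists. -/
def NodeFF : Prop :=
  ∀ (G : Type u) [Group G] [Finite G], Ctx G → ∀ (S : Sylow 2 G), Full (S : Subgroup G) →
    FF (S : Subgroup G) → IsKnownSimple' G

/-- **Node NOFF**: no mutual pair exists. -/
def NodeNOFF : Prop :=
  ∀ (G : Type u) [Group G] [Finite G], Ctx G → ∀ (S : Sylow 2 G), Full (S : Subgroup G) →
    ¬ FF (S : Subgroup G) → IsKnownSimple' G

/-- **The even half from the three nodes.** -/
theorem evenHalf (hB : Bender.{u}) (h1 : NodeI.{u}) (h2 : NodeFF.{u}) (h3 : NodeNOFF.{u}) : Assembly.EvenHalf.{u} := by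
  intro G _ _ _ hna hK hc hr
  have hG : Ctx G := ⟨inferInstance, hna, hK, hc, hr⟩
  have S : Sylow 2 G := default
  by_cases hF : Full (S : Subgroup G)
  · by_cases hm : FF (S : Subgroup G)
    · exact h2 G hG S hF hm
    · exact h3 G hG S hF hm
  · obtain ⟨H, hH⟩ := h1 G hG S hF
    exact known_of_stronglyEmbedded hB hna hH

/-! ### The same relative to a class of groups

`K` is a class of groups (for the even half: all groups; for the strongly quasithin case: `StrQ`). -/

/-- A class of groups. -/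
abbrev Cls : Type (u + 1) := ∀ (G : Type u) [Group G], Prop

/-- The class of all groups. -/
def All : Cls.{u} := fun _ _ => True

section classes

variable (K : Cls.{u})

/-- `NodeI` relative to the class `K`. -/
def NodeIK : Prop :=
  ∀ (G : Type u) [Group G] [Finite G], Ctx G → K G → ∀ (S : Sylow 2 G), ¬ Full (S : Subgroup G) →
    ∃ H : Subgroup G, IsStronglyEmbedded H

/-- `NodeFF` relative to the class `K`. -/
def NodeFFK : Prop :=
  ∀ (G : Type u) [Group G] [Finite G], Ctx G → K G → ∀ (S : Sylow 2 G), Full (S : Subgroup G) →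
    FF (S : Subgroup G) → IsKnownSimple' G

/-- `NodeNOFF` relative to the class `K`. -/
def NodeNOFFK : Prop :=
  ∀ (G : Type u) [Group G] [Finite G], Ctx G → K G → ∀ (S : Sylow 2 G), Full (S : Subgroup G) →
    ¬ FF (S : Subgroup G) → IsKnownSimple' G

/-- The even half relative to the class `K`. -/
def EvenHalfK : Prop :=
  ∀ (G : Type u) [Group G] [Finite G] [IsSimpleGroup G], ¬ IsMulCommutative G → IsKProper G →
    IsCharacteristicTwoType G → ¬ SectionalPRankLE 2 4 G → K G → IsKnownSimple' G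

variable {K}

theorem NodeI.toK (h : NodeI.{u}) : NodeIK K := fun G _ _ hG _ S => h G hG S

theorem NodeFF.toK (h : NodeFF.{u}) : NodeFFK K := fun G _ _ hG _ S => h G hG S

theorem NodeNOFF.toK (h : NodeNOFF.{u}) : NodeNOFFK K := fun G _ _ hG _ S => h G hG S

theorem NodeIK.all (h : NodeIK All.{u}) : NodeI.{u} := fun G _ _ hG S => h G hG trivial S

theorem NodeFFK.all (h : NodeFFK All.{u}) : NodeFF.{u} := fun G _ _ hG S => h G hG trivial S

theorem NodeNOFFK.all (h : NodeNOFFK All.{u}) : NodeNOFF.{u} := fun G _ _ hG S => h G hG trivial S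

/-- **The even half relative to a class, from the three nodes.** -/
theorem evenHalfK (hB : Bender.{u}) (h1 : NodeIK K) (h2 : NodeFFK K) (h3 : NodeNOFFK K) :
    EvenHalfK K := by
  intro G _ _ _ hna hK hc hr hcl
  have hG : Ctx G := ⟨inferInstance, hna, hK, hc, hr⟩
  have S : Sylow 2 G := default
  by_cases hF : Full (S : Subgroup G)
  · by_cases hm : FF (S : Subgroup G)
    · exact h2 G hG hcl S hF hm
    · exact h3 G hG hcl S hF hm
  · obtain ⟨H, hH⟩ := h1 G hG hcl S hF
    exact known_of_stronglyEmbedded hB hna hH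

theorem EvenHalfK.all (h : EvenHalfK All.{u}) : Assembly.EvenHalf.{u} :=
  fun G _ _ _ h1 h2 h3 h4 => h G h1 h2 h3 h4 trivial

end classes

/-! ### Elementary consequences -/

section facts

variable {G : Type u} [Group G] [Finite G]

theorem Ctx.not_isPGroup (h : Ctx G) : ¬ IsPGroup 2 G := by
  intro h1
  have := h.simple
  have h2 : Fact (Nat.Prime 2) := ⟨Nat.prime_two⟩
  have h3 : Group.IsSolvable G := by
    have := h1.isNilpotent
    infer_instance
  exact h.nonComm (IsSimpleGroup.comm_iff_isSolvable.mpr h3 |> fun h => ⟨⟨h⟩⟩)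

/-- `O₂(G) = 1`. -/
theorem Ctx.eq_bot (h : Ctx G) {U : Subgroup G} (hU : IsPGroup 2 U)
    (hn : normalizer (U : Set G) = ⊤) : U = ⊥ := by
  have := h.simple
  have h1 : U.Normal := normalizer_eq_top_iff.mp hn
  rcases h1.eq_bot_or_eq_top with h2 | h2
  · exact h2
  · exfalso
    refine h.not_isPGroup ?_
    rw [h2] at hU
    exact hU.of_equiv Subgroup.topEquiv

/-- Two subgroups generating `G` are not contained in a common 2-local subgroup. -/
theorem Ctx.nonLoc (h : Ctx G) {A B : Subgroup G} (hAB : A ⊔ B = ⊤) : NonLoc A B := by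
  intro U hU hA hB
  exact h.eq_bot hU (top_le_iff.mp (hAB ▸ sup_le hA hB))

theorem Ctx.sylow_ne_bot (h : Ctx G) (S : Sylow 2 G) : (S : Subgroup G) ≠ ⊥ := by
  intro h0
  have h2 : Fact (Nat.Prime 2) := ⟨Nat.prime_two⟩
  have h1 := S.not_dvd_index
  rw [h0, index_bot] at h1
  exact h1 h.char2.1.two_dvd

/-- `Full S`, in terms of minimal parabolics: a subgroup containing `N_G(S)` and all members of `P(S)`
is `G`. -/
theorem Full.eq_top {S : Sylow 2 G} (h : Full (S : Subgroup G)) {Y : Subgroup G}
    (hN : normalizer ((S : Subgroup G) : Set G) ≤ Y)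
    (hP : ∀ P : Subgroup G, IsPar (S : Subgroup G) P → P ≤ Y) : Y = ⊤ :=
  h Y fun _ hL => hL.le_of_forall S (inf_le_right.trans hN) fun P hPp _ => hP P hPp

/-- In the case `Full` some member of `P(S)` moves `Ω₁(Z(S))`. -/
theorem Ctx.exists_isParS (h : Ctx G) {S : Sylow 2 G} (hF : Full (S : Subgroup G)) :
    ∃ P : Subgroup G, IsParS (S : Subgroup G) P := by
  by_contra hcon
  push Not at hcon
  have h1 : normalizer (zc (S : Subgroup G) : Set G) = ⊤ := by
    refine hF.eq_top (normalizer_le_normalizer_zc _) fun P hP => ?_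
    by_contra h2
    exact hcon P ⟨hP, h2⟩
  refine zc_ne_bot S.isPGroup' (h.sylow_ne_bot S) ?_
  exact h.eq_bot (S.isPGroup'.to_le (zc_le _)) h1

end facts

end Cfsg.Agent.Omega.Frame
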