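import Cfsg.Agent.Omega.Exits
import Cfsg.Agent.S0247
import Cfsg.Agent.S0298
import Cfsg.Agent.S0301
import Cfsg.Agent.S0280
import Cfsg.Agent.LieClassical.SympCount

/-!
# The exit "3-transpositions" (S0480) of the even half
-/

set_option autoImplicit false

namespace Cfsg.Agent.Omega.Exits

open Cfsg Subgroup

universe u

/-- S0480. -/
def St0480 : Prop :=
  ∀ (G : Type u) [Group G] [Finite G] [IsSimpleGroup G] (_ : ∃ x y : G, x * y ≠ y * x) {D : Set G} (_ : Cfsg.IsThreeTranspositionClass D), (∃ n : ℕ, Nonempty (G ≃* Matrix.symplecticGroup (Fin n) (ZMod 2))) ∨ (∃ (F : Type) (_ : Field F) (_ : Fintype F) (n : ℕ), Fintype.card F = 4 ∧ Nonempty (G ≃* Cfsg.PSU n F 2)) ∨ (∃ m : ℕ, Nonempty (G ≃* Cfsg.POmega (ZMod 3) (Cfsg.quadFormOdd m (ZMod 3)))) ∨ Cfsg.IsFi22 G ∨ Cfsg.IsFi23 G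

variable {G : Type u} [Group G]

/-- A group with trivial centre is its central quotient. -/
theorem quot_center {X Y : Type*} [Group X] [Group Y] (e : X ≃* Y) (h : center X = ⊥) :
    Nonempty (X ≃* Y ⧸ center Y) := by
  have h1 : center Y = ⊥ := by
    rw [eq_bot_iff]
    intro y hy
    have h2 : e.symm y ∈ center X := by
      rw [mem_center_iff]
      intro g
      apply e.injective
      rw [map_mul, map_mul, e.apply_symm_apply]
      exact mem_center_iff.1 hy (e g)
    rw [h, mem_bot] at h2
    have h3 := congrArg e h2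
    rw [e.apply_symm_apply, map_one] at h3
    exact h3
  exact ⟨e.trans ((QuotientGroup.quotientBot.symm).trans (QuotientGroup.quotientMulEquivOfEq h1.symm))⟩

theorem card_psl2_three : Nat.card (Matrix.ProjectiveSpecialLinearGroup (Fin 2) (ZMod 3)) ∣ 48 := by
  have h1 : Nat.card (Matrix.ProjectiveSpecialLinearGroup (Fin 2) (ZMod 3)) ∣
      Nat.card (Matrix.SpecialLinearGroup (Fin 2) (ZMod 3)) :=
    Subgroup.card_quotient_dvd_card _
  refine h1.trans ?_
  have h2 : Nat.card (GL (Fin 2) (ZMod 3)) = 48 := by
    have h3 := Matrix.card_GL_field (𝔽 := ZMod 3) 2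
    rw [h3]
    simp [Finset.prod_fin_eq_prod_range, Finset.prod_range_succ]
  rw [← h2]
  exact Subgroup.card_dvd_of_injective (Matrix.SpecialLinearGroup.toGL)
    Matrix.SpecialLinearGroup.toGL_injective

/-- **The exit S0480** in sectional 2-rank at least 5. -/
theorem known_0480 [Finite G] [IsSimpleGroup G] (hna : ¬ IsMulCommutative G) (h32 : 32 ∣ Nat.card G)
    (h : (∃ n : ℕ, Nonempty (G ≃* Matrix.symplecticGroup (Fin n) (ZMod 2))) ∨ (∃ (F : Type) (_ : Field F) (_ : Fintype F) (n : ℕ), Fintype.card F = 4 ∧ Nonempty (G ≃* Cfsg.PSU n F 2)) ∨ (∃ m : ℕ, Nonempty (G ≃* Cfsg.POmega (ZMod 3) (Cfsg.quadFormOdd m (ZMod 3)))) ∨ Cfsg.IsFi22 G ∨ Cfsg.IsFi23 G) :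
    IsKnownSimple' G ∨ Cfsg.IsFi22 G ∨ Cfsg.IsFi23 G := by
  have hZ := center_eq_bot hna
  rcases h with ⟨n, ⟨e⟩⟩ | ⟨F, i, j, n, hF, ⟨e⟩⟩ | ⟨m, ⟨e⟩⟩ | h
  · left
    have hc : Nat.card G = 2 ^ (n ^ 2) * ∏ i ∈ Finset.range n, (2 ^ (2 * (i + 1)) - 1) := by
      rw [Nat.card_congr e.toEquiv, LieClassical.SympCount.card_symplecticGroup, ZMod.card]
    rcases Nat.lt_or_ge n 3 with hn | hn
    · exfalso
      interval_cases n
      · rw [hc] at h32
        exact absurd h32 (by decide)
      · rw [hc] at h32
        simp at h32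
      · rw [hc] at h32
        simp [Finset.prod_range_succ] at h32
    · exact known_sp hn (quot_center e hZ)
  · left
    rcases Nat.lt_or_ge n 4 with hn | hn
    · exfalso
      have h4 : Fintype.card F = 2 ^ 2 := by rw [hF]; norm_num
      rcases Nat.lt_or_ge n 2 with hn2 | hn2
      · have : Subsingleton (Matrix.SpecialLinearGroup (Fin n) F) := by
          have : Subsingleton (Fin n) := by
            interval_cases n <;> infer_instance
          infer_instance
        have h5 : Nat.card G = 1 := by
          rw [Nat.card_congr e.toEquiv]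
          have : Subsingleton (Cfsg.SU n F 2) := inferInstance
          have : Subsingleton (Cfsg.PSU n F 2) := Quotient.instSubsingletonQuotient _
          exact Nat.card_unique
        rw [h5] at h32
        omega
      · have h5 := Cfsg.Agent.S0280.result h4 n hn2
        rw [← Nat.card_congr e.toEquiv] at h5
        interval_cases n
        · simp [Finset.prod_range_succ] at h5
          omega
        · simp [Finset.prod_range_succ] at h5
          omega
    · exact known_u hn (by rw [hF]; norm_num) ⟨e⟩
  · left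
    rcases Nat.lt_or_ge m 3 with hm | hm
    · interval_cases m
      · exfalso
        have hcomm : ∀ a b : Cfsg.isometryGroup (ZMod 3) (Cfsg.quadFormOdd 0 (ZMod 3)), a * b = b * a := by
          intro a b
          apply Subtype.ext
          apply Units.ext
          ext i j
          have hu : ∀ x y : Unit ⊕ (Fin 0 ⊕ Fin 0), x = y := by
            rintro (x | x | x) (y | y | y)
            · rfl
            all_goals first | exact x.elim0 | exact y.elim0
          have : Unique (Unit ⊕ (Fin 0 ⊕ Fin 0)) := ⟨⟨Sum.inl ()⟩, fun x => hu x _⟩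
          simp only [Subgroup.coe_mul, Units.val_mul, Matrix.mul_apply]
          rw [hu i j]
          apply Finset.sum_congr rfl
          intro k _
          rw [hu k j, mul_comm]
        have h1 : Cfsg.Omega (ZMod 3) (Cfsg.quadFormOdd 0 (ZMod 3)) = ⊥ := by
          rw [Cfsg.Omega, commutator_def, Subgroup.commutator_eq_bot_iff_le_centralizer]
          intro a _
          rw [mem_centralizer_iff]
          intro b _
          exact hcomm b a
        have : Subsingleton ↥(Cfsg.Omega (ZMod 3) (Cfsg.quadFormOdd 0 (ZMod 3))) := by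
          rw [h1]
          infer_instance
        have h5 : Nat.card G = 1 := by
          rw [Nat.card_congr e.toEquiv]
          have : Subsingleton (Cfsg.POmega (ZMod 3) (Cfsg.quadFormOdd 0 (ZMod 3))) :=
            Quotient.instSubsingletonQuotient _
          exact Nat.card_unique
        rw [h5] at h32
        omega
      · exfalso
        obtain ⟨f⟩ := Cfsg.Agent.S0298.result (F := ZMod 3) (by rw [ZMod.card]; decide)
        have h1 : Nat.card G ∣ 48 := by
          rw [Nat.card_congr (e.trans f).toEquiv]
          exact card_psl2_three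
        have h2 := h32.trans h1
        omega
      · obtain ⟨f⟩ := Cfsg.Agent.S0301.result (F := ZMod 3) (by rw [ZMod.card]; decide)
        exact known_sp4 (by rw [ZMod.card]) ⟨e.trans f⟩
    · exact known_poOdd ⟨ZMod 3, _, _, m, hm, by rw [ZMod.card]; decide, ⟨e⟩⟩
  · exact Or.inr h

end Cfsg.Agent.Omega.Exits
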