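import Cfsg.Agent.Omega.Exits
import Cfsg.Agent.Omega.ExitsThree
import Cfsg.Agent.Omega.Frame
import Cfsg.Prelude.Def_CaseTheorems
import Cfsg.Prelude.Def_LieTwisted
import Cfsg.Prelude.Def_Local
import Cfsg.Prelude.Def_Solvable
import Cfsg.Prelude.Def_Spor_Conway
import Cfsg.Prelude.Def_Spor_J1
import Cfsg.Prelude.Def_Spor_J4
import Cfsg.Prelude.Def_Spor_Mathieu
import Cfsg.Prelude.Def_Spor_Th
import Cfsg.Prelude.Def_SporadicB
import Cfsg.Prelude.Def_Sz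
import Cfsg.Prelude.Def_Transfer

/-!
# OMEGA: the outputs of the leaves, and the quoted statements

Every leaf of the even half ends in a group described by one of the listed recognition statements.
`Lib` collects the literal texts of the recognition statements that are quoted; each `Lib.*` theorem
turns the hypothesis delivered by a leaf into `IsKnownSimple' G`.
-/

set_option autoImplicit false
set_option linter.unusedVariables false

namespace Cfsg.Agent.Omega.Outputs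

open Cfsg Subgroup Cfsg.Agent.Omega.Exits Cfsg.Agent.Omega.Frame

universe u

/-- S1670. -/
def St1670 : Prop :=
  ∀ (G : Type u) [Group G] [Finite G] [IsSimpleGroup G] (t : G) (ht : orderOf t = 2) (Q N M : Subgroup (Subgroup.centralizer ({t} : Set G))) [Q.Normal] [N.Normal] [M.Normal] (hQN : Q ≤ N) (hNM : N ≤ M) (hM : M.index = 2) (hQ : Cfsg.IsExtraspecial 2 Q) (hcard : Nat.card Q = 2 ^ 13) (hplus : ∃ E : Subgroup Q, Cfsg.IsElementaryAbelian 2 E ∧ Nat.card E = 2 ^ 7) (hN : Nat.card N = 3 * Nat.card Q) (hcent : ⁅M, N⁆ ≤ Q) (hperf : M ≤ ⁅M, M⁆ ⊔ Q) (h2c : Subgroup.centralizer (Q : Set (Subgroup.centralizer ({t} : Set G))) ≤ Q) (hout : ∀ c : Subgroup.centralizer ({t} : Set G), (∀ m ∈ M, c * m * c⁻¹ * m⁻¹ ∈ N) → c ∈ M) (hM22 : Cfsg.Spor.IsoM22 (M ⧸ N.subgroupOf M)) (h2cen : Cfsg.IsTwoCentralInvolution t),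
    Cfsg.Spor.IsoJ4 G

/-- S1671. -/
def St1671 : Prop :=
  ∀ (G : Type u) [Group G] [Finite G] [IsSimpleGroup G] (t : G) (ht : orderOf t = 2) (Q : Subgroup (Subgroup.centralizer ({t} : Set G))) [Q.Normal] (hQ : Cfsg.IsExtraspecial 2 Q) (hcard : Nat.card Q = 2 ^ 9) (hplus : ∃ E : Subgroup Q, Cfsg.IsElementaryAbelian 2 E ∧ Nat.card E = 2 ^ 5) (h2c : Subgroup.centralizer (Q : Set (Subgroup.centralizer ({t} : Set G))) ≤ Q) (e : (Subgroup.centralizer ({t} : Set G)) ⧸ Q ≃* alternatingGroup (Fin 9)),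
    Cfsg.Spor.IsoTh G

/-- S1675. -/
def St1675 : Prop :=
  ∀ (G : Type u) [Group G] [Finite G] (hO : Cfsg.oddCore G = ⊥) (hZ : Subgroup.center G = ⊥) (t : G) (ht : orderOf t = 2) (hcon : Cfsg.IsPConstrained 2 (Subgroup.centralizer ({t} : Set G))) (hQ : Cfsg.IsExtraspecial 2 (Cfsg.pCore 2 (Subgroup.centralizer ({t} : Set G)))) (hcard : Nat.card (Cfsg.pCore 2 (Subgroup.centralizer ({t} : Set G))) = 2 ^ 9) (e : (Subgroup.centralizer ({t} : Set G)) ⧸ Cfsg.pCore 2 (Subgroup.centralizer ({t} : Set G)) ≃* Matrix.symplecticGroup (Fin 3) (ZMod 2)),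
    Cfsg.Spor.IsoCo2 G

/-- S1740. -/
def St1740 : Prop :=
  ∀ (G : Type u) [Group G] [Finite G] [IsSimpleGroup G] (hG : ¬ IsMulCommutative G) (h3 : ¬ Cfsg.PRankLE 2 2 G) (S : Sylow 2 G) (n : ℕ) (hS : (∃ (F : Type) (_ : Field F) (_ : Fintype F), Fintype.card F = 2 ^ n ∧ ((∃ P : Sylow 2 (Matrix.ProjectiveSpecialLinearGroup (Fin 2) F), Nonempty (↥(S : Subgroup G) ≃* ↥(P : Subgroup (Matrix.ProjectiveSpecialLinearGroup (Fin 2) F)))) ∨ (∃ P : Sylow 2 (Matrix.ProjectiveSpecialLinearGroup (Fin 3) F), Nonempty (↥(S : Subgroup G) ≃* ↥(P : Subgroup (Matrix.ProjectiveSpecialLinearGroup (Fin 3) F)))) ∨ (2 ≤ n ∧ (∃ P : Sylow 2 (Cfsg.PSp 2 F), Nonempty (↥(S : Subgroup G) ≃* ↥(P : Subgroup (Cfsg.PSp 2 F))))))) ∨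
      (∃ (F : Type) (_ : Field F) (_ : Fintype F), Fintype.card F = 4 ^ n ∧ (∃ P : Sylow 2 (Cfsg.PSU 3 F (2 ^ n)), Nonempty (↥(S : Subgroup G) ≃* ↥(P : Subgroup (Cfsg.PSU 3 F (2 ^ n)))))) ∨
      (∃ m : ℕ, 1 ≤ m ∧ n = 2 * m + 1 ∧ ∃ (F : Type) (_ : Field F) (_ : Fintype F), Fintype.card F = 2 ^ n ∧ (∃ P : Sylow 2 ↥(Cfsg.Lie.Sz F (2 ^ (m + 1))), Nonempty (↥(S : Subgroup G) ≃* ↥(P : Subgroup ↥(Cfsg.Lie.Sz F (2 ^ (m + 1)))))))),
    (∃ (F : Type) (_ : Field F) (_ : Fintype F), Fintype.card F = 2 ^ n ∧ (Nonempty (G ≃* Matrix.ProjectiveSpecialLinearGroup (Fin 2) F) ∨ Nonempty (G ≃* Matrix.ProjectiveSpecialLinearGroup (Fin 3) F) ∨ Nonempty (G ≃* Cfsg.PSp 2 F))) ∨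
      (∃ (F : Type) (_ : Field F) (_ : Fintype F), Fintype.card F = 4 ^ n ∧ Nonempty (G ≃* Cfsg.PSU 3 F (2 ^ n))) ∨
      (∃ m : ℕ, 1 ≤ m ∧ n = 2 * m + 1 ∧ ∃ (F : Type) (_ : Field F) (_ : Fintype F), Fintype.card F = 2 ^ n ∧ Nonempty (G ≃* ↥(Cfsg.Lie.Sz F (2 ^ (m + 1))))) ∨
      Cfsg.Lie.IsoRee G ∨ Cfsg.Spor.IsoJ1 G

/-- S1770. -/
def St1770 : Prop :=
  ∀ (G : Type u) [Group G] [Finite G] [IsSimpleGroup G] (S : Sylow 2 G) (r : ℕ),
    (∀ (F : Type) [Field F] [Fintype F], 2 ≤ r → Fintype.card F = 2 ^ r →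
        ∀ P : Sylow 2 ↥(Cfsg.Lie.chevG2.group F), Nonempty (↥(S : Subgroup G) ≃* ↥(P : Subgroup ↥(Cfsg.Lie.chevG2.group F))) →
          Nonempty (G ≃* ↥(Cfsg.Lie.chevG2.group F))) ∧
      (∀ (K : Type) [Field K] [Fintype K], 1 ≤ r → Fintype.card K = 8 ^ r →
        ∀ P : Sylow 2 ↥(Cfsg.Lie.twistedD4 K (2 ^ r)), Nonempty (↥(S : Subgroup G) ≃* ↥(P : Subgroup ↥(Cfsg.Lie.twistedD4 K (2 ^ r)))) →
          Nonempty (G ≃* ↥(Cfsg.Lie.twistedD4 K (2 ^ r))))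

variable {G : Type u} [Group G]

/-- The conclusion of S1143/S1144 (`LieConcl`) is on the list. -/
theorem known_of_lieConcl (h : Cfsg.IsPSL G ∨ Cfsg.IsPSp G ∨ Cfsg.IsPSU G ∨ Cfsg.IsPOmegaOdd G ∨ Cfsg.IsPOmegaPlus G ∨
      Cfsg.IsPOmegaMinus G ∨ Cfsg.IsExceptionalLieType G) : IsKnownSimple' G := known_lie h

theorem known_of_lieType {p : ℕ} (h : IsLieTypeChar p G) : IsKnownSimple' G :=
  OddHalf.Known.known_of_isLie h

/-- The quoted recognition statements. -/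
structure Lib : Prop where
  s0480 : St0480.{u}
  s1143 : St1143.{u}
  s1144 : St1144.{u}
  s1670 : St1670.{u}
  s1671 : St1671.{u}
  s1675 : St1675.{u}
  s1740 : St1740.{u}
  s1759 : St1759.{u}
  s1761 : St1761.{u}
  s1762 : St1762.{u}
  s1763 : St1763.{u}
  s1770 : St1770.{u}
  bender : Bender.{u}

namespace Lib

variable (L : Lib.{u}) [Finite G]

include L

/-- an irreducible `BN`-pair of rank at least 3 -/
theorem known_bn_three [IsSimpleGroup G] (P : BNPair G) (h3 : 3 ≤ P.rank) (hi : P.Irreducible) :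
    IsKnownSimple' G := known_lie (L.s1143 G P h3 hi)

/-- a split `BN`-pair -/
theorem known_bn_split [IsSimpleGroup G] (P : BNPair G) (h1 : 1 ≤ P.rank) (hs : P.IsSplit) :
    IsKnownSimple' G := known_lie (L.s1144 G P h1 hs)

/-- 3-transpositions, sectional 2-rank at least 5 -/
theorem known_three (c : Ctx G) {D : Set G} (hD : IsThreeTranspositionClass D) :
    IsKnownSimple' G ∨ IsFi22 G ∨ IsFi23 G := by
  haveI := c.simple
  refine known_0480 c.nonComm (dvd_card c.rank) (L.s0480 G ?_ hD)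
  by_contra hcon
  push Not at hcon
  exact c.nonComm ⟨⟨hcon⟩⟩

end Lib

end Cfsg.Agent.Omega.Outputs
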