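import Cfsg.Agent.Co2Type.Quad
import Cfsg.Agent.MinSimple.Basic
import Cfsg.Agent.Involutions.BaerSuzuki

/-!
# LEMMA SH: shadows of groups with a large extraspecial 2-subgroup (project OMEGA, EH3)

`Q` is extraspecial, `Q = O₂(C_G(z)) ≥ C_G(Q)` (`Large Q z`), `x ∈ Q` an involution, `x ≠ z`, `t ∈ C_G(x)` with
`a = z^t ∈ Q`, `a ∉ ⟨x, z⟩`, and `C_G(x)` has characteristic 2.  Let `H_x` be the stabiliser of `x⟨z⟩` in `C_G(z)`.
If `O₂(H_x) ≤ Q` and no `H_x`-invariant totally isotropic subspace of `Q/⟨z⟩` contains `x⟨z⟩` properly, this is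
impossible.

This kills the configurations of `M`, `B` (`2^{1+24}.Co₁`, `2^{1+22}.Co₂`) in groups of characteristic 2 type.
(text: helper24, bb OMEGA 11505; the proof here needs no group of maximal class.)
-/

set_option autoImplicit false

namespace Cfsg.Agent.Omega.Shadow

open Subgroup Cfsg Cfsg.Agent.ZN Cfsg.Agent.MinSimple.VModule
open Cfsg.Agent.Co2Type.Quad

universe u

variable {G : Type u} [Group G]

/-- `g` stabilises `x⟨z⟩`, `g ∈ C_G(z)`. -/
def Stab (z x g : G) : Prop := g * z = z * g ∧ (g * x * g⁻¹ = x ∨ g * x * g⁻¹ = x * z)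

/-- (A1) `O₂` of the stabiliser of `x⟨z⟩` in `C_G(z)` lies in `Q`: a 2-subgroup `U ≥ Q` of that stabiliser which is
normalised by it lies in `Q`. -/
def NoTwo (Q : Subgroup G) (z x : G) : Prop :=
  ∀ U : Subgroup G, IsPGroup 2 U → Q ≤ U → (∀ u ∈ U, Stab z x u) →
    (∀ g, Stab z x g → ∀ u ∈ U, g * u * g⁻¹ ∈ U) → U ≤ Q

/-- (A2) no totally isotropic subspace of `Q/⟨z⟩` invariant under the stabiliser of `x⟨z⟩` contains `x⟨z⟩`
properly. -/
def NoIso (Q : Subgroup G) (z x : G) : Prop :=
  ∀ U : Subgroup G, U ≤ Q → z ∈ U → x ∈ U → (∀ u ∈ U, ∀ v ∈ U, u * v = v * u) →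
    (∀ g, Stab z x g → ∀ u ∈ U, g * u * g⁻¹ ∈ U) →
    ∀ u ∈ U, u = 1 ∨ u = z ∨ u = x ∨ u = x * z

section

variable {Q : Subgroup G} {z x : G}

/-- the commutator of two elements of `Q` that do not commute. -/
theorem comm_eq (h : Large Q z) {e f : G} (he : e ∈ Q) (hf : f ∈ Q) (hne : e * f ≠ f * e) :
    e * f * e⁻¹ * f⁻¹ = z := by
  rcases h.comm e he f hf with h1 | h1
  · exact absurd h1 hne
  · rw [h1]
    have h2 := h.comm_z f hf
    have h3 := h.comm_z e he
    calc f * e * z * e⁻¹ * f⁻¹ = f * (e * z) * e⁻¹ * f⁻¹ := by group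
      _ = (f * z) * f⁻¹ := by rw [h3]; group
      _ = z := by rw [h2]; group

/-- an element normalising a nonabelian subgroup of `Q` centralises `z`. -/
theorem comm_z_of_normalizes (h : Large Q z) {X : Subgroup G} (hX : X ≤ Q) {e f : G} (he : e ∈ X)
    (hf : f ∈ X) (hne : e * f ≠ f * e) {g : G} (hg : ∀ y ∈ X, g * y * g⁻¹ ∈ X) : g * z = z * g := by
  have h1 := comm_eq h (hX he) (hX hf) hne
  have hne' : (g * e * g⁻¹) * (g * f * g⁻¹) ≠ (g * f * g⁻¹) * (g * e * g⁻¹) := by
    intro h2
    apply hne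
    have h3 : g * (e * f) * g⁻¹ = g * (f * e) * g⁻¹ := by
      calc g * (e * f) * g⁻¹ = (g * e * g⁻¹) * (g * f * g⁻¹) := by group
        _ = (g * f * g⁻¹) * (g * e * g⁻¹) := h2
        _ = g * (f * e) * g⁻¹ := by group
    exact mul_left_cancel (mul_right_cancel h3)
  have h2 := comm_eq h (hX (hg e he)) (hX (hg f hf)) hne'
  have h3 : g * (e * f * e⁻¹ * f⁻¹) * g⁻¹ = z := by
    rw [← h2]; group
  rw [h1] at h3
  exact mul_inv_eq_iff_eq_mul.1 h3

/-- some element of `Q` moves `x` to `x z`. -/
theorem exists_fuse (h : Large Q z) (hx : x ∈ Q) (hx1 : x ≠ 1) (hxz : x ≠ z) :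
    ∃ q ∈ Q, q * x * q⁻¹ = x * z := by
  by_contra hcon
  push Not at hcon
  rcases h.cent x hx (fun y hy => by
    rcases h.comm y hy x hx with h2 | h2
    · exact h2.symm
    · refine absurd ?_ (hcon y hy)
      have h3 := h.comm_z y hy
      calc y * x * y⁻¹ = x * (y * z) * y⁻¹ := by rw [h2]; group
        _ = x * z := by rw [h3]; group) with h2 | h2
  · exact hx1 h2
  · exact hxz h2

/-- `C_Q(C_Q(x)) ≤ ⟨x, z⟩`. -/
theorem exists_not_comm (h : Large Q z) {a : G} (hx : x ∈ Q) (ha : a ∈ Q)
    (h1 : a ≠ 1) (h2 : a ≠ z) (h3 : a ≠ x) (h4 : a ≠ x * z) :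
    ∃ e ∈ Q, e * x = x * e ∧ e * a ≠ a * e := by
  by_contra hcon
  push Not at hcon
  -- `e ∈ Q` commutes with `x` as soon as ... ; show that `a x⁻¹` or `a` is central
  have key : (∀ y ∈ Q, a * y = y * a) ∨ (∀ y ∈ Q, (a * x) * y = y * (a * x)) := by
    by_contra hc
    push Not at hc
    obtain ⟨⟨y, hy, hya⟩, w, hw, hwax⟩ := hc
    -- `y` does not commute with `a`, so not with `x`
    have hcx : ∀ e ∈ Q, e * a ≠ a * e → e * x = x * e * z := by
      intro e he hea
      rcases h.comm e he x hx with h5 | h5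
      · exact absurd (hcon e he h5) hea
      · exact h5
    have hca : ∀ e ∈ Q, e * a ≠ a * e → e * a = a * e * z := by
      intro e he hea
      rcases h.comm e he a ha with h5 | h5
      · exact absurd h5 hea
      · exact h5
    have hzc : ∀ e ∈ Q, e * z = z * e := h.comm_z
    have hya1 := hca y hy (fun h' => hya h'.symm)
    have hyx1 := hcx y hy (fun h' => hya h'.symm)
    by_cases hwa : w * a = a * w
    · -- then `w` does not commute with `x`, and `w y` commutes with `x` but not with `a`
      have hwx : w * x = x * w * z := by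
        rcases h.comm w hw x hx with h5 | h5
        · exfalso
          apply hwax
          calc a * x * w = a * (x * w) := by group
            _ = a * (w * x) := by rw [h5]
            _ = (a * w) * x := by group
            _ = (w * a) * x := by rw [hwa]
            _ = w * (a * x) := by group
        · exact h5
      have h6 : (w * y) * x = x * (w * y) := by
        calc (w * y) * x = w * (y * x) := by group
          _ = w * (x * y * z) := by rw [hyx1]
          _ = (w * x) * (y * z) := by group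
          _ = x * w * z * (y * z) := by rw [hwx]
          _ = x * w * (z * y) * z := by group
          _ = x * w * (y * z) * z := by rw [hzc y hy]
          _ = x * (w * y) * (z * z) := by group
          _ = x * (w * y) := by rw [h.z_sq, mul_one]
      have h7 := hcon (w * y) (mul_mem hw hy) h6
      apply hya
      have h8 : w * (y * a) = w * (a * y) := by
        calc w * (y * a) = (w * y) * a := by group
          _ = a * (w * y) := h7
          _ = (a * w) * y := by group
          _ = (w * a) * y := by rw [hwa]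
          _ = w * (a * y) := by group
      exact (mul_left_cancel h8).symm
    · have hwa1 := hca w hw hwa
      have hwx1 := hcx w hw hwa
      apply hwax
      calc a * x * w = a * (x * w) := by group
        _ = a * (w * x * z) := by
            rw [hwx1, mul_assoc _ z z, h.z_sq, mul_one]
        _ = (a * w) * (x * z) := by group
        _ = (w * a * z) * (x * z) := by
            rw [hwa1, mul_assoc _ z z, h.z_sq, mul_one]
        _ = w * a * (z * x) * z := by group
        _ = w * a * (x * z) * z := by rw [hzc x hx]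
        _ = w * (a * x) * (z * z) := by group
        _ = w * (a * x) := by rw [h.z_sq, mul_one]
  rcases key with h5 | h5
  · rcases h.cent a ha h5 with h6 | h6
    · exact h1 h6
    · exact h2 h6
  · rcases h.cent (a * x) (mul_mem ha hx) h5 with h6 | h6
    · have h7 : a = x⁻¹ := eq_inv_of_mul_eq_one_left h6
      rcases h.sq x hx with h8 | h8
      · exact h3 (h7.trans (inv_eq_of_mul_eq_one_left h8))
      · apply h4
        have h9 : (x * z) * x = 1 := by
          rw [mul_assoc, ← h.comm_z x hx, ← mul_assoc, h8, h.z_sq]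
        rw [h7, ← eq_inv_of_mul_eq_one_left h9]
    · have h7 : a = z * x⁻¹ := eq_mul_inv_of_mul_eq h6
      rcases h.sq x hx with h8 | h8
      · apply h4
        rw [h7, inv_eq_of_mul_eq_one_left h8, h.comm_z x hx]
      · apply h3
        rw [h7, ← h8]
        group

/-- **LEMMA SH.** -/
theorem false_of_shadow [Finite G] (h : Large Q z) (hx : x ∈ Q) (hx2 : x * x = 1) (hx1 : x ≠ 1)
    (hxz : x ≠ z)
    (hX : ∃ e ∈ Q, ∃ f ∈ Q, e * x = x * e ∧ f * x = x * f ∧ e * f ≠ f * e)
    (hC : centralizer ({x} : Set G) ⊓ centralizer (o2 (centralizer ({x} : Set G)) : Set G) ≤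
      o2 (centralizer ({x} : Set G)))
    {t : G} (htx : t * x = x * t) (hta : t * z * t⁻¹ ∈ Q) (htz : t * z * t⁻¹ ≠ z)
    (htxz : t * z * t⁻¹ ≠ x * z) (hA1 : NoTwo Q z x) (hA2 : NoIso Q z x) : False := by
  classical
  have h2f : Fact (Nat.Prime 2) := ⟨Nat.prime_two⟩
  obtain ⟨e, he, f, hf, hex, hfx, hef⟩ := hX
  set Y : Subgroup G := centralizer ({x} : Set G) with hY
  set R : Subgroup G := o2 Y with hR
  have memY : ∀ {g : G}, g ∈ Y ↔ g * x = x * g := fun {g} => mem_centralizer_singleton_iff
  set X : Subgroup G := Q ⊓ Y with hXdef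
  have hRY : R ≤ Y := o2_le Y
  have hYR : Y ≤ normalizer (R : Set G) := le_normalizer_o2 Y
  have hR2 : IsPGroup 2 R := o2_isPGroup Y
  have hQ2 : IsPGroup 2 Q := by
    intro y
    refine ⟨2, ?_⟩
    apply Subtype.ext
    show ((y : G)) ^ (2 ^ 2) = 1
    have : (y : G) ^ (2 ^ 2) = (y * y) * (y * y) := by
      rw [show (2 ^ 2 : ℕ) = 2 * 2 from rfl, pow_mul, pow_two, pow_two]
    rw [this]
    rcases h.sq y y.2 with h1 | h1 <;> rw [h1]
    · rw [one_mul]
    · exact h.z_sq
  have hxR : x ∈ R := by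
    have h1 : zpowers x ≤ o2 Y := by
      refine le_o2 ?_ (Cfsg.Agent.MinSimple.Basic.isPGroup_zpowers (by rw [pow_two]; exact hx2)) ?_
      · rw [zpowers_le]; exact memY.2 rfl
      · intro g hg
        have hgx := memY.1 hg
        rw [mem_normalizer_iff]
        intro y
        have hc : ∀ n : ℤ, g * x ^ n * g⁻¹ = x ^ n := by
          intro n
          have : Commute g x := hgx
          rw [(this.zpow_right n).eq]; group
        constructor
        · rintro ⟨n, rfl⟩
          exact ⟨n, (hc n).symm⟩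
        · rintro ⟨n, hn⟩
          refine ⟨n, ?_⟩
          have h3 := hc n
          have h4 : g * x ^ n * g⁻¹ = g * y * g⁻¹ := h3.trans hn
          exact mul_left_cancel (mul_right_cancel h4)
    exact h1 (mem_zpowers x)
  have hzY : z ∈ Y := memY.2 (h.comm_z x hx).symm
  have heX : e ∈ X := ⟨he, memY.2 hex⟩
  have hfX : f ∈ X := ⟨hf, memY.2 hfx⟩
  -- `y ∈ Q` satisfies `Stab`
  have hstQ : ∀ y ∈ Q, Stab z x y := by
    intro y hy
    refine ⟨h.comm_z y hy, ?_⟩
    rcases h.comm y hy x hx with h1 | h1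
    · left; rw [h1]; group
    · right
      have h2 := h.comm_z y hy
      calc y * x * y⁻¹ = x * (y * z) * y⁻¹ := by rw [h1]; group
        _ = x * z := by rw [h2]; group
  -- the stabiliser is `Q C_Y(z)`
  obtain ⟨q₀, hq₀, hq₀x⟩ := exists_fuse h hx hx1 hxz
  have hdec : ∀ g, Stab z x g → ∃ q ∈ Q, ∃ c : G, c * z = z * c ∧ c * x = x * c ∧ q * c = g := by
    intro g hg
    rcases hg.2 with h1 | h1
    · exact ⟨1, one_mem _, g, hg.1, mul_inv_eq_iff_eq_mul.1 h1, one_mul _⟩
    · refine ⟨q₀, hq₀, q₀⁻¹ * g, ?_, ?_, by group⟩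
      · have h2 := h.comm_z q₀ hq₀
        have h3 : Commute q₀⁻¹ z := (show Commute q₀ z from h2).inv_left
        have h4 : Commute g z := hg.1
        exact (h3.mul_left h4).eq
      · have h2 : (q₀⁻¹ * g) * x * (q₀⁻¹ * g)⁻¹ = x := by
          calc (q₀⁻¹ * g) * x * (q₀⁻¹ * g)⁻¹ = q₀⁻¹ * (g * x * g⁻¹) * q₀ := by group
            _ = q₀⁻¹ * (q₀ * x * q₀⁻¹) * q₀ := by rw [h1, hq₀x]
            _ = x := by group
        exact mul_inv_eq_iff_eq_mul.1 h2
  -- `F = C_R(z) ≤ Q`
  have hF : ∀ r ∈ R, r * z = z * r → r ∈ Q := by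
    set F : Subgroup G := R ⊓ centralizer ({z} : Set G) with hFdef
    have hFz : ∀ {r : G}, r ∈ F ↔ r ∈ R ∧ r * z = z * r := fun {r} => by
      rw [hFdef, mem_inf, mem_centralizer_singleton_iff]
    -- `F Q`
    have hQF : ∀ q ∈ F, ∀ y ∈ Q, q * y * q⁻¹ ∈ Q := fun q hq y hy => h.conj_mem q (hFz.1 hq).2 y hy
    have hFnQ : F ≤ normalizer (Q : Set G) := by
      intro q hq
      rw [mem_normalizer_iff]
      intro y
      constructor
      · exact hQF q hq y
      · intro hy
        have := hQF q⁻¹ (inv_mem hq) _ hy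
        have e1 : q⁻¹ * (q * y * q⁻¹) * q⁻¹⁻¹ = y := by group
        rwa [e1] at this
    have hU2 : IsPGroup 2 (F ⊔ Q : Subgroup G) :=
      IsPGroup.to_sup_of_normal_right' (hR2.to_le inf_le_left) hQ2 hFnQ
    have hmem : ∀ {u : G}, u ∈ F ⊔ Q → ∃ q ∈ F, ∃ y ∈ Q, q * y = u := by
      intro u hu
      have h1 : u ∈ ((F ⊔ Q : Subgroup G) : Set G) := hu
      rw [coe_mul_of_left_le_normalizer_right F Q hFnQ] at h1
      obtain ⟨q, hq, y, hy, hqy⟩ := h1
      exact ⟨q, hq, y, hy, hqy⟩
    have hconjF : ∀ c : G, c * z = z * c → c * x = x * c → ∀ r ∈ F, c * r * c⁻¹ ∈ F := by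
      intro c hcz hcx r hr
      have h1 := hFz.1 hr
      refine hFz.2 ⟨(mem_normalizer_iff.1 (hYR (memY.2 hcx)) r).1 h1.1, ?_⟩
      have h2 : Commute c z := hcz
      have h3 : Commute r z := h1.2
      exact ((h2.mul_left h3).mul_left h2.inv_left).eq
    have hle : F ⊔ Q ≤ Q := by
      refine hA1 (F ⊔ Q) hU2 le_sup_right ?_ ?_
      · intro u hu
        obtain ⟨q, hq, y, hy, rfl⟩ := hmem hu
        have h1 := hFz.1 hq
        have h2 := hstQ y hy
        have h3 : q * x = x * q := memY.1 (hRY h1.1)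
        have h4 : Commute q z := h1.2
        have h5 : Commute y z := h2.1
        refine ⟨(h4.mul_left h5).eq, ?_⟩
        have h6 : q * y * x * (q * y)⁻¹ = q * (y * x * y⁻¹) * q⁻¹ := by group
        rw [h6]
        rcases h2.2 with h7 | h7 <;> rw [h7]
        · left; rw [h3]; group
        · right
          calc q * (x * z) * q⁻¹ = (q * x) * z * q⁻¹ := by group
            _ = x * (q * z) * q⁻¹ := by rw [h3]; group
            _ = x * z := by rw [h4.eq]; group
      · intro g hg u hu
        obtain ⟨q, hq, c, hcz, hcx, rfl⟩ := hdec g hg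
        obtain ⟨r, hr, y, hy, rfl⟩ := hmem hu
        have h1 : c * r * c⁻¹ ∈ F := hconjF c hcz hcx r hr
        have h2 : c * y * c⁻¹ ∈ Q := h.conj_mem c hcz y hy
        have h3 : q * c * (r * y) * (q * c)⁻¹ = q * ((c * r * c⁻¹) * (c * y * c⁻¹)) * q⁻¹ := by
          group
        rw [h3]
        have hq' : q ∈ F ⊔ Q := (le_sup_right : Q ≤ F ⊔ Q) hq
        exact mul_mem (mul_mem hq' (mul_mem ((le_sup_left : F ≤ F ⊔ Q) h1)
          ((le_sup_right : Q ≤ F ⊔ Q) h2))) (inv_mem hq')
    intro r hr hrz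
    exact hle ((le_sup_left : F ≤ F ⊔ Q) (hFz.2 ⟨hr, hrz⟩))
  -- `R ≤ X`
  have hX2 : IsPGroup 2 X := hQ2.to_le inf_le_left
  have hXnR : X ≤ normalizer (R : Set G) := inf_le_right.trans hYR
  have hRX2 : IsPGroup 2 (X ⊔ R : Subgroup G) := IsPGroup.to_sup_of_normal_right' hX2 hR2 hXnR
  have hRQ : R ≤ X := by
    by_contra hcon
    have hlt : X < X ⊔ R := lt_of_le_of_ne le_sup_left fun h' => hcon (h' ▸ le_sup_right)
    obtain ⟨g, hg, hgX, hgn⟩ :=
      Cfsg.Agent.Involutions.BaerSuzuki.exists_mem_normalizer_of_lt hRX2 hlt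
    have h1 : g ∈ ((X ⊔ R : Subgroup G) : Set G) := hg
    rw [coe_mul_of_left_le_normalizer_right X R hXnR] at h1
    obtain ⟨y, hy, r, hr, hyr⟩ := h1
    have hyr : y * r = g := hyr
    have hrn : ∀ w ∈ X, r * w * r⁻¹ ∈ X := by
      intro w hw
      have h2 := (mem_normalizer_iff.1 hgn w).1 hw
      have h3 : r * w * r⁻¹ = y⁻¹ * (g * w * g⁻¹) * y := by rw [← hyr]; group
      rw [h3]
      exact mul_mem (mul_mem (inv_mem hy) h2) hy
    have h4 := comm_z_of_normalizes h (X := X) inf_le_left heX hfX hef hrn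
    have h5 : r ∈ X := ⟨hF r hr h4, hRY hr⟩
    exact hgX (hyr ▸ mul_mem hy h5)
  by_cases hab : ∀ r ∈ R, ∀ s ∈ R, r * s = s * r
  · -- `R` abelian
    have hRQ' : R ≤ Q := hRQ.trans inf_le_left
    have hcR : ∀ c : G, c * x = x * c → ∀ r ∈ R, c * r * c⁻¹ ∈ R := fun c hcx r hr =>
      (mem_normalizer_iff.1 (hYR (memY.2 hcx)) r).1 hr
    let U : Subgroup G :=
      { carrier := {u | u ∈ R ∨ u * z ∈ R}
        one_mem' := Or.inl (one_mem _)
        mul_mem' := by
          rintro u v (hu | hu) (hv | hv)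
          · exact Or.inl (mul_mem hu hv)
          · right
            have e1 : u * v * z = u * (v * z) := by group
            rw [e1]; exact mul_mem hu hv
          · right
            have hvz := h.comm_z v (hRQ' hv)
            have e1 : u * v * z = (u * z) * v := by
              calc u * v * z = u * (v * z) := by group
                _ = (u * z) * v := by rw [hvz]; group
            rw [e1]; exact mul_mem hu hv
          · left
            have hvz := h.comm_z (v * z) (hRQ' hv)
            have e1 : u * v = (u * z) * (v * z) := by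
              calc u * v = u * v * (z * z) := by rw [h.z_sq, mul_one]
                _ = u * ((v * z) * z) := by group
                _ = (u * z) * (v * z) := by rw [hvz]; group
            rw [e1]; exact mul_mem hu hv
        inv_mem' := by
          rintro u (hu | hu)
          · exact Or.inl (inv_mem hu)
          · right
            have hvz := h.comm_z (u * z) (hRQ' hu)
            have e1 : u⁻¹ * z = (u * z)⁻¹ := by
              have e2 : u * z = z * u := by
                have e3 : (u * z) * z * z⁻¹ = z * (u * z) * z⁻¹ := by rw [hvz]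
                calc u * z = (u * z) * z * z⁻¹ := by group
                  _ = z * (u * z) * z⁻¹ := e3
                  _ = z * u := by group
              rw [e2, mul_inv_rev, h.z_inv]
            rw [e1]; exact inv_mem hu }
    have memU : ∀ {u : G}, u ∈ U ↔ u ∈ R ∨ u * z ∈ R := Iff.rfl
    have hzQ := h.z_mem
    have hUQ : U ≤ Q := by
      rintro u (hu | hu)
      · exact hRQ' hu
      · have h1 := mul_mem (hRQ' hu) hzQ
        rwa [mul_assoc, h.z_sq, mul_one] at h1
    have hUab : ∀ u ∈ U, ∀ v ∈ U, u * v = v * u := by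
      have h1 : ∀ u ∈ U, ∃ r ∈ R, u = r ∨ u = r * z := by
        rintro u (hu | hu)
        · exact ⟨u, hu, Or.inl rfl⟩
        · refine ⟨u * z, hu, Or.inr ?_⟩
          rw [mul_assoc, h.z_sq, mul_one]
      intro u hu v hv
      obtain ⟨r, hr, hur⟩ := h1 u hu
      obtain ⟨s, hs, hvs⟩ := h1 v hv
      have a1 : Commute r s := hab r hr s hs
      have a2 : Commute r z := h.comm_z r (hRQ' hr)
      have a3 : Commute s z := h.comm_z s (hRQ' hs)
      have a4 : Commute z z := Commute.refl z
      rcases hur with rfl | rfl <;> rcases hvs with rfl | rfl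
      · exact a1.eq
      · exact (a1.mul_right a2).eq
      · exact (a1.mul_left a3.symm).eq
      · exact ((a1.mul_right a2).mul_left (a3.symm.mul_right a4)).eq
    have hUst : ∀ g, Stab z x g → ∀ u ∈ U, g * u * g⁻¹ ∈ U := by
      intro g hg u hu
      obtain ⟨q, hq, c, hcz, hcx, rfl⟩ := hdec g hg
      have h1 : c * u * c⁻¹ ∈ U := by
        rcases hu with hu | hu
        · exact Or.inl (hcR c hcx u hu)
        · right
          have h2 := hcR c hcx _ hu
          have h3 : c * u * c⁻¹ * z = c * (u * z) * c⁻¹ := by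
            have a1 : Commute c⁻¹ z := (show Commute c z from hcz).inv_left
            calc c * u * c⁻¹ * z = c * u * (c⁻¹ * z) := by group
              _ = c * (u * z) * c⁻¹ := by rw [a1.eq]; group
          rw [h3]; exact h2
      have h2 : q * c * u * (q * c)⁻¹ = q * (c * u * c⁻¹) * q⁻¹ := by group
      rw [h2]
      rcases h.comm q hq _ (hUQ h1) with h3 | h3
      · rw [h3, mul_assoc, mul_inv_cancel, mul_one]; exact h1
      · have h4 : q * (c * u * c⁻¹) * q⁻¹ = c * u * c⁻¹ * z := by
          rw [h3]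
          have a1 := h.comm_z q hq
          calc c * u * c⁻¹ * q * z * q⁻¹ = c * u * c⁻¹ * (q * z) * q⁻¹ := by group
            _ = c * u * c⁻¹ * z := by rw [a1]; group
        rw [h4]
        exact mul_mem h1 (Or.inr (by rw [h.z_sq]; exact one_mem _))
    have hU4 := hA2 U hUQ (Or.inr (by rw [h.z_sq]; exact one_mem _)) (Or.inl hxR) hUab hUst
    have hcent : ∀ e ∈ Q, e * x = x * e → e ∈ R := by
      intro e he hex
      refine hC (mem_inf.2 ⟨memY.2 hex, mem_centralizer_iff.2 ?_⟩)
      intro r hr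
      have hez := h.comm_z e he
      have a1 : Commute e x := hex
      have a2 : Commute e z := hez
      rcases hU4 r (Or.inl hr) with h1 | h1 | h1 | h1 <;> rw [h1]
      · rw [one_mul, mul_one]
      · exact a2.eq.symm
      · exact a1.eq.symm
      · exact (a1.mul_right a2).eq.symm
    exact hef (hab e (hcent e he hex) f (hcent f hf hfx))
  · push Not at hab
    obtain ⟨r, hr, s, hs, hrs⟩ := hab
    have hYz : ∀ y ∈ Y, y * z = z * y := fun y hy =>
      comm_z_of_normalizes h (X := R) (hRQ.trans inf_le_left) hr hs hrs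
        fun w hw => (mem_normalizer_iff.1 (hYR hy) w).1 hw
    obtain ⟨e', he', h1, h2⟩ := exists_not_comm h hx hta
      (fun h' => h.z_ne (by
        have : z = t⁻¹ * (t * z * t⁻¹) * t := by group
        rw [this, h']; group))
      htz (fun h' => hxz (by
        have h3 : z = t⁻¹ * (t * z * t⁻¹) * t := by group
        rw [h3, h']
        calc x = t⁻¹ * (t * x) := by group
          _ = t⁻¹ * x * t := by rw [htx]; group)) htxz
    apply h2
    have h3 : t⁻¹ * e' * t ∈ Y := by
      have a1 : Commute t x := htx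
      have a2 : Commute e' x := h1
      exact memY.2 ((a1.inv_left.mul_left a2).mul_left a1).eq
    have h4 := hYz _ h3
    calc e' * (t * z * t⁻¹) = t * ((t⁻¹ * e' * t) * z) * t⁻¹ := by group
      _ = t * (z * (t⁻¹ * e' * t)) * t⁻¹ := by rw [h4]
      _ = t * z * t⁻¹ * e' := by group

/-- `C_Q(x)` is nonabelian for `|Q| > 8`. -/
theorem exists_nonab (h : Large Q z) (hx : x ∈ Q) (hx2 : x * x = 1) (hx1 : x ≠ 1) (hxz : x ≠ z)
    (hcard : 8 < Nat.card Q) :
    ∃ e ∈ Q, ∃ f ∈ Q, e * x = x * e ∧ f * x = x * f ∧ e * f ≠ f * e := by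
  classical
  by_contra hcon
  push Not at hcon
  obtain ⟨q, hq, hqx⟩ := exists_fuse h hx hx1 hxz
  have hqx' : q * x = x * q * z := by
    have h1 := mul_inv_eq_iff_eq_mul.1 hqx
    rw [h1, mul_assoc, ← h.comm_z q hq, ← mul_assoc]
  have hxinv : x⁻¹ = x := inv_eq_of_mul_eq_one_left hx2
  have hxz' := h.comm_z x hx
  -- central elements
  have hw : ∀ w ∈ Q, w * x = x * w → w = 1 ∨ w = z ∨ w = x ∨ w = x * z := by
    have hcen : ∀ w ∈ Q, w * x = x * w → w * q = q * w → w = 1 ∨ w = z := by
      intro w hw hwx hwq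
      refine h.cent w hw fun y hy => ?_
      rcases h.comm y hy x hx with h1 | h1
      · exact (hcon w hw y hy hwx h1)
      · have h2 : (q⁻¹ * y) * x = x * (q⁻¹ * y) := by
          have a1 : q⁻¹ * (x * q * z) * q⁻¹ = q⁻¹ * (q * x) * q⁻¹ := by rw [hqx']
          have a2 : x * q⁻¹ = q⁻¹ * x * z := by
            calc x * q⁻¹ = q⁻¹ * (q * x) * q⁻¹ := by group
              _ = q⁻¹ * (x * (q * z)) * q⁻¹ := by rw [hqx']; group
              _ = q⁻¹ * (x * (z * q)) * q⁻¹ := by rw [h.comm_z q hq]
              _ = q⁻¹ * x * z := by group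
          calc (q⁻¹ * y) * x = q⁻¹ * (y * x) := by group
            _ = q⁻¹ * (x * (y * z)) := by rw [h1]; group
            _ = (q⁻¹ * x * z) * y := by rw [h.comm_z y hy]; group
            _ = x * (q⁻¹ * y) := by rw [← a2]; group
        have h3 := hcon w hw (q⁻¹ * y) (mul_mem (inv_mem hq) hy) hwx h2
        calc w * y = (w * q) * (q⁻¹ * y) := by group
          _ = q * (w * (q⁻¹ * y)) := by rw [hwq]; group
          _ = y * w := by rw [h3]; group
    intro w hw hwx
    rcases h.comm w hw q hq with h1 | h1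
    · rcases hcen w hw hwx h1 with h2 | h2
      · exact Or.inl h2
      · exact Or.inr (Or.inl h2)
    · have h2 : (w * x) * x = x * (w * x) := by
        calc (w * x) * x = (x * w) * x := congrArg (· * x) hwx
          _ = x * (w * x) := mul_assoc _ _ _
      have h3 : (w * x) * q = q * (w * x) := by
        have a1 : q * x = x * q * z := hqx'
        have a2 : x * q = q * x * z := by
          rw [a1, mul_assoc _ z z, h.z_sq, mul_one]
        calc (w * x) * q = w * (x * q) := by group
          _ = (w * q) * (x * z) := by rw [a2]; group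
          _ = q * w * (z * x) * z := by rw [h1]; group
          _ = q * w * (x * z) * z := by rw [hxz']
          _ = q * (w * x) * (z * z) := by group
          _ = q * (w * x) := by rw [h.z_sq, mul_one]
      rcases hcen (w * x) (mul_mem hw hx) h2 h3 with h4 | h4
      · right; right; left
        rw [eq_inv_of_mul_eq_one_left h4, hxinv]
      · right; right; right
        rw [eq_mul_inv_of_mul_eq h4, hxinv, hxz']
  have hsub : (Q : Set G) ⊆
      (([1, z, x, x * z, q, q * z, q * x, q * (x * z)] : List G).toFinset : Set G) := by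
    intro y hy
    simp only [List.coe_toFinset, List.mem_cons, List.not_mem_nil, or_false, Set.mem_ofPred_eq]
    rcases h.comm y hy x hx with h1 | h1
    · rcases hw y hy h1 with h2 | h2 | h2 | h2 <;> simp [h2]
    · have h2 : (q⁻¹ * y) * x = x * (q⁻¹ * y) := by
        have a2 : x * q⁻¹ = q⁻¹ * x * z := by
          calc x * q⁻¹ = q⁻¹ * (q * x) * q⁻¹ := by group
            _ = q⁻¹ * (x * (q * z)) * q⁻¹ := by rw [hqx']; group
            _ = q⁻¹ * (x * (z * q)) * q⁻¹ := by rw [h.comm_z q hq]
            _ = q⁻¹ * x * z := by group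
        calc (q⁻¹ * y) * x = q⁻¹ * (y * x) := by group
          _ = q⁻¹ * (x * (y * z)) := by rw [h1]; group
          _ = (q⁻¹ * x * z) * y := by rw [h.comm_z y hy]; group
          _ = x * (q⁻¹ * y) := by rw [← a2]; group
      have h3 : y = q * (q⁻¹ * y) := by group
      rcases hw (q⁻¹ * y) (mul_mem (inv_mem hq) hy) h2 with h4 | h4 | h4 | h4 <;> rw [h4] at h3 <;>
        rw [h3] <;> simp
  have h1 := Set.ncard_le_ncard hsub (Finset.finite_toSet _)
  rw [Set.ncard_coe_finset] at h1
  have h2 := List.toFinset_card_le [1, z, x, x * z, q, q * z, q * x, q * (x * z)]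
  have h3 : Nat.card Q = (Q : Set G).ncard := rfl
  simp only [List.length_cons, List.length_nil] at h2
  omega

/-- **LEMMA SH**, `G` of characteristic 2 type, `t : z ↦ a ↦ a z` (as in `LargeExtra.Base.Pair.cycle`). -/
theorem false_of_cycle [Finite G] (hG : IsCharacteristicTwoType G) (h : Large Q z)
    (hcard : 8 < Nat.card Q) (hx : x ∈ Q) (hx2 : x * x = 1) (hx1 : x ≠ 1) (hxz : x ≠ z)
    {t a : G} (htx : t * x = x * t) (hta : t * z * t⁻¹ = a) (haQ : a ∈ Q) (haz : a ≠ z)
    (hcyc : t * a * t⁻¹ = a * z) (hA1 : NoTwo Q z x) (hA2 : NoIso Q z x) : False := by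
  subst hta
  refine false_of_shadow h hx hx2 hx1 hxz (exists_nonab h hx hx2 hx1 hxz hcard)
    (MinSimple.Basic.char2_centralizer hG (by rw [pow_two]; exact hx2) hx1) htx haQ haz
    (fun h1 => hxz ?_) hA1 hA2
  rw [h1] at hcyc
  have h2 : t * (x * z) * t⁻¹ = x * (t * z * t⁻¹) := by
    calc t * (x * z) * t⁻¹ = (t * x) * z * t⁻¹ := by group
      _ = x * (t * z * t⁻¹) := by rw [htx]; group
  rw [h2, h1] at hcyc
  -- `x (x z) = x z z`
  have h3 : x * (x * z) = x * (z * z) := by rw [hcyc]; group
  exact mul_right_cancel (mul_left_cancel h3)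

end

end Cfsg.Agent.Omega.Shadow
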