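import Cfsg.Agent.MinSimple.VModule
import Cfsg.Agent.Involutions.BaerSuzuki

/-!
# LEMMA SH++ (helper586)

`R` is a `p`-subgroup normalised by `Y`, `C_Y(R) ≤ R`, `z ∈ Y` a nontrivial `p`-element, `F = C_R(z)`.  If `E ≤ Y`
centralises `F` and `z` then `z ∉ [E, E]`.

Proof: `R* = R⟨z⟩`, `F₁ = C_{R*}(z) = F⟨z⟩`, `n ∈ N_{R*}(F₁)`.  `[n, E] ≤ C_{R*}(F₁) ≤ F₁` is centralised by `E`, hence
`[E, E]` centralises `n`.  If `z ∈ [E, E]` then `N_{R*}(F₁) = F₁`, `R* = F₁`, `R = F`, `E ≤ C_Y(R) ≤ R = F` is abelian.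

`not_mem_commutator_o2` : `Y = C_G(x)`, `R = O₂(Y)`.
-/

set_option autoImplicit false

namespace Cfsg.Agent.Omega.ShadowComm

open Subgroup Cfsg Cfsg.Agent.ZN Cfsg.Agent.MinSimple.VModule
open scoped commutatorElement

variable {G : Type*} [Group G]

/-- **LEMMA SH++.** -/
theorem not_mem_commutator [Finite G] {p : ℕ} [hp : Fact p.Prime] {Y R E : Subgroup G} {z : G} (hR : IsPGroup p R)
    (hYR : Y ≤ normalizer (R : Set G)) (hC : Y ⊓ centralizer (R : Set G) ≤ R) (hz : z ∈ Y)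
    (hzp : IsPGroup p (zpowers z)) (hz1 : z ≠ 1) (hEY : E ≤ Y) (hEz : ∀ e ∈ E, e * z = z * e)
    (hEF : ∀ e ∈ E, ∀ f ∈ R, f * z = z * f → e * f = f * e) : z ∉ ⁅E, E⁆ := by
  intro hcon
  have hzR : zpowers z ≤ normalizer (R : Set G) := by
    rw [zpowers_le]
    exact hYR hz
  set S : Subgroup G := zpowers z ⊔ R with hS
  have hSp : IsPGroup p S := IsPGroup.to_sup_of_normal_right' hzp hR hzR
  have hmem : ∀ {u : G}, u ∈ S ↔ ∃ c ∈ zpowers z, ∃ r ∈ R, c * r = u := by
    intro u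
    have h1 : u ∈ S ↔ u ∈ ((zpowers z ⊔ R : Subgroup G) : Set G) := Iff.rfl
    rw [h1, coe_mul_of_left_le_normalizer_right _ R hzR]
    rfl
  have hRS : R ≤ S := le_sup_right
  have hzS : zpowers z ≤ S := le_sup_left
  have hEz' : ∀ e ∈ E, ∀ c ∈ zpowers z, e * c = c * e := by
    rintro e he _ ⟨k, rfl⟩
    have : Commute e z := hEz e he
    exact this.zpow_right k
  have hzc : ∀ c ∈ zpowers z, c * z = z * c := by
    rintro _ ⟨k, rfl⟩
    exact ((Commute.refl z).zpow_left k)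
  set F : Subgroup G := S ⊓ centralizer ({z} : Set G) with hF
  have hFS : F ≤ S := inf_le_left
  have memF : ∀ {u : G}, u ∈ F ↔ u ∈ S ∧ u * z = z * u := fun {u} => by
    rw [hF, mem_inf, mem_centralizer_singleton_iff]
  have hzF : z ∈ F := memF.2 ⟨hzS (mem_zpowers z), rfl⟩
  -- `E` centralises `F`
  have hEF1 : ∀ e ∈ E, ∀ u ∈ F, e * u = u * e := by
    intro e he u hu
    obtain ⟨hu1, hu2⟩ := memF.1 hu
    obtain ⟨c, hc, r, hr, rfl⟩ := hmem.1 hu1
    have h1 : r * z = z * r := by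
      have h2 : c * (r * z) = c * (z * r) := by
        calc c * (r * z) = c * r * z := (mul_assoc _ _ _).symm
          _ = z * (c * r) := hu2
          _ = z * c * r := (mul_assoc _ _ _).symm
          _ = c * z * r := by rw [hzc c hc]
          _ = c * (z * r) := mul_assoc _ _ _
      exact mul_left_cancel h2
    have h3 : Commute e c := hEz' e he c hc
    have h4 : Commute e r := hEF e he r hr h1
    exact h3.mul_right h4
  -- `E` normalises `S`
  have hES : ∀ e ∈ E, ∀ u ∈ S, e * u * e⁻¹ ∈ S := by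
    intro e he u hu
    obtain ⟨c, hc, r, hr, rfl⟩ := hmem.1 hu
    have h1 : e * c * e⁻¹ = c := by rw [hEz' e he c hc]; group
    have h2 : e * r * e⁻¹ ∈ R := (mem_normalizer_iff.1 (hYR (hEY he)) r).1 hr
    have h3 : e * (c * r) * e⁻¹ = (e * c * e⁻¹) * (e * r * e⁻¹) := by group
    rw [h3, h1]
    exact mul_mem (hzS hc) (hRS h2)
  -- `N_S(F) = F`
  have hN : ∀ n ∈ S, n ∈ normalizer (F : Set G) → n ∈ F := by
    intro n hn hnF
    have hδ : ∀ e ∈ E, n⁻¹ * (e * n * e⁻¹) ∈ F := by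
      intro e he
      refine memF.2 ⟨mul_mem (inv_mem hn) (hES e he n hn), ?_⟩
      -- it centralises `F`, in particular `z`
      have h1 : n * z * n⁻¹ ∈ F := (mem_normalizer_iff.1 hnF z).1 hzF
      have h2 := hEF1 e he _ h1
      have h3 := hEF1 e he z hzF
      have h4 : n⁻¹ * (e * n * e⁻¹) * z = n⁻¹ * (e * (n * z * n⁻¹)) * n * e⁻¹ := by
        calc n⁻¹ * (e * n * e⁻¹) * z = n⁻¹ * e * n * (e⁻¹ * (z * e)) * e⁻¹ := by group
          _ = n⁻¹ * e * n * (e⁻¹ * (e * z)) * e⁻¹ := by rw [h3]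
          _ = n⁻¹ * (e * (n * z * n⁻¹)) * n * e⁻¹ := by group
      rw [h4, h2]
      group
    have hcn : ⁅E, E⁆ ≤ centralizer ({n} : Set G) := by
      rw [commutator_le]
      intro e he f hf
      rw [mem_centralizer_singleton_iff]
      have h1 := hδ e he
      have h2 := hδ f hf
      generalize ha : n⁻¹ * (e * n * e⁻¹) = a at h1
      generalize hb : n⁻¹ * (f * n * f⁻¹) = b at h2
      have e1 : e * n * e⁻¹ = n * a := by rw [← ha]; group
      have e2 : f * n * f⁻¹ = n * b := by rw [← hb]; group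
      have c1 : e * b * e⁻¹ = b := by rw [hEF1 e he b h2]; group
      have c2 : f * a * f⁻¹ = a := by rw [hEF1 f hf a h1]; group
      -- `a b = b a`: `a = n⁻¹ (e n e⁻¹)` and `b ∈ F` is centralised by `e`; `n b n⁻¹ ∈ F` too
      have hab : a * b = b * a := by
        have h3 : n * b * n⁻¹ ∈ F := (mem_normalizer_iff.1 hnF b).1 h2
        have h4 := hEF1 e he _ h3
        have h5 := hEF1 e he b h2
        have h6 : a * b = n⁻¹ * (e * (n * b * n⁻¹)) * n * e⁻¹ := by
          rw [← ha]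
          calc n⁻¹ * (e * n * e⁻¹) * b = n⁻¹ * e * n * (e⁻¹ * (b * e)) * e⁻¹ := by group
            _ = n⁻¹ * e * n * (e⁻¹ * (e * b)) * e⁻¹ := by rw [h5]
            _ = n⁻¹ * (e * (n * b * n⁻¹)) * n * e⁻¹ := by group
        rw [h6, h4, ← ha]
        group
      have h7 : (e * f) * n * (e * f)⁻¹ = n * (a * b) := by
        calc (e * f) * n * (e * f)⁻¹ = e * (f * n * f⁻¹) * e⁻¹ := by group
          _ = e * (n * b) * e⁻¹ := by rw [e2]
          _ = (e * n * e⁻¹) * (e * b * e⁻¹) := by group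
          _ = n * (a * b) := by rw [e1, c1, mul_assoc]
      have h8 : (f * e) * n * (f * e)⁻¹ = n * (a * b) := by
        calc (f * e) * n * (f * e)⁻¹ = f * (e * n * e⁻¹) * f⁻¹ := by group
          _ = f * (n * a) * f⁻¹ := by rw [e1]
          _ = (f * n * f⁻¹) * (f * a * f⁻¹) := by group
          _ = n * (a * b) := by rw [e2, c2, mul_assoc, hab]
      have h9 : ⁅e, f⁆ * (f * e) = e * f := by rw [commutatorElement_def]; group
      have h10 : ⁅e, f⁆ * (n * (a * b)) * ⁅e, f⁆⁻¹ = n * (a * b) := by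
        calc ⁅e, f⁆ * (n * (a * b)) * ⁅e, f⁆⁻¹ = ⁅e, f⁆ * ((f * e) * n * (f * e)⁻¹) * ⁅e, f⁆⁻¹ := by rw [h8]
          _ = (⁅e, f⁆ * (f * e)) * n * (⁅e, f⁆ * (f * e))⁻¹ := by group
          _ = n * (a * b) := by rw [h9, h7]
      -- `⁅e, f⁆` centralises `a b ∈ F`
      have h11 : ⁅e, f⁆ * (a * b) * ⁅e, f⁆⁻¹ = a * b := by
        have h12 : ∀ g ∈ E, g * (a * b) * g⁻¹ = a * b := by
          intro g hg
          rw [hEF1 g hg _ (mul_mem h1 h2)]
          group
        apply h12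
        rw [commutatorElement_def]
        exact mul_mem (mul_mem (mul_mem he hf) (inv_mem he)) (inv_mem hf)
      have h13 : ⁅e, f⁆ * n * ⁅e, f⁆⁻¹ = n := by
        have h14 : ⁅e, f⁆ * (n * (a * b)) * ⁅e, f⁆⁻¹ =
            (⁅e, f⁆ * n * ⁅e, f⁆⁻¹) * (⁅e, f⁆ * (a * b) * ⁅e, f⁆⁻¹) := by group
        rw [h14, h11] at h10
        exact mul_right_cancel h10
      exact mul_inv_eq_iff_eq_mul.1 h13
    refine memF.2 ⟨hn, ?_⟩
    exact (mem_centralizer_singleton_iff.1 (hcn hcon)).symm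
  have hFeq : F = S := by
    by_contra hne
    obtain ⟨n, hn1, hn2, hn3⟩ :=
      Cfsg.Agent.Involutions.BaerSuzuki.exists_mem_normalizer_of_lt hSp (lt_of_le_of_ne hFS hne)
    exact hn2 (hN n hn1 hn3)
  have hRz : ∀ r ∈ R, r * z = z * r := fun r hr => (memF.1 (hFeq ▸ hRS hr)).2
  have hER : E ≤ R := by
    intro e he
    exact hC (mem_inf.2 ⟨hEY he, mem_centralizer_iff.2 fun r hr => (hEF e he r hr (hRz r hr)).symm⟩)
  have hbot : ⁅E, E⁆ ≤ ⊥ := by
    rw [commutator_le]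
    intro e he f hf
    rw [mem_bot, commutatorElement_eq_one_iff_mul_comm]
    exact hEF e he f (hER hf) (hRz f (hER hf))
  exact hz1 (mem_bot.1 (hbot hcon))

/-- **LEMMA SH++** for `Y = C_G(x)`, `R = O₂(C_G(x))`, `z` an involution commuting with `x`, `x ∈ O₂(C_G(x))`. -/
theorem not_mem_commutator_o2 [Finite G] {x z : G} (hx2 : x * x = 1) (hxz : x * z = z * x) (hz2 : z * z = 1)
    (hz1 : z ≠ 1)
    (hC : centralizer ({x} : Set G) ⊓ centralizer (o2 (centralizer ({x} : Set G)) : Set G) ≤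
      o2 (centralizer ({x} : Set G))) {E : Subgroup G} (hEz : ∀ e ∈ E, e * z = z * e)
    (hEF : ∀ e ∈ E, ∀ f ∈ o2 (centralizer ({x} : Set G)), f * z = z * f → e * f = f * e) : z ∉ ⁅E, E⁆ := by
  have : Fact (Nat.Prime 2) := ⟨Nat.prime_two⟩
  have hp : ∀ {y : G}, y * y = 1 → IsPGroup 2 (zpowers y) := by
    rintro y hy ⟨_, k, rfl⟩
    refine ⟨1, Subtype.ext ?_⟩
    show (y ^ k) ^ (2 ^ 1) = 1
    rw [pow_one, ← zpow_natCast, ← zpow_mul, mul_comm k, zpow_mul]
    have : y ^ ((2 : ℕ) : ℤ) = 1 := by rw [zpow_natCast, pow_two]; exact hy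
    rw [this, one_zpow]
  have hxR : x ∈ o2 (centralizer ({x} : Set G)) := by
    have h1 : zpowers x ≤ o2 (centralizer ({x} : Set G)) := by
      refine le_o2 ?_ (hp hx2) ?_
      · rw [zpowers_le, mem_centralizer_singleton_iff]
      · intro g hg
        rw [mem_centralizer_singleton_iff] at hg
        have hc : ∀ n : ℤ, g * x ^ n * g⁻¹ = x ^ n := by
          intro n
          have : Commute g x := hg
          rw [(this.zpow_right n).eq]; group
        rw [mem_normalizer_iff]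
        intro y
        constructor
        · rintro ⟨n, rfl⟩
          exact ⟨n, (hc n).symm⟩
        · rintro ⟨n, hn⟩
          refine ⟨n, ?_⟩
          have h4 : g * x ^ n * g⁻¹ = g * y * g⁻¹ := (hc n).trans hn
          exact mul_left_cancel (mul_right_cancel h4)
    exact h1 (mem_zpowers x)
  refine not_mem_commutator (Y := centralizer ({x} : Set G)) (o2_isPGroup _) (le_normalizer_o2 _) hC
    (mem_centralizer_singleton_iff.2 hxz.symm) (hp hz2) hz1 ?_ hEz hEF
  intro e he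
  rw [mem_centralizer_singleton_iff]
  exact hEF e he x hxR hxz

end Cfsg.Agent.Omega.ShadowComm
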