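import Cfsg.Agent.Omega.Frame
import Cfsg.Agent.Omega.SQ1.Choice

/-!
# OMEGA, case I of the frame: all members of `L(S)` lie in one proper subgroup

* `SQ1`: the theorem of the SQ1 team (a proper subgroup containing all 2-local subgroups over `S` is
  strongly embedded);
* `NoConfig`: no configuration `SQ1.Choice.Config`;
* `sq1_of_noConfig`, `nodeI_of_sq1`: the implications `NoConfig → SQ1 → Frame.NodeI`.
-/

set_option autoImplicit false

namespace Cfsg.Agent.Omega.FrameI

open Subgroup Cfsg Cfsg.Agent.ZN Cfsg.Agent.Omega.MinPar Cfsg.Agent.Omega.Frame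
open Cfsg.Agent.Omega.SQ1.Choice (Config exists_config)

universe u

/-- **SQ1**: a proper subgroup containing all 2-local subgroups over `S` is strongly embedded. -/
def SQ1 : Prop :=
  ∀ (G : Type u) [Group G] [Finite G] [IsSimpleGroup G], ¬ IsMulCommutative G →
    IsCharacteristicTwoType G → ¬ SectionalPRankLE 2 4 G → ∀ (S : Sylow 2 G) (Y : Subgroup G), Y ≠ ⊤ →
      (∀ N : Subgroup G, IsTwoLocal N → (S : Subgroup G) ≤ N → N ≤ Y) → IsStronglyEmbedded Y

/-- The configuration of `SQ1.Choice` does not exist. -/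
def NoConfig : Prop :=
  ∀ (G : Type u) [Group G] [Finite G] [IsSimpleGroup G], ¬ IsMulCommutative G →
    IsCharacteristicTwoType G → ¬ SectionalPRankLE 2 4 G → ∀ (S : Sylow 2 G) (M : Subgroup G), M ≠ ⊤ →
      (∀ N : Subgroup G, IsTwoLocal N → (S : Subgroup G) ≤ N → N ≤ M) →
        ∀ (T H : Subgroup G) (s : G), ¬ Config M T H s

theorem sq1_of_noConfig (h : NoConfig.{u}) : SQ1.{u} := by
  intro G _ _ _ hna hc hr S Y hY hN
  by_contra hse
  obtain ⟨T, H, s, hcfg⟩ := exists_config hc S Y hY hN hse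
  exact h G hna hc hr S Y hY hN T H s hcfg

/-- **Node I from SQ1.** -/
theorem nodeI_of_sq1 (h : SQ1.{u}) : NodeI.{u} := by
  intro G _ _ hG S hF
  have := hG.simple
  have h2 : Fact (Nat.Prime 2) := ⟨Nat.prime_two⟩
  simp only [Full, not_forall] at hF
  obtain ⟨Y, hY, hne⟩ := hF
  refine ⟨Y, h G hG.nonComm hG.char2 hG.rank S Y hne fun N hN hSN => hY N ?_⟩
  obtain ⟨U, hU, hU1, rfl⟩ := hN
  exact isLoc_normalizer S hU hU1 hSN

theorem nodeI_of_noConfig (h : NoConfig.{u}) : NodeI.{u} := nodeI_of_sq1 (sq1_of_noConfig h)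

end Cfsg.Agent.Omega.FrameI
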