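import Cfsg.Agent.Omega.Frame
import Cfsg.Agent.Omega.NoFF.Lines

/-!
# OMEGA: case III (no mutual pair) of the master reduction (v5.1, #12237 (A))

`P* = P*(S)`, `V_P = zl S P`, `C = C_G(Ω₁(Z(S)))`, `Q = O₂(C)`, no mutual pair.

* `NodeNO1`: some `P ∈ P*` has `V_P ≰ Q`;
* `NodeNO3S`: `V_P ≤ Q` for all `P ∈ P*`, and `⟨P, C⟩` is nonlocal for some `P ∈ P*`;
* `NodeNO3L`: `V_P ≤ Q` for all `P ∈ P*`, and `⟨P, C⟩` is local for all `P ∈ P*`;
* `nodeNOFF`: the three leaves imply `Frame.NodeNOFFK K`;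
* `sys`, `geo`, `exists_crit`: the abstract hypotheses of `NoFF.Basic`, `NoFF.Lines` hold.
-/

set_option autoImplicit false

namespace Cfsg.Agent.Omega.FrameNOFF

open Subgroup Cfsg Cfsg.Agent.ZN Cfsg.Agent.Omega.MinPar Cfsg.Agent.Omega.Frame
open Cfsg.Agent.MinSimple.VModule
open scoped Pointwise

universe u

section defs

variable {G : Type u} [Group G]

/-- `C_G(Ω₁(Z(S)))`. -/
abbrev CZ (S : Subgroup G) : Subgroup G := centralizer (zc S : Set G)

/-- The set `P*(S)`. -/
def PS (S : Subgroup G) : Set (Subgroup G) := {P | IsParS S P}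

end defs

/-! ### The leaves, relative to a class `K` (`Frame.All` for the even half) -/

section leaves

variable (K : Cls.{u})

/-- **NO-1'**: some `V_P` is not contained in `O₂(C_G(Z))`. -/
def NodeNO1 : Prop :=
  ∀ (G : Type u) [Group G] [Finite G], Ctx G → K G → ∀ (S : Sylow 2 G), Full (S : Subgroup G) →
    ¬ FF (S : Subgroup G) →
    (∃ P : Subgroup G, IsParS (S : Subgroup G) P ∧
      ¬ zl (S : Subgroup G) P ≤ o2 (CZ (S : Subgroup G))) → IsKnownSimple' G

/-- **NO-3S**: all `V_P ≤ O₂(C_G(Z))`, some `⟨P, C_G(Z)⟩` nonlocal. -/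
def NodeNO3S : Prop :=
  ∀ (G : Type u) [Group G] [Finite G], Ctx G → K G → ∀ (S : Sylow 2 G), Full (S : Subgroup G) →
    ¬ FF (S : Subgroup G) →
    (∀ P : Subgroup G, IsParS (S : Subgroup G) P →
      zl (S : Subgroup G) P ≤ o2 (CZ (S : Subgroup G))) →
    (∃ P : Subgroup G, IsParS (S : Subgroup G) P ∧ NonLoc P (CZ (S : Subgroup G))) →
    IsKnownSimple' G

/-- **NO-3L**: all `V_P ≤ O₂(C_G(Z))`, all `⟨P, C_G(Z)⟩` local. -/
def NodeNO3L : Prop :=
  ∀ (G : Type u) [Group G] [Finite G], Ctx G → K G → ∀ (S : Sylow 2 G), Full (S : Subgroup G) →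
    ¬ FF (S : Subgroup G) →
    (∀ P : Subgroup G, IsParS (S : Subgroup G) P →
      zl (S : Subgroup G) P ≤ o2 (CZ (S : Subgroup G))) →
    (∀ P : Subgroup G, IsParS (S : Subgroup G) P → ¬ NonLoc P (CZ (S : Subgroup G))) →
    IsKnownSimple' G

variable {K}

/-- **Case III from its leaves.** -/
theorem nodeNOFF (h1 : NodeNO1 K) (h2 : NodeNO3S K) (h3 : NodeNO3L K) : NodeNOFFK K := by
  intro G _ _ hG hcl S hF hm
  by_cases ha : ∃ P : Subgroup G, IsParS (S : Subgroup G) P ∧
      ¬ zl (S : Subgroup G) P ≤ o2 (CZ (S : Subgroup G))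
  · exact h1 G hG hcl S hF hm ha
  · push Not at ha
    by_cases hb : ∃ P : Subgroup G, IsParS (S : Subgroup G) P ∧ NonLoc P (CZ (S : Subgroup G))
    · exact h2 G hG hcl S hF hm ha hb
    · push Not at hb
      exact h3 G hG hcl S hF hm ha hb

end leaves

/-! ### The abstract hypotheses -/

section plug

variable {G : Type u} [Group G]

theorem V_eq_zl (S P : Subgroup G) : NoFF.Basic.V (zc S) P = zl S P := rfl

theorem zl_conj_eq {S P : Subgroup G} {p : G} (hp : p ∈ P) :
    MulAut.conj p • zl S P = zl S P := by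
  have := NoFF.Basic.conj_V_mul (Z := zc S) (g := 1) hp
  rwa [one_mul, map_one, one_smul] at this

variable [Finite G]

/-- `C_{S^p}(V_P) = O₂(P)` for all `p ∈ P`: an element of `S` centralising `V_P` is in `O₂(P)`. -/
theorem mem_o2_of_cent (hc : IsCharacteristicTwoType G) (S : Sylow 2 G) {P : Subgroup G}
    (hP : IsParS (S : Subgroup G) P) {x : G} (hx : x ∈ (S : Subgroup G))
    (hxV : x ∈ centralizer (zl (S : Subgroup G) P : Set G)) : x ∈ o2 P := by
  rw [← hP.inf_centralizer S hc]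
  exact ⟨hx, hxV⟩

theorem o2_le_conj (S : Sylow 2 G) {P : Subgroup G} (hP : IsPar (S : Subgroup G) P) {p : G}
    (hp : p ∈ P) : o2 P ≤ MulAut.conj p • (S : Subgroup G) := by
  intro x hx
  rw [NoFF.Basic.mem_conj]
  have h1 : p⁻¹ * x * p ∈ o2 P := by
    have h2 := (mem_normalizer_iff.mp (le_normalizer_o2 P (P.inv_mem hp)) x).mp hx
    rwa [inv_inv] at h2
  exact hP.isLoc.o2_le S h1

/-- The hypotheses of `NoFF.Basic`. -/
theorem sys (hc : IsCharacteristicTwoType G) (S : Sylow 2 G) (hm : ¬ FF (S : Subgroup G)) :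
    NoFF.Basic.Sys (S : Subgroup G) (zc (S : Subgroup G)) (PS (S : Subgroup G)) where
  ZS := zc_le _
  cent := fun s hs => mem_centralizer_iff.mpr fun z hz => ((mem_zc.mp hz).2.1 s hs).symm
  SP := fun P hP => hP.le
  abel := by
    intro P hP
    have h1 := hP.isLoc.zl_le S hc
    intro x hx
    rw [mem_centralizer_iff]
    intro y hy
    have h2 := mem_zc.mp (h1 hx)
    have h3 := mem_zc.mp (h1 hy)
    exact h3.2.1 x h2.1 |>.symm
  core := fun P hP p hp x hx hxV => o2_le_conj S hP.toIsPar hp (mem_o2_of_cent hc S hP hx hxV)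
  noff := by
    intro P hP P' hP' g h1 h2
    by_contra hcon
    apply hm
    refine ⟨P, P', g, ⟨hP, hP', ?_, ?_, ?_⟩⟩
    · refine h1.trans ?_
      intro x hx
      have h3 := le_normalizer_zl (S : Subgroup G) P'
      rw [mem_normalizer_iff]
      rw [NoFF.Basic.mem_conj] at hx
      intro y
      have h4 := mem_normalizer_iff.mp (h3 hx) (g⁻¹ * y * g)
      change y ∈ MulAut.conj g • zl (S : Subgroup G) P' ↔ x * y * x⁻¹ ∈ MulAut.conj g • zl (S : Subgroup G) P'
      rw [NoFF.Basic.mem_conj, NoFF.Basic.mem_conj, h4]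
      have e : g⁻¹ * x * g * (g⁻¹ * y * g) * (g⁻¹ * x * g)⁻¹ = g⁻¹ * (x * y * x⁻¹) * g := by group
      rw [e]
    · exact h2.trans (le_normalizer_zl _ _)
    · intro h3
      exact hcon (commutator_eq_bot_iff_le_centralizer.mp h3)

omit [Finite G] in
/-- `N_G(S)` normalises everything. -/
theorem inv (S : Sylow 2 G) :
    NoFF.Main.Inv (S : Subgroup G) (zc (S : Subgroup G)) (normalizer ((S : Subgroup G) : Set G))
      (PS (S : Subgroup G)) := by
  have hS : ∀ n ∈ normalizer ((S : Subgroup G) : Set G),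
      MulAut.conj n • (S : Subgroup G) = (S : Subgroup G) :=
    fun n hn => NoFF.Main.conj_eq_of_mem_normalizer hn
  refine ⟨hS, fun n hn => ?_, fun n hn P hP => ?_⟩
  · exact NoFF.Main.conj_eq_of_mem_normalizer (normalizer_le_normalizer_zc _ hn)
  · have h1 : IsParS ((S : Subgroup G).map (MulAut.conj n).toMonoidHom)
        (P.map (MulAut.conj n).toMonoidHom) := IsParS.map (MulAut.conj n) hP
    have h2 : (S : Subgroup G).map (MulAut.conj n).toMonoidHom = S := hS n hn
    rw [h2] at h1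
    exact h1

/-- The hypotheses of `NoFF.Lines` (cases NO-3S, NO-3L). -/
theorem geo (hc : IsCharacteristicTwoType G) (S : Sylow 2 G) (hm : ¬ FF (S : Subgroup G))
    (hS : (S : Subgroup G) ≠ ⊥)
    (hlow : ∀ P : Subgroup G, IsParS (S : Subgroup G) P →
      zl (S : Subgroup G) P ≤ o2 (CZ (S : Subgroup G))) :
    NoFF.Lines.Geo (S : Subgroup G) (zc (S : Subgroup G)) (CZ (S : Subgroup G))
      (PS (S : Subgroup G)) where
  toSys := sys hc S hm
  CZ := centralizer_le_normalizer _
  cen := le_rfl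
  low := by
    intro P hP c hcC x hx
    rw [NoFF.Basic.mem_conj]
    have h1 : c⁻¹ * x * c ∈ o2 (CZ (S : Subgroup G)) := by
      have h2 := (mem_normalizer_iff.mp (le_normalizer_o2 _ ((CZ (S : Subgroup G)).inv_mem hcC)) x).mp
        (hlow P hP hx)
      rwa [inv_inv] at h2
    exact (isLoc_centralizer_zc S hS).o2_le S h1
  Zsq := fun z hz => (mem_zc.mp hz).2.2

omit [Finite G] in
theorem le_CZ (S : Sylow 2 G) : (S : Subgroup G) ≤ CZ (S : Subgroup G) :=
  le_centralizer_zc _

/-- The members of `P(S)` which normalise `Z` centralise `Z`. -/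
theorem par_le_CZ (S : Sylow 2 G) {P : Subgroup G} (hP : IsPar (S : Subgroup G) P)
    (hZ : ¬ IsParS (S : Subgroup G) P) : P ≤ CZ (S : Subgroup G) := by
  have hz : P ≤ normalizer (zc (S : Subgroup G) : Set G) := by
    by_contra h
    exact hZ ⟨hP, h⟩
  have hn : P ≤ normalizer ((P ⊓ CZ (S : Subgroup G) : Subgroup G) : Set G) := by
    intro p hp
    rw [mem_normalizer_iff]
    intro x
    have h1 := mem_normalizer_iff.mp (Subgroup.le_normalizer hp) x
    have h2 : x ∈ CZ (S : Subgroup G) ↔ p * x * p⁻¹ ∈ CZ (S : Subgroup G) := by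
      rw [mem_centralizer_iff, mem_centralizer_iff]
      constructor
      · intro h z hz'
        have h3 := h _ ((mem_normalizer_iff''.mp (hz hp) z).mp hz')
        have e : z * (p * x * p⁻¹) = p * ((p⁻¹ * z * p) * x) * p⁻¹ := by group
        rw [e, h3]
        group
      · intro h z hz'
        have h3 := h _ ((mem_normalizer_iff.mp (hz hp) z).mp hz')
        have e : z * x = p⁻¹ * ((p * z * p⁻¹) * (p * x * p⁻¹)) * p := by group
        rw [e, h3]
        group
    rw [mem_inf, mem_inf, h1, h2]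
  rcases hP.sup_eq_or_inf_le S (N := P ⊓ CZ (S : Subgroup G)) inf_le_left hn with h | h
  · have h1 : (S : Subgroup G) ≤ P ⊓ CZ (S : Subgroup G) := le_inf hP.le (le_CZ S)
    rw [sup_eq_left.mpr h1] at h
    exact inf_eq_left.mp h
  · exfalso
    have h1 : (S : Subgroup G) ≤ o2 P := (le_inf le_rfl (le_inf hP.le (le_CZ S))).trans h
    have h2 : o2 P = (S : Subgroup G) := le_antisymm (hP.isLoc.o2_le S) h1
    exact hP.not_le (h2 ▸ le_normalizer_o2 P)

/-- `N_G(S)` normalises `⟨C_G(Z), P*(S)⟩`. -/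
theorem conj_sup (S : Sylow 2 G) {n : G} (hn : n ∈ normalizer ((S : Subgroup G) : Set G)) :
    MulAut.conj n • (CZ (S : Subgroup G) ⊔ sSup (PS (S : Subgroup G))) ≤
      CZ (S : Subgroup G) ⊔ sSup (PS (S : Subgroup G)) := by
  rw [Subgroup.smul_sup]
  apply sup_le_sup
  · intro x hx
    rw [NoFF.Basic.mem_conj] at hx
    rw [mem_centralizer_iff] at hx ⊢
    intro z hz
    have hn' := normalizer_le_normalizer_zc _ hn
    have h3 := hx _ ((mem_normalizer_iff''.mp hn' z).mp hz)
    have e : z * x = n * ((n⁻¹ * z * n) * (n⁻¹ * x * n)) * n⁻¹ := by group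
    rw [e, h3]
    group
  · rw [Subgroup.pointwise_smul_subset_iff]
    refine sSup_le fun P hP => ?_
    rw [← Subgroup.pointwise_smul_subset_iff]
    exact le_sSup ((inv S).nF n hn P hP)

/-- A 2-subgroup normalised by `C_G(Z)` and by all members of `P*(S)` is trivial. -/
theorem eq_bot_of_norm (h : Ctx G) (S : Sylow 2 G) (hF : Full (S : Subgroup G)) {U : Subgroup G}
    (hU : IsPGroup 2 U) (hP : ∀ P ∈ PS (S : Subgroup G), P ≤ normalizer (U : Set G))
    (hC : CZ (S : Subgroup G) ≤ normalizer (U : Set G)) : U = ⊥ := by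
  by_contra hU1
  set Y : Subgroup G := CZ (S : Subgroup G) ⊔ sSup (PS (S : Subgroup G)) with hY
  have hYU : Y ≤ normalizer (U : Set G) := sup_le hC (sSup_le hP)
  have hSY : (S : Subgroup G) ≤ Y := (le_CZ S).trans le_sup_left
  have hUS : U ≤ (S : Subgroup G) := le_of_le_normalizer S hU (hSY.trans hYU)
  have hO : o2 Y ≠ ⊥ := o2_ne_bot_of_le hU hU1 (hUS.trans hSY) hYU
  apply hO
  refine h.eq_bot (o2_isPGroup Y) (hF.eq_top ?_ ?_)
  · intro n hn
    have key : ∀ n ∈ normalizer ((S : Subgroup G) : Set G), Y.map (MulAut.conj n).toMonoidHom = Y := by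
      intro n hn
      apply le_antisymm (conj_sup S hn)
      have h1 := conj_sup S (inv_mem hn)
      have h2 := NoFF.Basic.conj_le_iff (g := n).2 h1
      rwa [NoFF.Basic.conj_conj, mul_inv_cancel, map_one, one_smul] at h2
    have h3 : (o2 Y).map (MulAut.conj n).toMonoidHom = o2 Y := by
      rw [← o2_map_equiv, key n hn]
    rw [mem_normalizer_iff]
    intro x
    constructor
    · intro hx
      rw [← h3]
      exact ⟨x, hx, rfl⟩
    · intro hx
      rw [← h3] at hx
      obtain ⟨y, hy, hxy⟩ := hx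
      have : y = x := (MulAut.conj n).injective hxy
      exact this ▸ hy
  · intro P hPp
    by_cases hs : IsParS (S : Subgroup G) P
    · exact ((le_sSup (a := P) hs).trans le_sup_right).trans (le_normalizer_o2 Y)
    · exact ((par_le_CZ S hPp hs).trans le_sup_left).trans (le_normalizer_o2 Y)

/-- A critical pair exists. -/
theorem exists_crit (h : Ctx G) (S : Sylow 2 G) (hF : Full (S : Subgroup G))
    (hm : ¬ FF (S : Subgroup G))
    (hlow : ∀ P : Subgroup G, IsParS (S : Subgroup G) P →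
      zl (S : Subgroup G) P ≤ o2 (CZ (S : Subgroup G))) :
    ∃ n, 1 ≤ n ∧ ∃ y, NoFF.Lines.Crit (zc (S : Subgroup G)) (CZ (S : Subgroup G))
      (PS (S : Subgroup G)) n 1 y := by
  obtain ⟨P, hP⟩ := h.exists_isParS hF
  refine (geo h.char2 S hm (h.sylow_ne_bot S) hlow).exists_crit ⟨P, hP⟩
    (MinSimple.Basic.zc_ne_bot S.isPGroup' (h.sylow_ne_bot S)) ?_
  intro U hU hPU hCU
  exact eq_bot_of_norm h S hF hU hPU hCU

end plug

end Cfsg.Agent.Omega.FrameNOFF
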