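import Cfsg.Agent.Omega.Exits
import Cfsg.Agent.S1759
import Cfsg.Agent.S1761
import Cfsg.Agent.S1762
import Cfsg.Agent.S1763

/-!
# The exits `Q = O₂(C_G(z))` extraspecial of width 2, 3, 4 of the even half, unconditional (helper950)

`Exits.Extra z n` (helper303): `O₂(C_G(z))` is extraspecial of order `2^(2n+1)`.
* `known_small`: `2 ≤ n ≤ 4` gives `IsKnownSimple' G` (S1759, S1762, S1763).
* `known_or_irr`: `n ≥ 3` gives `IsKnownSimple' G` or `Irr z` (S1761).
* `known_or_large`: any `n ≥ 2`: known, or `n ≥ 5` and `Irr z` (node EH3).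
-/

set_option autoImplicit false

namespace Cfsg.Agent.Omega.ExitsDone

open Cfsg Subgroup Cfsg.Agent.Omega.Exits

universe u

theorem st1759 : St1759.{u} := fun _ _ _ z h1 h2 h3 h4 h5 h6 => Cfsg.Agent.S1759.result z h1 h2 h3 h4 h5 h6

theorem st1761 : St1761.{u} := fun _ _ _ _ z h1 h2 h3 n h4 h5 => Cfsg.Agent.S1761.result z h1 h2 h3 n h4 h5

theorem st1762 : St1762.{u} := fun _ _ _ _ h z h1 h2 h3 h4 => Cfsg.Agent.S1762.result h z h1 h2 h3 h4

theorem st1763 : St1763.{u} := fun _ _ _ _ h z h1 h2 h3 h4 => Cfsg.Agent.S1763.result h z h1 h2 h3 h4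

variable {G : Type u} [Group G] [Finite G] [IsSimpleGroup G]

/-- Widths `2`, `3`, `4`. -/
theorem known_small (hna : ¬ IsMulCommutative G) (h2 : IsCharacteristicTwoType G) {z : G} {n : ℕ}
    (h : Extra z n) (hn : 2 ≤ n) (hn' : n ≤ 4) : IsKnownSimple' G := by
  obtain rfl | rfl | rfl : n = 2 ∨ n = 3 ∨ n = 4 := by omega
  · exact h.known_two h2 hna st1759
  · exact h.known_three h2 hna st1762
  · exact h.known_four h2 hna st1763

/-- Width at least `3`: known or irreducible. -/
theorem known_or_irr (h2 : IsCharacteristicTwoType G) {z : G} {n : ℕ} (h : Extra z n) (hn : 3 ≤ n) :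
    IsKnownSimple' G ∨ Irr z := h.known_or_irr h2 st1761 hn

/-- Width at least `2`: known, or width at least `5` and irreducible. -/
theorem known_or_large (hna : ¬ IsMulCommutative G) (h2 : IsCharacteristicTwoType G) {z : G} {n : ℕ}
    (h : Extra z n) (hn : 2 ≤ n) : IsKnownSimple' G ∨ (5 ≤ n ∧ Irr z) := by
  by_cases hn' : n ≤ 4
  · exact Or.inl (known_small hna h2 h hn hn')
  · rcases known_or_irr h2 h (by omega) with h3 | h3
    · exact Or.inl h3
    · exact Or.inr ⟨by omega, h3⟩

end Cfsg.Agent.Omega.ExitsDone
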