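import Cfsg.Agent.Omega.FFMutual

/-!
# `LeafMulti` from the FF theorem: the leaves II.c, II.d, F3, F4

A mutual pair `V = V_{P₁}`, `V' = (V_{P₂})^x` with a member which is not one natural `SL₂(q)`-module.

* `IsNat S P k` : `V_P / C_V(O²(P))` is the sum of `k` natural `SL₂(F)`-modules (`FFThm.NatK`);
* `IsSym S P k m` : the sum of `k` even-subset modules of symmetric groups of degree `2^m + 1`
  (`FFThm.SymK`);
* `Typed S P` : no over-offenders and one of the two types; `AllTyped S` : all members of mutual pairs;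
* `NoWr S` : all members of mutual pairs have one factor; `SymFree S` : `C_V(O²(P)) = 1` for both members of
  every mutual pair with a member of type `S_{2^m+1}`;
* leaves (class `K`, with `Ctx G`, `K G`, `Full S`, `AllIn S`, `AllTyped S`):
  - `LeafWr` (II.d): `P₁` has `k ≥ 2` natural factors;
  - `LeafSymWr` (II.d): `P₁` has `k ≥ 2` factors `S_{2^m+1}`;
  - `LeafC` (II.c, F3): one factor, `P₁` of type `S_{2^m+1}`, `C_V(O²(P)) = 1`;
  - `LeafF4` (F4): one factor, `P₁` of type `S_{2^m+1}`, `C_V(O²(P)) ≠ 1` for one of the members;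
* `typedStep` : `FFThm.Stmt` implies `AllTyped S`;
* `leafMulti` : these leaves and the FF theorem imply `FrameFF.LeafMulti`.
-/

set_option autoImplicit false

namespace Cfsg.Agent.Omega.FrameMulti

open Subgroup Cfsg Cfsg.Agent.ZN Cfsg.Agent.Omega.MinPar Cfsg.Agent.Omega.Frame
open Cfsg.Agent.Omega.FrameLE (AllIn)
open Cfsg.Agent.Omega.FrameFF (cv Single Free LeafMulti)
open Cfsg.Agent.Omega.FFThm (NatK SymK Off NoOver Concl)

universe u

/-! ### Types of members of mutual pairs -/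

section defs

variable {G : Type u} [Group G]

/-- `P` has `k` natural factors. -/
def IsNat (S P : Subgroup G) (k : ℕ) : Prop :=
  ∃ (F : Type) (_ : Field F) (_ : Finite F) (_ : CharP F 2), Nonempty (NatK F S P (zl S P) (cv S P) k)

/-- `P` has `k` factors `S_{2^m+1}`. -/
def IsSym (S P : Subgroup G) (k m : ℕ) : Prop := Nonempty (SymK S P (zl S P) (cv S P) k m)

/-- The conclusion of the FF theorem. -/
structure Typed (S P : Subgroup G) : Prop where
  noOver : NoOver (zl S P) P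
  concl : Concl S P

/-- All members of mutual pairs satisfy the conclusion of the FF theorem. -/
def AllTyped (S : Subgroup G) : Prop :=
  ∀ (P₁ P₂ : Subgroup G) (x : G), Mutual S P₁ P₂ x → Typed S P₁ ∧ Typed S P₂

/-- No member of a mutual pair has more than one factor. -/
def NoWr (S : Subgroup G) : Prop :=
  ∀ (P₁ P₂ : Subgroup G) (x : G), Mutual S P₁ P₂ x → ∀ k, 2 ≤ k →
    ¬ IsNat S P₁ k ∧ ∀ m, 2 ≤ m → ¬ IsSym S P₁ k m

/-- If a member of a mutual pair is of type `S_{2^m+1}`, then `C_V(O²(P)) = 1` for both members. -/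
def SymFree (S : Subgroup G) : Prop :=
  ∀ (P₁ P₂ : Subgroup G) (x : G), Mutual S P₁ P₂ x → ∀ m, 2 ≤ m → IsSym S P₁ 1 m →
    Free S P₁ ∧ Free S P₂

theorem IsNat.single {S P : Subgroup G} (h : IsNat S P 1) : Single S P := by
  obtain ⟨F, i1, i2, i3, ⟨N⟩⟩ := h
  exact N.single

/-- The type of a member of a mutual pair. -/
theorem Typed.cases {S P : Subgroup G} (h : Typed S P) :
    (∃ k, 1 ≤ k ∧ IsNat S P k) ∨ ∃ k m, 1 ≤ k ∧ 2 ≤ m ∧ IsSym S P k m := by
  rcases h.concl with ⟨F, i1, i2, i3, k, hk, hN⟩ | ⟨k, m, hk, hm, hS⟩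
  · exact Or.inl ⟨k, hk, F, i1, i2, i3, hN⟩
  · exact Or.inr ⟨k, m, hk, hm, hS⟩

/-- If no member has more than one factor, the types are: one natural factor, one factor `S_{2^m+1}`. -/
theorem NoWr.cases {S P₁ P₂ : Subgroup G} {x : G} (h : NoWr S) (hT : AllTyped S) (hm : Mutual S P₁ P₂ x) :
    IsNat S P₁ 1 ∨ ∃ m, 2 ≤ m ∧ IsSym S P₁ 1 m := by
  rcases (hT P₁ P₂ x hm).1.cases with ⟨k, hk, hN⟩ | ⟨k, m, hk, hm2, hS⟩
  · rcases Nat.lt_or_ge k 2 with h1 | h1
    · have h2 : k = 1 := by omega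
      rw [h2] at hN
      exact Or.inl hN
    · exact absurd hN (h P₁ P₂ x hm k h1).1
  · rcases Nat.lt_or_ge k 2 with h1 | h1
    · have h2 : k = 1 := by omega
      rw [h2] at hS
      exact Or.inr ⟨m, hm2, hS⟩
    · exact absurd hS ((h P₁ P₂ x hm k h1).2 m hm2)

end defs

/-! ### The leaves -/

section leaves

variable (K : Cls.{u})

/-- II.d, natural factors: `P₁` has `k ≥ 2` natural factors; `C_V(O²(P₁))` and `P₂` arbitrary.
(helper36, helper612) -/
def LeafWr : Prop :=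
  ∀ (G : Type u) [Group G] [Finite G], Ctx G → K G → ∀ (S : Sylow 2 G), Full (S : Subgroup G) →
    AllIn (S : Subgroup G) → AllTyped (S : Subgroup G) →
    ∀ (P₁ P₂ : Subgroup G) (x : G), Mutual (S : Subgroup G) P₁ P₂ x →
      ∀ k, 2 ≤ k → IsNat (S : Subgroup G) P₁ k → IsKnownSimple' G

/-- II.d, symmetric factors: `P₁` has `k ≥ 2` factors `S_{2^m+1}`; `C_V(O²(P₁))` and `P₂` arbitrary.
(helper36, helper242) -/
def LeafSymWr : Prop :=
  ∀ (G : Type u) [Group G] [Finite G], Ctx G → K G → ∀ (S : Sylow 2 G), Full (S : Subgroup G) →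
    AllIn (S : Subgroup G) → AllTyped (S : Subgroup G) →
    ∀ (P₁ P₂ : Subgroup G) (x : G), Mutual (S : Subgroup G) P₁ P₂ x →
      ∀ k m, 2 ≤ k → 2 ≤ m → IsSym (S : Subgroup G) P₁ k m → IsKnownSimple' G

/-- II.c and F3: all members have one factor, `P₁` is of type `S_{2^m+1}`, `P₂` of type `S_{2^m'+1}` or one
natural `SL₂(q)`-module, `C_V(O²(P)) = 1`. (helper629) -/
def LeafC : Prop :=
  ∀ (G : Type u) [Group G] [Finite G], Ctx G → K G → ∀ (S : Sylow 2 G), Full (S : Subgroup G) →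
    AllIn (S : Subgroup G) → AllTyped (S : Subgroup G) → NoWr (S : Subgroup G) → SymFree (S : Subgroup G) →
    ∀ (P₁ P₂ : Subgroup G) (x : G), Mutual (S : Subgroup G) P₁ P₂ x →
      Free (S : Subgroup G) P₁ → Free (S : Subgroup G) P₂ →
      ∀ m, 2 ≤ m → IsSym (S : Subgroup G) P₁ 1 m →
        (IsNat (S : Subgroup G) P₂ 1 ∨ ∃ m', 2 ≤ m' ∧ IsSym (S : Subgroup G) P₂ 1 m') → IsKnownSimple' G

/-- F4: all members have one factor, `P₁` is of type `S_{2^m+1}`, `C_V(O²(P)) ≠ 1` for one of the members.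
(helper816, helper615) -/
def LeafF4 : Prop :=
  ∀ (G : Type u) [Group G] [Finite G], Ctx G → K G → ∀ (S : Sylow 2 G), Full (S : Subgroup G) →
    AllIn (S : Subgroup G) → AllTyped (S : Subgroup G) → NoWr (S : Subgroup G) →
    ∀ (P₁ P₂ : Subgroup G) (x : G), Mutual (S : Subgroup G) P₁ P₂ x →
      ¬ (Free (S : Subgroup G) P₁ ∧ Free (S : Subgroup G) P₂) →
      ∀ m, 2 ≤ m → IsSym (S : Subgroup G) P₁ 1 m →
        (IsNat (S : Subgroup G) P₂ 1 ∨ ∃ m', 2 ≤ m' ∧ IsSym (S : Subgroup G) P₂ 1 m') → IsKnownSimple' G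

end leaves

/-! ### The node -/

/-- The consequence of the FF theorem for mutual pairs (`FFThm.of_mutual`). -/
def TypedStep : Prop :=
  ∀ (G : Type u) [Group G] [Finite G], Ctx G → ∀ (S : Sylow 2 G), AllTyped (S : Subgroup G)

theorem typedStep (hFF : FFThm.Stmt.{u}) : TypedStep.{u} := by
  intro G _ _ hG S P₁ P₂ x hm
  obtain ⟨h1, h2, -⟩ := FFThm.of_mutual hFF hG.char2 S hm
  exact ⟨⟨h1.1, h1.2⟩, ⟨h2.1, h2.2⟩⟩

/-- **`LeafMulti` from its leaves.** -/
theorem leafMulti_of {K : Cls.{u}} (hT : TypedStep.{u}) (hW : LeafWr K) (hSW : LeafSymWr K) (hC : LeafC K)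
    (hF4 : LeafF4 K) : LeafMulti K := by
  intro G _ _ hG hcl S hF hLE P₁ P₂ x hm hns
  have hAT : AllTyped (S : Subgroup G) := hT G hG S
  by_cases hNW : NoWr (S : Subgroup G)
  · have c1 := hNW.cases hAT hm
    have c2 := hNW.cases hAT hm.symm
    -- one of the members is of type `S_{2^m+1}`
    obtain ⟨P, P', y, hm', m, hm2, hS, hc⟩ : ∃ (P P' : Subgroup G) (y : G), Mutual (S : Subgroup G) P P' y ∧
        ∃ m, 2 ≤ m ∧ IsSym (S : Subgroup G) P 1 m ∧
          (IsNat (S : Subgroup G) P' 1 ∨ ∃ m', 2 ≤ m' ∧ IsSym (S : Subgroup G) P' 1 m') := by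
      rcases c1 with h1 | ⟨m, hm2, h1⟩
      · rcases c2 with h2 | ⟨m, hm2, h2⟩
        · exact absurd ⟨h1.single, h2.single⟩ hns
        · exact ⟨P₂, P₁, x⁻¹, hm.symm, m, hm2, h2, Or.inl h1⟩
      · exact ⟨P₁, P₂, x, hm, m, hm2, h1, c2⟩
    by_cases hSF : SymFree (S : Subgroup G)
    · obtain ⟨f1, f2⟩ := hSF P P' y hm' m hm2 hS
      exact hC G hG hcl S hF hLE hAT hNW hSF P P' y hm' f1 f2 m hm2 hS hc
    · unfold SymFree at hSF
      push Not at hSF
      obtain ⟨Q, Q', z, hq, n, hn2, hQ, hfr⟩ := hSF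
      exact hF4 G hG hcl S hF hLE hAT hNW Q Q' z hq (fun h => hfr h.1 h.2) n hn2 hQ
        (hNW.cases hAT hq.symm)
  · unfold NoWr at hNW
    push Not at hNW
    obtain ⟨Q, Q', z, hq, k, hk, h⟩ := hNW
    by_cases hN : IsNat (S : Subgroup G) Q k
    · exact hW G hG hcl S hF hLE hAT Q Q' z hq k hk hN
    · obtain ⟨m, hm2, hS⟩ := h hN
      exact hSW G hG hcl S hF hLE hAT Q Q' z hq k m hk hm2 hS

/-- **`LeafMulti` from the FF theorem and the leaves.** -/
theorem leafMulti {K : Cls.{u}} (hFF : FFThm.Stmt.{u}) (hW : LeafWr K) (hSW : LeafSymWr K) (hC : LeafC K)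
    (hF4 : LeafF4 K) : LeafMulti K := leafMulti_of (typedStep hFF) hW hSW hC hF4

end Cfsg.Agent.Omega.FrameMulti
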