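import Mathlib

/-!
# FIELD KILL (#11341, helper951; referee #12487)

`t` an involution with `C_G(t)` of characteristic 2, `R = O₂(C_G(t))`; `P i ≤ C_G(t)` (the fixed points of
the parabolics), `U₀` their common Sylow 2-subgroup, `z k` involutions with `C_G(z k) ≤ N_G(Q k)`.
Then `⟨P i⟩` is a 2-group.  No transfer, no orders, any rank.
-/

set_option autoImplicit false

namespace Cfsg.Agent.Omega.FieldKill

open Subgroup
open scoped commutatorElement

variable {G : Type*} [Group G]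

/-! ### coprime action -/

/-- If `e` has odd order, `c = x⁻¹ (e x e⁻¹)` is a 2-element commuting with `e`, then `c = 1`. -/
theorem coprime_fix {e x : G} (he : Odd (orderOf e)) (hc : e * (x⁻¹ * (e * x * e⁻¹)) = x⁻¹ * (e * x * e⁻¹) * e)
    {k : ℕ} (hk : (x⁻¹ * (e * x * e⁻¹)) ^ 2 ^ k = 1) : e * x = x * e := by
  set c := x⁻¹ * (e * x * e⁻¹) with hcdef
  have h1 : e * x * e⁻¹ = x * c := by rw [hcdef]; group
  have h2 : ∀ n : ℕ, e ^ n * x * (e ^ n)⁻¹ = x * c ^ n := by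
    intro n
    induction n with
    | zero => simp
    | succ n ih =>
      have e1 : e ^ (n + 1) * x * (e ^ (n + 1))⁻¹ = e * (e ^ n * x * (e ^ n)⁻¹) * e⁻¹ := by
        rw [pow_succ']; group
      have hcn : e * c ^ n = c ^ n * e := (Commute.pow_right (show Commute e c from hc) n)
      rw [e1, ih]
      calc e * (x * c ^ n) * e⁻¹ = (e * x * e⁻¹) * (e * c ^ n * e⁻¹) := by group
        _ = x * c * c ^ n := by rw [h1, hcn, mul_inv_cancel_right]
        _ = x * c ^ (n + 1) := by rw [mul_assoc, ← pow_succ']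
  have h3 : c ^ orderOf e = 1 := by
    have := h2 (orderOf e)
    rw [pow_orderOf_eq_one, inv_one, one_mul, mul_one] at this
    exact (left_eq_mul.1 this)
  have h4 : orderOf c ∣ Nat.gcd (orderOf e) (2 ^ k) :=
    Nat.dvd_gcd (orderOf_dvd_of_pow_eq_one h3) (orderOf_dvd_of_pow_eq_one hk)
  have h5 : Nat.gcd (orderOf e) (2 ^ k) = 1 :=
    Nat.Coprime.pow_right _ (Nat.coprime_two_right.2 he)
  rw [h5, Nat.dvd_one, orderOf_eq_one_iff] at h4
  rw [h4, mul_one] at h1
  rw [mul_inv_eq_iff_eq_mul] at h1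
  exact h1

/-- `E(Y)` : the subgroup generated by the elements of odd order of `Y` -/
def EE (Y : Subgroup G) : Subgroup G := closure {y | y ∈ Y ∧ Odd (orderOf y)}

theorem EE_le (Y : Subgroup G) : EE Y ≤ Y := by
  rw [EE, closure_le]
  exact fun y hy => hy.1

theorem mem_EE {Y : Subgroup G} {y : G} (hy : y ∈ Y) (ho : Odd (orderOf y)) : y ∈ EE Y :=
  subset_closure ⟨hy, ho⟩

/-- `X` is centralised by `EE Y` iff by all elements of odd order. -/
theorem cen_EE {Y X : Subgroup G} :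
    EE Y ≤ centralizer (X : Set G) ↔ ∀ y ∈ Y, Odd (orderOf y) → ∀ x ∈ X, y * x = x * y := by
  constructor
  · intro h y hy ho x hx
    exact (mem_centralizer_iff.1 (h (mem_EE hy ho)) x hx).symm
  · intro h
    rw [EE, closure_le]
    rintro y ⟨hy, ho⟩
    rw [SetLike.mem_coe, mem_centralizer_iff]
    exact fun x hx => (h y hy ho x hx).symm

/-- invariance under `Y` -/
def Inv (Y X : Subgroup G) : Prop := ∀ y ∈ Y, ∀ x ∈ X, y * x * y⁻¹ ∈ X

theorem orderOf_conj (g y : G) : orderOf (g * y * g⁻¹) = orderOf y := by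
  have := orderOf_injective (MulAut.conj g).toMonoidHom (MulAut.conj g).injective y
  simpa using this

/-- `C_X(EE Y)` is `Y`-invariant -/
theorem inv_cen {Y X : Subgroup G} (hX : Inv Y X) : Inv Y (X ⊓ centralizer (EE Y : Set G)) := by
  rintro y hy x ⟨hx, hc⟩
  refine ⟨hX y hy x hx, mem_centralizer_iff.2 fun e he => ?_⟩
  have h1 : y⁻¹ * e * y ∈ EE Y := by
    have key : EE Y ≤ (EE Y).comap (MulAut.conj y⁻¹).toMonoidHom := by
      rw [EE, closure_le]
      rintro u ⟨hu, ho⟩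
      show y⁻¹ * u * y⁻¹⁻¹ ∈ EE Y
      refine subset_closure ⟨mul_mem (mul_mem (inv_mem hy) hu) (inv_mem (inv_mem hy)), ?_⟩
      rw [orderOf_conj]; exact ho
    have := key he
    change y⁻¹ * e * y⁻¹⁻¹ ∈ EE Y at this
    rwa [inv_inv] at this
  have h2 := mem_centralizer_iff.1 hc _ h1
  calc e * (y * x * y⁻¹) = y * ((y⁻¹ * e * y) * x) * y⁻¹ := by group
    _ = y * (x * (y⁻¹ * e * y)) * y⁻¹ := by rw [h2]
    _ = y * x * y⁻¹ * e := by group

/-- if `[X, EE Y]` is centralised by `EE Y`, so is `X` -/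
theorem cen_of_comm {Y X : Subgroup G} (h2 : IsPGroup 2 X) (hX : Inv Y X)
    (h : ∀ x ∈ X, ∀ y ∈ Y, Odd (orderOf y) → x⁻¹ * (y * x * y⁻¹) ∈ centralizer (EE Y : Set G)) :
    EE Y ≤ centralizer (X : Set G) := by
  rw [cen_EE]
  intro y hy ho x hx
  have h1 := mem_centralizer_iff.1 (h x hx y hy ho) y (mem_EE hy ho)
  obtain ⟨k, hk⟩ := h2 ⟨x⁻¹ * (y * x * y⁻¹), mul_mem (inv_mem hx) (hX y hy x hx)⟩
  exact coprime_fix ho h1 (by simpa using congrArg Subtype.val hk)

/-- `X` is minimal `Y`-invariant with `[X, EE Y] ≠ 1` -/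
structure Min (Y X : Subgroup G) : Prop where
  two : IsPGroup 2 X
  inv : Inv Y X
  ne : ¬ EE Y ≤ centralizer (X : Set G)
  min : ∀ X' ≤ X, Inv Y X' → X' ≠ X → EE Y ≤ centralizer (X' : Set G)

theorem exists_min [Finite G] {Y R : Subgroup G} (h2 : IsPGroup 2 R) (hR : Inv Y R)
    (hne : ¬ EE Y ≤ centralizer (R : Set G)) : ∃ X ≤ R, Min Y X := by
  classical
  let S : Set (Subgroup G) := {X | X ≤ R ∧ Inv Y X ∧ ¬ EE Y ≤ centralizer (X : Set G)}
  obtain ⟨X, hX⟩ := (Set.toFinite S).exists_minimal ⟨R, le_rfl, hR, hne⟩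
  refine ⟨X, hX.prop.1, h2.to_le hX.prop.1, hX.prop.2.1, hX.prop.2.2, fun X' hX' hi hn => ?_⟩
  by_contra hc
  have h1 : X' ∈ S := ⟨hX'.trans hX.prop.1, hi, hc⟩
  exact hn (le_antisymm hX' (hX.le_of_le h1 hX'))

section min

variable {Y X : Subgroup G} (m : Min Y X)
include m

/-- `D₁ = C_X(EE Y)` -/
theorem Min.lt [Finite G] : X ⊓ centralizer (EE Y : Set G) ≠ X := by
  intro h
  apply m.ne
  have h1 : X ≤ centralizer (EE Y : Set G) := by rw [← h]; exact inf_le_right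
  rw [le_centralizer_iff]
  exact h1

/-- a proper `Y`-invariant subgroup is contained in `D₁` -/
theorem Min.le {X' : Subgroup G} (h : X' ≤ X) (hi : Inv Y X') (hn : X' ≠ X) :
    X' ≤ X ⊓ centralizer (EE Y : Set G) :=
  le_inf h (le_centralizer_iff.1 (m.min X' h hi hn))

/-- `[X, X] ≤ D₁` -/
theorem Min.comm_le [Finite G] {x x' : G} (hx : x ∈ X) (hx' : x' ∈ X) :
    ⁅x, x'⁆ ∈ X ⊓ centralizer (EE Y : Set G) := by
  have h1 : ⁅X, X⁆ ≤ X := by
    rw [commutator_le]
    intro a ha c hc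
    rw [commutatorElement_def]
    exact mul_mem (mul_mem (mul_mem ha hc) (inv_mem ha)) (inv_mem hc)
  have h2 : Inv Y ⁅X, X⁆ := by
    intro y hy
    have : ⁅X, X⁆ ≤ (⁅X, X⁆).comap (MulAut.conj y).toMonoidHom := by
      rw [commutator_le]
      intro a ha c hc
      show (MulAut.conj y).toMonoidHom ⁅a, c⁆ ∈ ⁅X, X⁆
      rw [map_commutatorElement]
      exact commutator_mem_commutator (m.inv y hy a ha) (m.inv y hy c hc)
    exact fun x hx => this hx
  have h3 : ⁅X, X⁆ ≠ X := by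
    intro h
    have : Nontrivial X := by
      rw [nontrivial_iff_ne_bot]
      rintro rfl
      apply m.ne
      intro e _
      rw [mem_centralizer_iff]
      intro x hx
      rw [SetLike.mem_coe, mem_bot] at hx
      rw [hx, one_mul, mul_one]
    have : Fact (Nat.Prime 2) := ⟨Nat.prime_two⟩
    have : Group.IsNilpotent X := m.two.isNilpotent
    have h4 := (Group.IsSolvable.commutator_lt_top_of_nontrivial X).ne
    apply h4
    rw [← map_subtype_commutator] at h
    rw [eq_top_iff]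
    rintro ⟨x, hx⟩ -
    have hx2 : x ∈ map X.subtype (_root_.commutator X) := by rw [h]; exact hx
    obtain ⟨x', hx', e⟩ := hx2
    have h5 : x' = ⟨x, hx⟩ := Subtype.ext e
    rw [← h5]
    exact hx'
  exact m.le h1 h2 h3 (commutator_mem_commutator hx hx')

/-- `D₁ ≤ Z(X)` -/
theorem Min.central [Finite G] {d x : G} (hd : d ∈ X ⊓ centralizer (EE Y : Set G)) (hx : x ∈ X) :
    d * x = x * d := by
  set D := X ⊓ centralizer (EE Y : Set G) with hD
  -- `x⁻¹ x^e` commutes with `D`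
  have key : ∀ d ∈ D, ∀ x ∈ X, ∀ e ∈ EE Y, d * (x⁻¹ * (e * x * e⁻¹)) = x⁻¹ * (e * x * e⁻¹) * d := by
    intro d hd x hx e he
    have h1 := m.comm_le hd.1 hx
    have hed := mem_centralizer_iff.1 hd.2 e he
    have h2 := mem_centralizer_iff.1 h1.2 e he
    have hde : e * d * e⁻¹ = d := by rw [hed, mul_inv_cancel_right]
    have h3 : e * ⁅d, x⁆ * e⁻¹ = ⁅d, x⁆ := by rw [h2, mul_inv_cancel_right]
    have h4 : e * ⁅d, x⁆ * e⁻¹ = ⁅e * d * e⁻¹, e * x * e⁻¹⁆ := by
      rw [commutatorElement_def, commutatorElement_def]; group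
    rw [h4, hde, commutatorElement_def, commutatorElement_def] at h3
    -- `d x' d⁻¹ x'⁻¹ = d x d⁻¹ x⁻¹`
    set x' := e * x * e⁻¹ with hx'
    have h5 : x' * d⁻¹ * x'⁻¹ = x * d⁻¹ * x⁻¹ := by
      have := congrArg (fun g => d⁻¹ * g) h3
      simpa [mul_assoc] using this
    have h6 : x⁻¹ * x' * d⁻¹ * (x⁻¹ * x')⁻¹ = d⁻¹ := by
      calc x⁻¹ * x' * d⁻¹ * (x⁻¹ * x')⁻¹ = x⁻¹ * (x' * d⁻¹ * x'⁻¹) * x := by group
        _ = d⁻¹ := by rw [h5]; group
    have h7 : x⁻¹ * x' * d⁻¹ = d⁻¹ * (x⁻¹ * x') := by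
      rw [mul_inv_eq_iff_eq_mul] at h6; exact h6
    calc d * (x⁻¹ * x') = d * (x⁻¹ * x' * d⁻¹) * d := by group
      _ = x⁻¹ * x' * d := by rw [h7]; group
  -- `C_X(D)` is `Y`-invariant and not centralised by `EE Y`
  have hDi : Inv Y D := inv_cen m.inv
  have hCi : Inv Y (X ⊓ centralizer (D : Set G)) := by
    rintro y hy x ⟨hx, hc⟩
    refine ⟨m.inv y hy x hx, mem_centralizer_iff.2 fun d hd => ?_⟩
    have h1 := hDi y⁻¹ (inv_mem hy) d hd
    rw [inv_inv] at h1
    have h2 := mem_centralizer_iff.1 hc _ h1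
    calc d * (y * x * y⁻¹) = y * ((y⁻¹ * d * y) * x) * y⁻¹ := by group
      _ = y * (x * (y⁻¹ * d * y)) * y⁻¹ := by rw [h2]
      _ = y * x * y⁻¹ * d := by group
  have hCX : X ⊓ centralizer (D : Set G) = X := by
    by_contra hn
    apply m.ne
    refine cen_of_comm m.two m.inv fun x hx y hy ho => ?_
    have hc : x⁻¹ * (y * x * y⁻¹) ∈ X ⊓ centralizer (D : Set G) :=
      mem_inf.2 ⟨X.mul_mem (X.inv_mem hx) (m.inv y hy x hx), mem_centralizer_iff.2 fun d hd =>
        key d hd x hx y (mem_EE hy ho)⟩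
    exact (m.le inf_le_left hCi hn hc).2
  have hxC : x ∈ X ⊓ centralizer (D : Set G) := by rw [hCX]; exact hx
  exact mem_centralizer_iff.1 hxC.2 d hd

/-- a 2-subgroup `U` of `Y` fixes a coset `x D'` of an invariant subgroup `D' < X` -/
theorem Min.exists_fixed [Finite G] {U D' : Subgroup G} (hU : IsPGroup 2 U) (hUY : U ≤ Y) (hD' : D' ≤ X)
    (hi : Inv Y D') (hne : D' ≠ X) :
    ∃ x ∈ X, x ∉ D' ∧ ∀ u ∈ U, x⁻¹ * (u * x * u⁻¹) ∈ D' := by
  have : Fact (Nat.Prime 2) := ⟨Nat.prime_two⟩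
  set E := D'.subgroupOf X with hE
  let act : U → X ⧸ E → X ⧸ E := fun u =>
    Quotient.map' (fun x => ⟨u * x * (u : G)⁻¹, m.inv u (hUY u.2) x x.2⟩) (by
      intro x y h
      rw [QuotientGroup.leftRel_apply] at h ⊢
      rw [hE, mem_subgroupOf] at h ⊢
      have := hi u (hUY u.2) _ h
      have e : (u : G) * ((x⁻¹ * y : X) : G) * (u : G)⁻¹ =
          (((⟨u * x * (u : G)⁻¹, m.inv u (hUY u.2) x x.2⟩ : X)⁻¹ *
            ⟨u * y * (u : G)⁻¹, m.inv u (hUY u.2) y y.2⟩ : X) : G) := by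
        simp only [Subgroup.coe_mul, Subgroup.coe_inv]
        group
      rwa [e] at this)
  let _ : MulAction U (X ⧸ E) :=
    { smul := act
      one_smul := by
        intro a
        induction a using QuotientGroup.induction_on with
        | H x =>
          show Quotient.mk'' _ = Quotient.mk'' _
          congr 1
          apply Subtype.ext
          simp
      mul_smul := by
        intro u w a
        induction a using QuotientGroup.induction_on with
        | H x =>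
          show Quotient.mk'' _ = Quotient.mk'' _
          congr 1
          apply Subtype.ext
          simp only [Subgroup.coe_mul]
          group }
  have hsmul : ∀ (u : U) (x : X), u • (QuotientGroup.mk x : X ⧸ E) =
      QuotientGroup.mk ⟨u * x * (u : G)⁻¹, m.inv u (hUY u.2) x x.2⟩ := fun u x => rfl
  have hcard : 2 ∣ Nat.card (X ⧸ E) := by
    obtain ⟨n, hn⟩ := m.two.index E
    have h1 : E.index ≠ 1 := by
      rw [Ne, index_eq_one, hE, subgroupOf_eq_top]
      exact fun h => hne (le_antisymm hD' h)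
    have hn0 : n ≠ 0 := by
      rintro rfl
      exact h1 (by rw [hn, pow_zero])
    change 2 ∣ E.index
    rw [hn]
    exact dvd_pow_self 2 hn0
  obtain ⟨a, ha, hne1⟩ := hU.exists_fixed_point_of_prime_dvd_card_of_fixed_point (X ⧸ E) hcard
    (a := QuotientGroup.mk 1) (by
      intro u
      rw [hsmul]
      congr 1
      apply Subtype.ext
      simp)
  induction a using QuotientGroup.induction_on with
  | H x =>
    refine ⟨x, x.2, fun h => hne1 ?_, fun u hu => ?_⟩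
    · rw [QuotientGroup.eq, inv_one, one_mul, hE, mem_subgroupOf]
      exact h
    · have h1 := ha ⟨u, hu⟩
      rw [hsmul] at h1
      have h2 := QuotientGroup.eq.1 h1.symm
      rw [hE, mem_subgroupOf] at h2
      exact h2

end min

/-! ### (3) -/

/-- **(3), first form**: if `C_R(z)` is centralised by `Y` and `z ∈ [U, U]` for a 2-subgroup `U ≤ Y`,
then the elements of odd order of `Y` centralise `R`. -/
theorem cen_of_mem_comm [Finite G] {R Y U : Subgroup G} {z : G} (hR : IsPGroup 2 R) (hYR : Inv Y R)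
    (hU : IsPGroup 2 U) (hUY : U ≤ Y) (hz : z ∈ ⁅U, U⁆)
    (hF : ∀ x ∈ R, x * z = z * x → ∀ y ∈ Y, x * y = y * x) : EE Y ≤ centralizer (R : Set G) := by
  by_contra hne
  obtain ⟨X, hXR, m⟩ := exists_min hR hYR hne
  have hzU : z ∈ U := by
    have : ⁅U, U⁆ ≤ U := by
      rw [commutator_le]
      intro a ha c hc
      rw [commutatorElement_def]
      exact mul_mem (mul_mem (mul_mem ha hc) (inv_mem ha)) (inv_mem hc)
    exact this hz
  -- `F₁ = C_X(z)`
  have hFi : Inv Y (X ⊓ centralizer {z}) := by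
    rintro y hy x ⟨hx, hc'⟩
    have hc : x * z = z * x := mem_centralizer_singleton_iff.1 hc'
    have h1 := hF x (hXR hx) hc y hy
    have e : y * x * y⁻¹ = x := by rw [← h1]; group
    rw [e]
    exact ⟨hx, mem_centralizer_singleton_iff.2 hc⟩
  have hFne : X ⊓ centralizer {z} ≠ X := by
    intro h
    apply m.ne
    rw [cen_EE]
    intro y hy _ x hx
    rw [← h] at hx
    exact (hF x (hXR hx.1) (mem_centralizer_singleton_iff.1 hx.2) y hy).symm
  have hFD := m.le inf_le_left hFi hFne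
  obtain ⟨x, hx, hxF, hfix⟩ := m.exists_fixed hU hUY inf_le_left hFi hFne
  apply hxF
  -- the homomorphism `u ↦ x⁻¹ (u x u⁻¹)`
  let A : Subgroup G := X ⊓ centralizer {z}
  have hA : ∀ a ∈ A, ∀ c ∈ A, a * c = c * a := fun a ha c hc => m.central (hFD ha) hc.1
  have hAU : ∀ a ∈ A, ∀ u ∈ U, a * u = u * a := fun a ha u hu =>
    hF a (hXR ha.1) (mem_centralizer_singleton_iff.1 ha.2) u (hUY hu)
  let T : Subgroup G :=
    { carrier := {u | u ∈ U ∧ x⁻¹ * (u * x * u⁻¹) = 1}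
      one_mem' := ⟨one_mem _, by group⟩
      mul_mem' := by
        rintro u w ⟨hu, hu'⟩ ⟨hw, hw'⟩
        refine ⟨mul_mem hu hw, ?_⟩
        have e1 : w * x * w⁻¹ = x := by
          have := congrArg (fun g => x * g) hw'
          simpa [mul_assoc] using this
        have e2 : u * x * u⁻¹ = x := by
          have := congrArg (fun g => x * g) hu'
          simpa [mul_assoc] using this
        calc x⁻¹ * (u * w * x * (u * w)⁻¹) = x⁻¹ * (u * (w * x * w⁻¹) * u⁻¹) := by group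
          _ = 1 := by rw [e1, e2, inv_mul_cancel]
      inv_mem' := by
        rintro u ⟨hu, hu'⟩
        refine ⟨inv_mem hu, ?_⟩
        have e2 : u * x * u⁻¹ = x := by
          have := congrArg (fun g => x * g) hu'
          simpa [mul_assoc] using this
        calc x⁻¹ * (u⁻¹ * x * u⁻¹⁻¹) = x⁻¹ * (u⁻¹ * (u * x * u⁻¹) * u) := by rw [e2, inv_inv]
          _ = 1 := by group }
  have hT : ⁅U, U⁆ ≤ T := by
    rw [commutator_le]
    intro u hu w hw
    -- `φ u = x⁻¹ u x u⁻¹`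
    have hφ : ∀ u w, u ∈ U → w ∈ U → x⁻¹ * (u * w * x * (u * w)⁻¹) =
        x⁻¹ * (u * x * u⁻¹) * (x⁻¹ * (w * x * w⁻¹)) := by
      intro u w hu hw
      have h1 := hAU _ (hfix w hw) u⁻¹ (inv_mem hu)
      calc x⁻¹ * (u * w * x * (u * w)⁻¹) = x⁻¹ * (u * x * ((x⁻¹ * (w * x * w⁻¹)) * u⁻¹)) := by group
        _ = x⁻¹ * (u * x * u⁻¹) * (x⁻¹ * (w * x * w⁻¹)) := by rw [h1]; group
    have h2 : ∀ u w, u ∈ U → w ∈ U → x⁻¹ * (u * w * x * (u * w)⁻¹) = x⁻¹ * (w * u * x * (w * u)⁻¹) := by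
      intro u w hu hw
      rw [hφ u w hu hw, hφ w u hw hu]
      exact hA _ (hfix u hu) _ (hfix w hw)
    refine ⟨?_, ?_⟩
    · rw [commutatorElement_def]
      exact mul_mem (mul_mem (mul_mem hu hw) (inv_mem hu)) (inv_mem hw)
    · have h3 : ⁅u, w⁆ = (u * w) * (w * u)⁻¹ := by rw [commutatorElement_def]; group
      rw [h3]
      have hwu : (w * u)⁻¹ ∈ U := inv_mem (mul_mem hw hu)
      rw [hφ _ _ (mul_mem hu hw) hwu, h2 u w hu hw, ← hφ _ _ (mul_mem hw hu) hwu]
      group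
  have h1 := (hT hz).2
  refine ⟨hx, mem_centralizer_singleton_iff.2 ?_⟩
  have e2 : z * x * z⁻¹ = x := by
    have := congrArg (fun g => x * g) h1
    simpa [mul_assoc] using this
  exact (mul_inv_eq_iff_eq_mul.1 e2).symm

/-- **(3), second form** (`Sp₄(4)`): `P i` is generated by `U` and elements of odd order, `z i ∈ U` is
centralised by `P i`, `C_R(z i)` is centralised by `Y = ⟨P i⟩`. -/
theorem cen_of_pair [Finite G] {ι : Type*} {R Y U : Subgroup G} {P : ι → Subgroup G} {z : ι → G}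
    (hR : IsPGroup 2 R) (hYR : Inv Y R) (hU : IsPGroup 2 U) (hP : ∀ i, P i ≤ U ⊔ EE (P i)) (hY : Y = ⨆ i, P i)
    (hUY : U ≤ Y) (hzU : ∀ i, z i ∈ U) (hzP : ∀ i, P i ≤ centralizer {z i})
    (hF : ∀ i, ∀ x ∈ R, x * z i = z i * x → ∀ y ∈ Y, x * y = y * x) :
    EE Y ≤ centralizer (R : Set G) := by
  by_contra hne
  obtain ⟨X, hXR, m⟩ := exists_min hR hYR hne
  set D := X ⊓ centralizer (EE Y : Set G) with hD
  have hDi : Inv Y D := inv_cen m.inv
  have hPY : ∀ i, P i ≤ Y := fun i => by rw [hY]; exact le_iSup P i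
  obtain ⟨x, hx, hxD, hfix⟩ := m.exists_fixed hU hUY inf_le_left hDi m.lt
  -- the stabiliser of the coset `x D` in `Y`
  let T : Subgroup G :=
    { carrier := {y | y ∈ Y ∧ x⁻¹ * (y * x * y⁻¹) ∈ D}
      one_mem' := ⟨one_mem _, by
        have : x⁻¹ * (1 * x * (1 : G)⁻¹) = 1 := by group
        rw [this]; exact one_mem _⟩
      mul_mem' := by
        rintro u w ⟨hu, hu'⟩ ⟨hw, hw'⟩
        refine ⟨mul_mem hu hw, ?_⟩
        have e : x⁻¹ * (u * w * x * (u * w)⁻¹) = x⁻¹ * (u * x * u⁻¹) * (u * (x⁻¹ * (w * x * w⁻¹)) * u⁻¹) := by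
          group
        rw [e]
        exact mul_mem hu' (hDi u hu _ hw')
      inv_mem' := by
        rintro u ⟨hu, hu'⟩
        refine ⟨inv_mem hu, ?_⟩
        have h1 := hDi u⁻¹ (inv_mem hu) _ (inv_mem hu')
        have e3 : u⁻¹ * (x⁻¹ * (u * x * u⁻¹))⁻¹ * u⁻¹⁻¹ = x⁻¹ * (u⁻¹ * x * u⁻¹⁻¹) := by group
        rw [← e3]
        exact h1 }
  have hUT : U ≤ T := fun u hu => ⟨hUY hu, hfix u hu⟩
  have hET : ∀ i, EE (P i) ≤ T := by
    intro i
    rw [EE, closure_le]
    rintro e ⟨he, ho⟩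
    refine ⟨hPY i he, ?_⟩
    have hd := hfix (z i) (hzU i)
    set d := x⁻¹ * (z i * x * (z i)⁻¹) with hddef
    set c := x⁻¹ * (e * x * e⁻¹) with hcdef
    have hcX : c ∈ X := mul_mem (inv_mem hx) (m.inv e (hPY i he) x hx)
    have hze : z i * e = e * z i := (mem_centralizer_singleton_iff.1 (hzP i he)).symm
    have hed : e * d = d * e := mem_centralizer_iff.1 hd.2 e (mem_EE (hPY i he) ho)
    have hdc : d * c = c * d := m.central hd hcX
    have h1 : z i * x * (z i)⁻¹ = x * d := by rw [hddef]; group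
    have h2 : z i * (e * x * e⁻¹) * (z i)⁻¹ = (e * x * e⁻¹) * d := by
      have hze' : e⁻¹ * (z i)⁻¹ = (z i)⁻¹ * e⁻¹ := by
        have := congrArg (fun g => g⁻¹) hze
        simpa using this
      calc z i * (e * x * e⁻¹) * (z i)⁻¹ = (z i * e) * x * (e⁻¹ * (z i)⁻¹) := by group
        _ = e * (z i * x * (z i)⁻¹) * e⁻¹ := by rw [hze, hze']; group
        _ = e * x * (d * e⁻¹) := by rw [h1]; group
        _ = e * x * (e⁻¹ * (e * d) * e⁻¹) := by group
        _ = (e * x * e⁻¹) * d := by rw [hed]; group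
    have h3 : z i * c * (z i)⁻¹ = c := by
      calc z i * c * (z i)⁻¹ = (z i * x * (z i)⁻¹)⁻¹ * (z i * (e * x * e⁻¹) * (z i)⁻¹) := by
            rw [hcdef]; group
        _ = d⁻¹ * (c * d) := by rw [h1, h2, hcdef]; group
        _ = c := by rw [← hdc]; group
    have h4 : c * z i = z i * c := (mul_inv_eq_iff_eq_mul.1 h3).symm
    refine ⟨hcX, mem_centralizer_iff.2 fun g hg => ?_⟩
    exact (hF i c (hXR hcX) h4 g (EE_le Y hg)).symm
  have hYT : Y ≤ T := by
    nth_rewrite 1 [hY]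
    exact iSup_le fun i => (hP i).trans (sup_le hUT (hET i))
  -- the fixed points of `Y` on `X / D`
  let K : Subgroup G :=
    { carrier := {g | g ∈ X ∧ ∀ y ∈ Y, g⁻¹ * (y * g * y⁻¹) ∈ D}
      one_mem' := ⟨one_mem _, fun y _ => by
        have : (1 : G)⁻¹ * (y * 1 * y⁻¹) = 1 := by group
        rw [this]; exact one_mem _⟩
      mul_mem' := by
        rintro g h ⟨hg, hg'⟩ ⟨hh, hh'⟩
        refine ⟨mul_mem hg hh, fun y hy => ?_⟩
        have h1 := m.central (hg' y hy) hh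
        have e : (g * h)⁻¹ * (y * (g * h) * y⁻¹) = h⁻¹ * (g⁻¹ * (y * g * y⁻¹) * h) * (h⁻¹ * (y * h * y⁻¹)) := by
          group
        rw [e, h1, inv_mul_cancel_left]
        exact mul_mem (hg' y hy) (hh' y hy)
      inv_mem' := by
        rintro g ⟨hg, hg'⟩
        refine ⟨inv_mem hg, fun y hy => ?_⟩
        have h1 := m.central (inv_mem (hg' y hy)) hg
        have e : g⁻¹⁻¹ * (y * g⁻¹ * y⁻¹) = g * (g⁻¹ * (y * g * y⁻¹))⁻¹ * g⁻¹ := by group
        rw [e, ← h1, mul_inv_cancel_right]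
        exact inv_mem (hg' y hy) }
  have hKi : Inv Y K := by
    rintro w hw g ⟨hg, hg'⟩
    refine ⟨m.inv w hw g hg, fun y hy => ?_⟩
    have h1 := hDi w hw _ (hg' (w⁻¹ * y * w) (mul_mem (mul_mem (inv_mem hw) hy) hw))
    have e : (w * g * w⁻¹)⁻¹ * (y * (w * g * w⁻¹) * y⁻¹) =
        w * (g⁻¹ * (w⁻¹ * y * w * g * (w⁻¹ * y * w)⁻¹)) * w⁻¹ := by group
    rw [e]
    exact h1
  have hKX : K = X := by
    by_contra hn
    have hKle : K ≤ X := fun g hg => (show g ∈ X ∧ _ from hg).1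
    exact hxD (m.le hKle hKi hn (show x ∈ K from ⟨hx, fun y hy => (hYT hy).2⟩))
  apply m.ne
  refine cen_of_comm m.two m.inv fun g hg y hy _ => ?_
  rw [← hKX] at hg
  exact (hg.2 y hy).2

/-! ### (2) -/

/-- If `C_R(z k)` centralises `Q k ∩ C(t)`-like subgroups `A k` containing all `z l`, the conjugates of the `z`'s
under generators of `Y` lie in some `A l`, and `Y` is the normal closure of the `A k`, then all `C_R(z k)` are
centralised by `Y`. -/
theorem cen_F [Finite G] {ι κ : Type*} {R Y : Subgroup G} {P : ι → Subgroup G} {z : κ → G} {A : κ → Subgroup G}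
    (hYR : Inv Y R) (hY : Y = ⨆ i, P i) (hAY : ∀ k, A k ≤ Y)
    (hFA : ∀ k, ∀ x ∈ R, x * z k = z k * x → ∀ a ∈ A k, x * a = a * x)
    (hz : ∀ k l, z l ∈ A k) (hP : ∀ i, ∀ y ∈ P i, ∃ k l, y * z k * y⁻¹ ∈ A l)
    (hcl : ∀ N ≤ Y, Inv Y N → (∀ k, A k ≤ N) → N = Y) :
    ∀ k, ∀ x ∈ R, x * z k = z k * x → ∀ y ∈ Y, x * y = y * x := by
  intro k
  set F := R ⊓ centralizer {z k} with hFdef
  -- all `C_R(z l)` are equal
  have hcomm : ∀ k l, ∀ x ∈ R, x * z k = z k * x → x * z l = z l * x := fun k l x hx h =>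
    hFA k x hx h _ (hz k l)
  have hFA' : ∀ x ∈ F, ∀ l, ∀ a ∈ A l, x * a = a * x := by
    rintro x ⟨hx, hc⟩ l a ha
    exact hFA l x hx (hcomm k l x hx (mem_centralizer_singleton_iff.1 hc)) a ha
  -- `F` is `Y`-invariant
  have hYN : Y ≤ normalizer (F : Set G) := by
    rw [hY]
    refine iSup_le fun i y hy => ?_
    have hyY : y ∈ Y := by rw [hY]; exact mem_iSup_of_mem i hy
    obtain ⟨a, l, hal⟩ := hP i y hy
    have h1 : F ≤ F.map (MulAut.conj y).toMonoidHom := by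
      intro x hx
      refine ⟨y⁻¹ * x * y, ?_, by
        show y * (y⁻¹ * x * y) * y⁻¹ = x
        group⟩
      have hR : y⁻¹ * x * y ∈ R := by
        have := hYR y⁻¹ (inv_mem hyY) x hx.1
        rwa [inv_inv] at this
      refine ⟨hR, mem_centralizer_singleton_iff.2 (hcomm a k _ hR ?_)⟩
      have h2 := hFA' x hx l _ hal
      calc y⁻¹ * x * y * z a = y⁻¹ * (x * (y * z a * y⁻¹)) * y := by group
        _ = y⁻¹ * (y * z a * y⁻¹ * x) * y := by rw [h2]
        _ = z a * (y⁻¹ * x * y) := by group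
    have h2 : F = F.map (MulAut.conj y).toMonoidHom :=
      eq_of_le_of_card_ge h1
        (Nat.card_congr (F.equivMapOfInjective _ (MulAut.conj y).injective).toEquiv.symm).le
    rw [mem_normalizer_iff]
    intro x
    constructor
    · intro hx
      rw [h2]
      exact ⟨x, hx, rfl⟩
    · intro hx
      rw [h2] at hx
      obtain ⟨x', hx', e⟩ := hx
      have e' : y * x' * y⁻¹ = y * x * y⁻¹ := e
      have : x' = x := by simpa using e'
      rwa [← this]
  have hC : Y ⊓ centralizer (F : Set G) = Y := by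
    refine hcl _ inf_le_left ?_ fun l => le_inf (hAY l) fun a ha => mem_centralizer_iff.2 fun x hx =>
      hFA' x hx l a ha
    intro y hy c hcc
    have hc : c ∈ Y := (mem_inf.1 hcc).1
    have hcF := (mem_inf.1 hcc).2
    refine mem_inf.2 ⟨Y.mul_mem (Y.mul_mem hy hc) (Y.inv_mem hy), mem_centralizer_iff.2 fun x hx => ?_⟩
    have h1 : y⁻¹ * x * y ∈ F := by
      have := (mem_normalizer_iff.1 (hYN (inv_mem hy)) x).1 hx
      rwa [inv_inv] at this
    have h2 := mem_centralizer_iff.1 hcF _ h1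
    calc x * (y * c * y⁻¹) = y * ((y⁻¹ * x * y) * c) * y⁻¹ := by group
      _ = y * (c * (y⁻¹ * x * y)) * y⁻¹ := by rw [h2]
      _ = y * c * y⁻¹ * x := by group
  intro x hx hxz y hy
  rw [← hC] at hy
  exact mem_centralizer_iff.1 hy.2 x ⟨hx, mem_centralizer_singleton_iff.2 hxz⟩

/-! ### (1), and the theorem -/

/-- The situation. `T` = the centraliser of the field involution, `R = O₂(T)`. -/
structure Hyp {ι κ : Type*} (T R U : Subgroup G) (P : ι → Subgroup G) (Q : κ → Subgroup G) (z : κ → G) : Prop where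
  two : IsPGroup 2 R
  inv : Inv T R
  R_le : R ≤ T
  char2 : T ⊓ centralizer (R : Set G) ≤ R
  U_two : IsPGroup 2 U
  U_le : ∀ i, U ≤ P i
  P_le : ∀ i, P i ≤ T
  syl : ∀ i, ¬ 2 ∣ U.relIndex (P i)
  core : ∀ N ≤ U, (∀ i, Inv (P i) N) → N = ⊥
  Q_U : ∀ k, Q k ⊓ T ≤ U
  z_T : ∀ k, z k ∈ T
  z_Q : ∀ k l, z l ∈ Q k
  cz : ∀ k, centralizer {z k} ≤ normalizer (Q k : Set G)
  conj : ∀ i, ∀ y ∈ P i, ∃ k l, y * z k * y⁻¹ ∈ Q l
  clo : ∀ N ≤ ⨆ i, P i, Inv (⨆ i, P i) N → (∀ k, Q k ⊓ T ≤ N) → N = ⨆ i, P i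

namespace Hyp

variable {ι κ : Type*} {T R U : Subgroup G} {P : ι → Subgroup G} {Q : κ → Subgroup G} {z : κ → G}
  (H : Hyp T R U P Q z)
include H

theorem Y_le : ⨆ i, P i ≤ T := iSup_le H.P_le

/-- **(1)** `R ∩ U = 1` -/
theorem inf_eq [Finite G] [Nonempty ι] : R ⊓ U = ⊥ := by
  refine H.core _ inf_le_right fun i y hy x hx => ?_
  have hyT := H.P_le i hy
  refine ⟨H.inv y hyT x hx.1, ?_⟩
  -- `R ∩ P i` is a normal 2-subgroup of `P i`, `U` is Sylow in `P i`
  let N : Subgroup (P i) := R.subgroupOf (P i)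
  have hN : N.Normal := ⟨fun n hn g => H.inv g (H.P_le i g.2) n hn⟩
  have : Fact (Nat.Prime 2) := ⟨Nat.prime_two⟩
  have hN2 : IsPGroup 2 N := IsPGroup.comap_subtype (K := P i) H.two
  have hU2 : IsPGroup 2 (U.subgroupOf (P i)) := IsPGroup.comap_subtype (K := P i) H.U_two
  obtain ⟨S, hS⟩ := hU2.exists_le_sylow
  have hUS : U.subgroupOf (P i) = S := by
    refine eq_of_le_of_card_ge hS ?_
    have h1 : (U.subgroupOf (P i)).relIndex S = 1 := by
      have h2 := relIndex_mul_index hS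
      have h3 : (U.subgroupOf (P i)).relIndex S ∣ (U.subgroupOf (P i)).index := ⟨_, h2.symm⟩
      obtain ⟨n, hn⟩ := S.2.index ((U.subgroupOf (P i)).subgroupOf S)
      have h4 : (U.subgroupOf (P i)).relIndex S = 2 ^ n := hn
      rcases Nat.eq_zero_or_pos n with rfl | hpos
      · rw [h4, pow_zero]
      · exfalso
        apply H.syl i
        have h5 : 2 ∣ (U.subgroupOf (P i)).relIndex S := by
          rw [h4]; exact dvd_pow_self 2 hpos.ne'
        exact h5.trans h3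
    rw [relIndex_eq_one] at h1
    exact Subgroup.card_le_of_le h1
  have hNS : N ≤ (S : Subgroup (P i)) := IsPGroup.le_sylow_of_normal hN2 S
  have hyx : (⟨y * x * y⁻¹, mul_mem (mul_mem hy (H.U_le i hx.2)) (inv_mem hy)⟩ : P i) ∈ N :=
    H.inv y hyT x hx.1
  have := hNS hyx
  rw [← hUS] at this
  exact this

/-- **(2)** `C_R(z k)` is centralised by `⟨P i⟩` -/
theorem cen_z [Finite G] [Nonempty ι] (k : κ) {x : G} (hx : x ∈ R) (hxz : x * z k = z k * x) {y : G}
    (hy : y ∈ ⨆ i, P i) : x * y = y * x := by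
  have hY := H.Y_le
  refine cen_F (P := P) (A := fun k => Q k ⊓ T) (fun y hy x hx => H.inv y (hY hy) x hx) rfl ?_ ?_ ?_ ?_ ?_ k x hx
    hxz y hy
  · intro k
    obtain ⟨i⟩ := (inferInstance : Nonempty ι)
    exact (H.Q_U k).trans ((H.U_le i).trans (le_iSup P i))
  · intro k x hx hxz a ha
    have haQ := (mem_inf.1 ha).1
    have haT := (mem_inf.1 ha).2
    have hxN := H.cz k (mem_centralizer_singleton_iff.2 hxz)
    have h1 : x * a * x⁻¹ * a⁻¹ ∈ R ⊓ U := by
      have h2 : x * a * x⁻¹ * a⁻¹ ∈ R := by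
        have e : x * a * x⁻¹ * a⁻¹ = x * (a * x⁻¹ * a⁻¹) := by group
        rw [e]
        exact R.mul_mem hx (H.inv a haT _ (R.inv_mem hx))
      refine mem_inf.2 ⟨h2, H.Q_U k (mem_inf.2 ⟨?_, H.R_le h2⟩)⟩
      exact (Q k).mul_mem ((mem_normalizer_iff.1 hxN a).1 haQ) ((Q k).inv_mem haQ)
    rw [H.inf_eq, mem_bot] at h1
    exact mul_inv_eq_iff_eq_mul.1 (mul_inv_eq_one.1 h1)
  · exact fun k l => mem_inf.2 ⟨H.z_Q k l, H.z_T l⟩
  · intro i y hy
    obtain ⟨k, l, h⟩ := H.conj i y hy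
    have hyT := H.P_le i hy
    exact ⟨k, l, mem_inf.2 ⟨h, T.mul_mem (T.mul_mem hyT (H.z_T k)) (T.inv_mem hyT)⟩⟩
  · exact H.clo

/-- `E(⟨P i⟩)` does not centralise `R` if some `P i` has an element of odd order. -/
theorem false_of_cen {i : ι} {e : G} (he : e ∈ P i) (ho : Odd (orderOf e)) (h1 : e ≠ 1)
    (hc : EE (⨆ i, P i) ≤ centralizer (R : Set G)) : False := by
  have heR : e ∈ R := H.char2 (mem_inf.2 ⟨H.P_le i he, hc (mem_EE (mem_iSup_of_mem i he) ho)⟩)
  obtain ⟨n, hn⟩ := H.two ⟨e, heR⟩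
  have h2 : e ^ 2 ^ n = 1 := by simpa using congrArg Subtype.val hn
  have h3 : orderOf e ∣ 2 ^ n := orderOf_dvd_of_pow_eq_one h2
  have h4 : Nat.Coprime (orderOf e) (2 ^ n) := Nat.Coprime.pow_right _ (Nat.coprime_two_right.2 ho)
  exact h1 (orderOf_eq_one_iff.1 (Nat.eq_one_of_dvd_coprimes h4 dvd_rfl h3))

theorem U_le_Y [Nonempty ι] : U ≤ ⨆ i, P i := by
  obtain ⟨i⟩ := (inferInstance : Nonempty ι)
  exact (H.U_le i).trans (le_iSup P i)

/-- **FIELD KILL, first form**: some `z k` is in `[U, U]`. -/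
theorem false_of_comm [Finite G] {k : κ} (hk : z k ∈ ⁅U, U⁆) {i : ι} {e : G} (he : e ∈ P i)
    (ho : Odd (orderOf e)) (h1 : e ≠ 1) : False := by
  have : Nonempty ι := ⟨i⟩
  exact H.false_of_cen he ho h1 (cen_of_mem_comm H.two (fun y hy x hx => H.inv y (H.Y_le hy) x hx) H.U_two
    H.U_le_Y hk fun x hx hxz y hy => H.cen_z k hx hxz hy)

/-- **FIELD KILL, second form** (`Sp₄(4)`): `P i` is generated by `U` and elements of odd order and centralises
one of the `z k`, `z k ∈ U`. -/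
theorem false_of_pair [Finite G] (hP : ∀ i, P i ≤ U ⊔ EE (P i)) (hz : ∀ i, ∃ k, z k ∈ U ∧ P i ≤ centralizer {z k})
    {i : ι} {e : G} (he : e ∈ P i) (ho : Odd (orderOf e)) (h1 : e ≠ 1) : False := by
  have : Nonempty ι := ⟨i⟩
  choose k hkU hk using hz
  exact H.false_of_cen he ho h1 (cen_of_pair (z := fun i => z (k i)) H.two
    (fun y hy x hx => H.inv y (H.Y_le hy) x hx) H.U_two hP rfl H.U_le_Y hkU hk
    fun i x hx hxz y hy => H.cen_z (k i) hx hxz hy)

end Hyp

end Cfsg.Agent.Omega.FieldKill
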