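import Cfsg.Agent.Omega.FieldKill
import Cfsg.Agent.Omega.GTwoFour.Cor

/-!
# FIELD KILL over a group of characteristic 2 type
-/

set_option autoImplicit false

namespace Cfsg.Agent.Omega.FieldKill

open Subgroup Cfsg
open scoped commutatorElement

universe u v w

variable {G : Type u} [Group G]

/-- The datum: `t` an involution, `P i ≤ C(t)` over `U`, `z k ∈ C(t)` with `C_G(z k) ≤ N_G(Q k)`,
`C_{Q k}(t) ≤ U`. -/
structure Dat {ι : Type v} {κ : Type w} (t : G) (U : Subgroup G) (P : ι → Subgroup G) (Q : κ → Subgroup G)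
    (z : κ → G) : Prop where
  tt : t * t = 1
  t1 : t ≠ 1
  U_two : IsPGroup 2 U
  U_le : ∀ i, U ≤ P i
  P_t : ∀ i, ∀ y ∈ P i, y * t = t * y
  syl : ∀ i, ¬ 2 ∣ U.relIndex (P i)
  core : ∀ N ≤ U, (∀ i, Inv (P i) N) → N = ⊥
  Q_U : ∀ k, ∀ x ∈ Q k, x * t = t * x → x ∈ U
  z_t : ∀ k, z k * t = t * z k
  z_Q : ∀ k l, z l ∈ Q k
  cz : ∀ k, centralizer {z k} ≤ normalizer (Q k : Set G)
  conj : ∀ i, ∀ y ∈ P i, ∃ k l, y * z k * y⁻¹ ∈ Q l
  clo : ∀ i, ∀ N ≤ ⨆ i, P i, Inv (P i) N → (∀ k, ∀ x ∈ Q k, x * t = t * x → x ∈ N) → P i ≤ N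

namespace Dat

variable {ι : Type v} {κ : Type w} {t : G} {U : Subgroup G} {P : ι → Subgroup G} {Q : κ → Subgroup G}
  {z : κ → G} (D : Dat t U P Q z) (hG : IsCharacteristicTwoType G)
include D hG

theorem toHyp : Hyp (centralizer {t}) (GTwoFour.Cor.R t) U P Q z where
  two := GTwoFour.Cor.R_two t
  inv := fun g hg x hx => GTwoFour.Cor.R_norm (mem_centralizer_singleton_iff.1 hg) hx
  R_le := fun x hx => mem_centralizer_singleton_iff.2 (GTwoFour.Cor.R_cen hx)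
  char2 := fun g hg => GTwoFour.Cor.R_self hG D.tt D.t1 (mem_centralizer_singleton_iff.1 (mem_inf.1 hg).1)
    fun r hr => (mem_centralizer_iff.1 (mem_inf.1 hg).2 r hr).symm
  U_two := D.U_two
  U_le := D.U_le
  P_le := fun i y hy => mem_centralizer_singleton_iff.2 (D.P_t i y hy)
  syl := D.syl
  core := D.core
  Q_U := fun k x hx => D.Q_U k x (mem_inf.1 hx).1 (mem_centralizer_singleton_iff.1 (mem_inf.1 hx).2)
  z_T := fun k => mem_centralizer_singleton_iff.2 (D.z_t k)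
  z_Q := D.z_Q
  cz := D.cz
  conj := D.conj
  clo := fun N hN hi hQ => le_antisymm hN (iSup_le fun i => D.clo i N hN
    (fun y hy x hx => hi y (mem_iSup_of_mem i hy) x hx)
    fun k x hx hxt => hQ k (mem_inf.2 ⟨hx, mem_centralizer_singleton_iff.2 hxt⟩))

/-- **FIELD KILL, first form** -/
theorem false_of_comm [Finite G] {k : κ} (hk : z k ∈ ⁅U, U⁆) {i : ι} {e : G} (he : e ∈ P i)
    (ho : Odd (orderOf e)) (h1 : e ≠ 1) : False :=
  (D.toHyp hG).false_of_comm hk he ho h1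

/-- **FIELD KILL, second form** -/
theorem false_of_pair [Finite G] (hP : ∀ i, P i ≤ U ⊔ EE (P i))
    (hz : ∀ i, ∃ k, z k ∈ U ∧ P i ≤ centralizer {z k}) {i : ι} {e : G} (he : e ∈ P i)
    (ho : Odd (orderOf e)) (h1 : e ≠ 1) : False :=
  (D.toHyp hG).false_of_pair hP hz he ho h1

end Dat

end Cfsg.Agent.Omega.FieldKill
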