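import Cfsg.Agent.Omega.FrameNOFF

/-!
# OMEGA: the cut by `V_P ≤ O₂(C_G(Z))` made before the cut FF / NOFF

* `Low S`: `V_P ≤ O₂(C_G(Z))` for all `P ∈ P*(S)`;
* `NodeN1`: not `Low S` (no hypothesis on mutual pairs);
* `NodeFFLow`, `NodeNO3S`, `NodeNO3L`: the remaining nodes, all with `Low S`;
* `evenHalfCut`: these and `NodeI` imply the even half (relative to a class `K`).
-/

set_option autoImplicit false

namespace Cfsg.Agent.Omega.FrameCut

open Subgroup Cfsg Cfsg.Agent.ZN Cfsg.Agent.Omega.MinPar Cfsg.Agent.Omega.Frame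
  Cfsg.Agent.Omega.FrameNOFF

universe u

/-- `V_P ≤ O₂(C_G(Z))` for all `P ∈ P*(S)`. -/
def Low {G : Type u} [Group G] (S : Subgroup G) : Prop :=
  ∀ P : Subgroup G, IsParS S P → zl S P ≤ o2 (CZ S)

section

variable (K : Cls.{u})

/-- **N1**: some `V_P` is not contained in `O₂(C_G(Z))`; mutual pairs are allowed. -/
def NodeN1 : Prop :=
  ∀ (G : Type u) [Group G] [Finite G], Ctx G → K G → ∀ (S : Sylow 2 G), Full (S : Subgroup G) →
    ∀ P : Subgroup G, IsParS (S : Subgroup G) P →
      ¬ zl (S : Subgroup G) P ≤ o2 (CZ (S : Subgroup G)) → IsKnownSimple' G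

/-- **II**: a mutual pair exists, and `V_P ≤ O₂(C_G(Z))` for all `P ∈ P*(S)`. -/
def NodeFFLow : Prop :=
  ∀ (G : Type u) [Group G] [Finite G], Ctx G → K G → ∀ (S : Sylow 2 G), Full (S : Subgroup G) →
    Low (S : Subgroup G) → FF (S : Subgroup G) → IsKnownSimple' G

variable {K}

/-- The even half, relative to a class, with the cut `Low` first. -/
theorem evenHalfCut (hB : Bender.{u}) (h1 : NodeIK K) (hN : NodeN1 K) (hF : NodeFFLow K)
    (hS : NodeNO3S K) (hL : NodeNO3L K) : EvenHalfK K := by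
  intro G _ _ _ hna hK hc hr hcl
  have hG : Ctx G := ⟨inferInstance, hna, hK, hc, hr⟩
  have S : Sylow 2 G := default
  by_cases hf : Full (S : Subgroup G)
  · by_cases hl : Low (S : Subgroup G)
    · by_cases hm : FF (S : Subgroup G)
      · exact hF G hG hcl S hf hl hm
      · by_cases hb : ∃ P : Subgroup G, IsParS (S : Subgroup G) P ∧ NonLoc P (CZ (S : Subgroup G))
        · exact hS G hG hcl S hf hm hl hb
        · push Not at hb
          exact hL G hG hcl S hf hm hl hb
    · unfold Low at hl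
      push Not at hl
      obtain ⟨P, hP, h⟩ := hl
      exact hN G hG hcl S hf P hP h
  · obtain ⟨H, hH⟩ := h1 G hG hcl S hf
    exact known_of_stronglyEmbedded hB hna hH

end

end Cfsg.Agent.Omega.FrameCut
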