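import Mathlib

/-!
# FreeFour (helper55)

A four-group acting on a 2-group `R` such that every nontrivial element has the same fixed subgroup of
order 2 forces `|R| = 2`.  Consequence for a group `H` with a central involution `f` and
`C_H(O_2(H)) ≤ O_2(H)`.
-/

set_option autoImplicit false

namespace Cfsg.Agent.Omega.FreeFour

variable {H : Type*} [Group H]

/-- `E` of order 4 acts on the normal 2-subgroup `R` with `C_R(e) = F` of order 2 for all `1 ≠ e ∈ E`:
then `|R| = 2`. -/
theorem card_eq_two [Finite H] (R E F : Subgroup H) [hR : R.Normal] (hR2 : IsPGroup 2 R)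
    (hF : Nat.card F = 2) (hFR : F ≤ R) (hE : Nat.card E = 4)
    (hfix : ∀ e ∈ E, e ≠ 1 → ∀ r ∈ R, e * r = r * e ↔ r ∈ F) : Nat.card R = 2 := by
  classical
  haveI : Fintype H := Fintype.ofFinite H
  let φ : E →* MulAut R := (MulAut.conjNormal : H →* MulAut R).comp E.subtype
  letI act : MulAction E R := MulAction.compHom R φ
  have hsm : ∀ (e : E) (r : R), ((e • r : R) : H) = (e : H) * r * (e : H)⁻¹ := by
    intro e r
    rfl
  haveI : Fintype (Quotient (MulAction.orbitRel E R)) := Fintype.ofFinite _
  haveI : ∀ a : E, Fintype (MulAction.fixedBy R a) := fun a => Fintype.ofFinite _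
  have hB := MulAction.sum_card_fixedBy_eq_card_orbits_mul_card_group E R
  -- fixed points
  have h1 : Fintype.card (MulAction.fixedBy R (1 : E)) = Nat.card R := by
    rw [← Nat.card_eq_fintype_card]
    have : MulAction.fixedBy R (1 : E) = Set.univ := by
      ext r; simp [MulAction.mem_fixedBy]
    rw [this]
    simp
  have h2 : ∀ e : E, e ≠ 1 → Fintype.card (MulAction.fixedBy R e) = 2 := by
    intro e he
    rw [← Nat.card_eq_fintype_card, ← hF]
    refine Nat.card_congr ⟨fun r => ⟨((r : R) : H), ?_⟩, fun x => ⟨⟨(x : H), hFR x.2⟩, ?_⟩, ?_, ?_⟩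
    · have hr := r.2
      rw [MulAction.mem_fixedBy] at hr
      have hr' := congrArg (fun t : R => (t : H)) hr
      simp only [hsm] at hr'
      have he1 : (e : H) ≠ 1 := fun h => he (Subtype.ext h)
      refine (hfix e e.2 he1 _ (r : R).2).1 ?_
      rw [mul_inv_eq_iff_eq_mul] at hr'
      exact hr'
    · rw [MulAction.mem_fixedBy]
      apply Subtype.ext
      rw [hsm]
      have he1 : (e : H) ≠ 1 := fun h => he (Subtype.ext h)
      have := (hfix e e.2 he1 (x : H) (hFR x.2)).2 x.2
      rw [mul_inv_eq_iff_eq_mul]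
      exact this
    · intro r; rfl
    · intro x; rfl
  have hsum : ∑ a : E, Fintype.card (MulAction.fixedBy R a) = Nat.card R + 6 := by
    rw [← Finset.add_sum_erase Finset.univ _ (Finset.mem_univ (1 : E)), h1]
    congr 1
    rw [Finset.sum_congr rfl (fun e he => h2 e (Finset.ne_of_mem_erase he))]
    rw [Finset.sum_const, Finset.card_erase_of_mem (Finset.mem_univ _), Finset.card_univ,
      ← Nat.card_eq_fintype_card, hE]
    rfl
  rw [hsum] at hB
  have hE' : Fintype.card E = 4 := by rw [← Nat.card_eq_fintype_card, hE]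
  rw [hE'] at hB
  obtain ⟨n, hn⟩ := (IsPGroup.iff_card.1 hR2)
  rw [hn] at hB ⊢
  rcases n with _ | _ | n
  · simp at hB; omega
  · rfl
  · exfalso
    have : 2 ^ (n + 1 + 1) = 4 * 2 ^ n := by ring
    omega

/-- `H` with a central involution `f`, `C_H(R) ≤ R` for a normal 2-subgroup `R`, has no subgroup `E` of order
4 with `C_R(e) = ⟨f⟩` for all `1 ≠ e ∈ E`. -/
theorem false_of_free [Finite H] (R E : Subgroup H) [hR : R.Normal] (hR2 : IsPGroup 2 R)
    (hc : Subgroup.centralizer (R : Set H) ≤ R) (f : H) (hf : orderOf f = 2)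
    (hfc : ∀ x : H, x * f = f * x) (hE : Nat.card E = 4)
    (hfix : ∀ e ∈ E, e ≠ 1 → ∀ r ∈ R, e * r = r * e → r = 1 ∨ r = f) : False := by
  classical
  have hfR : f ∈ R := hc (by
    rw [Subgroup.mem_centralizer_iff]
    intro x _
    exact hfc x)
  have hF : Nat.card (Subgroup.zpowers f) = 2 := by rw [Nat.card_zpowers, hf]
  have hff : f * f = 1 := by
    have := pow_orderOf_eq_one f
    rwa [hf, pow_two] at this
  have hmem : ∀ r : H, r ∈ Subgroup.zpowers f ↔ r = 1 ∨ r = f := by
    intro r
    constructor
    · intro h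
      obtain ⟨k, rfl⟩ := Subgroup.mem_zpowers_iff.1 h
      rcases Int.even_or_odd k with hk | hk
      · left
        obtain ⟨m, rfl⟩ := hk
        rw [zpow_add, ← mul_zpow_self_aux hff m]
      · right
        obtain ⟨m, rfl⟩ := hk
        rw [zpow_add, zpow_one, two_mul, zpow_add, ← mul_zpow_self_aux hff m, one_mul]
    · rintro (rfl | rfl)
      · exact one_mem _
      · exact Subgroup.mem_zpowers _
  have hcard := card_eq_two R E (Subgroup.zpowers f) hR2 hF
    (by rw [Subgroup.zpowers_le]; exact hfR) hE (by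
      intro e he he1 r hr
      constructor
      · intro h
        exact (hmem r).2 (hfix e he he1 r hr h)
      · intro h
        rcases (hmem r).1 h with rfl | rfl
        · simp
        · exact hfc e)
  have hRF : R = Subgroup.zpowers f := by
    symm
    apply Subgroup.eq_of_le_of_card_ge
    · rw [Subgroup.zpowers_le]; exact hfR
    · rw [hcard, hF]
  have htop : (⊤ : Subgroup H) ≤ R := by
    refine le_trans ?_ hc
    intro x _
    rw [Subgroup.mem_centralizer_iff]
    intro y hy
    rw [hRF] at hy
    rcases (hmem y).1 hy with rfl | rfl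
    · simp
    · exact (hfc x).symm
  have : Nat.card E ≤ Nat.card R := Nat.card_le_card_of_injective
    (Subgroup.inclusion (le_trans le_top htop : E ≤ R)) (Subgroup.inclusion_injective _)
  omega
where
  mul_zpow_self_aux {f : H} (hff : f * f = 1) (m : ℤ) : (1 : H) = f ^ m * f ^ m := by
    rw [← (Commute.refl f).mul_zpow, hff, one_zpow]

end Cfsg.Agent.Omega.FreeFour
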