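import Cfsg.Agent.Omega.KFactsZSLie
import Cfsg.Agent.Omega.Lie.Cen.Sheets
import Cfsg.Agent.Omega.Lie.Cen.Tits
import Cfsg.Agent.Omega.Lie.Cen.M12
import Cfsg.Agent.Omega.Lie.Cen.M22
import Cfsg.Agent.Omega.Lie.Cen.M24
import Cfsg.Agent.Omega.Lie.Cen.J2
import Cfsg.Agent.Omega.Lie.Cen.J3
import Cfsg.Agent.Omega.Lie.Cen.CoOne
import Cfsg.Agent.Omega.Lie.Cen.Co3
import Cfsg.Agent.Omega.Lie.Cen.McL
import Cfsg.Agent.Omega.Lie.Cen.HS
import Cfsg.Agent.Omega.Lie.Cen.Suz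
import Cfsg.Agent.Omega.Lie.Cen.He
import Cfsg.Agent.Omega.Lie.Cen.Ly
import Cfsg.Agent.Omega.Lie.Cen.Fi22
import Cfsg.Agent.Omega.Lie.Cen.Fi23
import Cfsg.Agent.Omega.Lie.Cen.B

/-!
# `(ZS)`: all the rows (collected by helper844)

`rowsZS : RowsZS` (without hypotheses), `zs_known`: a finite known simple group, not of prime order, is of Lie type in
characteristic 2, or has `NoCenMove`, or is `L₂(r)` (`r ≡ 3, 5 mod 8`, `r ≥ 11`), `J₁` or `²G₂(r)`; `zs_cover`: the same for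
components.

Rows: `psl` helper584, `psp` helper155, `psu` helper138, `om*` helper676, `chev` `twisted` helper679, `tits` helper74,
`m12 m22 m23 m24 j2 j3 co3 mcl hs he ly` helper484, `suz` helper415, `co1` helper856, `fi22 fi23 b` helper918, the others
from the sheets of the ODD half (helper844).
-/

set_option autoImplicit false

namespace Cfsg.Agent.Omega.KFacts

open Subgroup Cfsg Cfsg.Agent.Omega.Lie.CenTwo

universe u

/-- **The rows of `(ZS)`.** -/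
theorem rowsZS : RowsZS.{u} where
  psl := zs_psl
  psp := zs_psp
  psu := zs_psu
  omOdd := zs_omOdd
  omPlus := zs_omPlus
  omMinus := zs_omMinus
  chev := zs_chev
  twisted := zs_twisted
  tits := fun _ _ _ h => Lie.Cen.tits h
  m11 := fun _ _ _ h => Lie.Cen.Sheets.m11 h
  m12 := fun _ _ _ h => Lie.Cen.m12 h
  m22 := fun _ _ _ h => Lie.Cen.m22 h
  m23 := fun _ _ _ h => Lie.Cen.m23 h
  m24 := fun _ _ _ h => Lie.Cen.m24 h
  j2 := fun _ _ _ h => Lie.Cen.j2 h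
  j3 := fun _ _ _ h => Lie.Cen.j3 h
  j4 := fun _ _ _ h => Lie.Cen.Sheets.j4 h
  co1 := fun _ _ _ h => Lie.Cen.co1 h
  co2 := fun _ _ _ h => Lie.Cen.Sheets.co2 h
  co3 := fun _ _ _ h => Lie.Cen.co3 h
  mcl := fun _ _ _ h => Lie.Cen.mcL h
  hs := fun _ _ _ h => Lie.Cen.hs h
  suz := fun _ _ _ h => Lie.Cen.suz h
  he := fun _ _ _ h => Lie.Cen.he h
  ru := fun _ _ _ h => Lie.Cen.Sheets.ru h
  on := fun _ _ _ h => Lie.Cen.Sheets.on h
  ly := fun _ _ _ h => Lie.Cen.ly h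
  fi22 := fun _ _ _ h => Lie.Cen.fi22 h
  fi23 := fun _ _ _ h => Lie.Cen.fi23 h
  fi24 := fun _ _ _ h => Lie.Cen.Sheets.fi24 h
  hn := fun _ _ _ h => Lie.Cen.Sheets.hn h
  th := fun _ _ _ h => Lie.Cen.Sheets.th h
  b := fun _ _ _ h => Lie.Cen.b h
  m := fun _ _ _ h => Lie.Cen.Sheets.m h

/-- **(ZS)** for the known simple groups. -/
theorem zs_known {K : Type u} [Group K] [Finite K] (h : IsKnownSimple' K) (hc : ¬ IsPrimeCyclic K) :
    IsLieTypeChar 2 K ∨ NoCenMove K ∨ OutZS K := rowsZS.main h hc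

/-- **(ZS)** for components. -/
theorem zs_cover {L : Type u} [Group L] [Finite L] (hodd : Odd (Nat.card (center L)))
    (h : IsKnownSimple' (L ⧸ center L)) (hc : ¬ IsPrimeCyclic (L ⧸ center L)) :
    IsLieTypeChar 2 (L ⧸ center L) ∨ NoCenMove L ∨ OutZS (L ⧸ center L) := rowsZS.cover hodd h hc

end Cfsg.Agent.Omega.KFacts
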