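import Cfsg.Agent.Omega.KFactsZS
import Cfsg.Agent.Omega.Lie.CenLinRow

/-!
# The field `psl` of `RowsZS` (helper584)
-/

set_option autoImplicit false

namespace Cfsg.Agent.Omega.KFacts

open Cfsg Cfsg.Agent.Omega.Lie.CenTwo

universe u

/-- the row `PSL_n(r)`, `r` odd, of `(ZS)` -/
theorem zs_psl : ZSRow.{u} fun K _ => OddChar @IsPSLChar K ∧ ¬ IsLieTypeChar 2 K ∧ ¬ IsLTwoFour K := by
  intro K _ h
  obtain ⟨⟨p, hp, hp2, hK⟩, h2, h4⟩ := h
  rcases Cfsg.Agent.Omega.Lie.CenLinRow.row hp hp2 hK with h | ⟨F, _, _, hF4, hF8, ⟨e⟩⟩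
  · exact h
  · rcases of_lTwo hF4 hF8 e with h | h
    · exact absurd h h2
    · exact absurd h h4

end Cfsg.Agent.Omega.KFacts
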