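import Cfsg.Agent.Omega.KFactsZS
import Cfsg.Agent.Omega.Lie.CenUniRow

/-!
# The field `psu` of `RowsZS` (helper138)
-/

set_option autoImplicit false

namespace Cfsg.Agent.Omega.KFacts

open Cfsg Cfsg.Agent.Omega.Lie.CenTwo

universe u

/-- the row `PSU_n(r)`, `r` odd, of `(ZS)` -/
theorem zs_psu : ZSRow.{u} fun K _ => OddChar @IsPSUChar K ∧ ¬ IsLieTypeChar 2 K := by
  intro K _ h
  obtain ⟨⟨p, hp, hp2, hK⟩, -⟩ := h
  exact Cfsg.Agent.Omega.Lie.CenUniRow.row hp hp2 hK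

end Cfsg.Agent.Omega.KFacts
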