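import Cfsg.Agent.Omega.KFactsPsl
import Cfsg.Agent.Omega.KFactsPsu
import Cfsg.Agent.Omega.Lie.CenSympRow
import Cfsg.Agent.Omega.Lie.CenOrth
import Cfsg.Agent.Omega.Lie.CenTwist

/-!
# The rows of `(ZS)` of Lie type in odd characteristic (collected by helper844)

`psl` helper584, `psp` helper155, `psu` helper138, `omOdd`, `omPlus`, `omMinus` helper676, `chev`, `twisted` helper679.
-/

set_option autoImplicit false

namespace Cfsg.Agent.Omega.KFacts

open Cfsg Cfsg.Agent.Omega.Lie.CenTwo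

universe u

theorem zs_psp : ZSRow.{u} fun K _ => OddChar @IsPSpChar K ∧ ¬ IsLieTypeChar 2 K :=
  fun K _ h => Cfsg.Agent.Omega.Lie.CenSympRow.row K h

theorem zs_omOdd : ZSRow.{u} fun K _ => OddChar @IsPOmegaOddChar K := by
  intro K _ h
  obtain ⟨p, -, -, hK⟩ := h
  exact Cfsg.Agent.Omega.Lie.CenOrth.of_isPOmegaOddChar hK

theorem zs_omPlus : ZSRow.{u} fun K _ => OddChar @IsPOmegaPlusChar K := by
  intro K _ h
  obtain ⟨p, -, hp2, hK⟩ := h
  exact Cfsg.Agent.Omega.Lie.CenOrth.of_isPOmegaPlusChar hp2 hK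

theorem zs_omMinus : ZSRow.{u} fun K _ => OddChar @IsPOmegaMinusChar K := by
  intro K _ h
  obtain ⟨p, -, hp2, hK⟩ := h
  exact Cfsg.Agent.Omega.Lie.CenOrth.of_isPOmegaMinusChar hp2 hK

theorem zs_chev : ZSRow.{u} fun K _ => OddChar @IsExceptionalChevChar K ∧ ¬ IsLieTypeChar 2 K := by
  intro K _ h
  obtain ⟨⟨p, hp, hp2, hK⟩, -⟩ := h
  have : Fact p.Prime := ⟨hp⟩
  exact Cfsg.Agent.Omega.Lie.CenTwist.noCenMove_exc hp2 hK

theorem zs_twisted : ZSRow.{u} fun K _ => OddChar @IsTwistedE6D4Char K := by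
  intro K _ h
  obtain ⟨p, hp, hp2, hK⟩ := h
  have : Fact p.Prime := ⟨hp⟩
  exact Cfsg.Agent.Omega.Lie.CenTwist.noCenMove_twisted hp2 hK

end Cfsg.Agent.Omega.KFacts
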