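import Cfsg.Agent.Omega.Assembly
import Cfsg.Agent.GH.Defs
import Cfsg.Agent.GH.AltOut

/-!
# OMEGA (EH8): `RankFour` from the list `K4`

`known_of_k4`: a simple group in the list `GH.Defs.K4` is known (`HasAltCover` by S1738: `McL` or `Ly`).
`rankFour`: `Omega.Assembly.RankFour` from `PK4` (= `GH.FinalInputs.k4`) and S1738.
`classification_of`: S0000 from `EvenHalf`, S1765, `PK4` and S1738.
-/

set_option autoImplicit false
set_option linter.style.haveILetI false

namespace Cfsg.Agent.Omega.RankFourOf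

open Cfsg Subgroup
open Cfsg.Agent.GH.Defs
open Cfsg.Agent.Omega

universe u

/-- Simple groups of sectional 2-rank at most 4: `GH.FinalInputs.k4`. -/
def PK4 : Prop :=
  ∀ (G : Type u) [Group G] [Finite G] [IsSimpleGroup G], ¬ IsMulCommutative G →
    SectionalPRankLE 2 4 G → K4 G

section lists

variable {X : Type u} [Group X]

theorem of_exc (h : IsExceptionalLieType X) : IsKnownSimple' X :=
  Or.inr (Or.inr (Or.inr (Or.inr (Or.inr (Or.inr (Or.inr (Or.inr (Or.inl h))))))))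

theorem of_spor (h : IsSporadicGroup X) : IsKnownSimple' X :=
  Or.inr (Or.inr (Or.inr (Or.inr (Or.inr (Or.inr (Or.inr (Or.inr (Or.inr h))))))))

theorem of_psl (h : IsPSL X) : IsKnownSimple' X := Or.inr (Or.inr (Or.inl h))

theorem of_psu (h : IsPSU X) : IsKnownSimple' X := Or.inr (Or.inr (Or.inr (Or.inr (Or.inl h))))

theorem of_alt {n : ℕ} (hn : 5 ≤ n) (h : Nonempty (X ≃* alternatingGroup (Fin n))) : IsKnownSimple' X :=
  Or.inr (Or.inl ⟨n, hn, h⟩)

theorem three_le {F : Type} [Field F] [Fintype F] (h : Odd (Fintype.card F)) : 3 ≤ Fintype.card F := by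
  have h1 : 1 < Fintype.card F := Fintype.one_lt_card
  obtain ⟨k, hk⟩ := h
  omega

theorem of_K2 (h : K2 X) : IsKnownSimple' X := by
  rcases h with ⟨F, i, j, h1, h2, f⟩ | ⟨F, i, j, h1, f⟩ | ⟨F, i, j, q, h1, h2, f⟩ | ⟨F, i, j, h1, f⟩ | h | h
  · exact of_psl ⟨F, i, j, 2, le_rfl, fun _ => by omega, f⟩
  · exact of_psl ⟨F, i, j, 3, by norm_num, fun h => by omega, f⟩
  · refine of_psu ⟨F, i, j, 3, q, h1, le_rfl, fun h => ?_, f⟩
    obtain ⟨k, hk⟩ := h2
    omega
  · exact of_psu ⟨F, i, j, 3, 4, by rw [h1]; norm_num, le_rfl, fun h => by omega, f⟩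
  · exact of_alt (by norm_num) h
  · exact of_spor (Or.inl h)

theorem of_K3 (h : K3 X) : IsKnownSimple' X := by
  rcases h with ⟨F, i, j, h1, f⟩ | ⟨F, i, j, h1, f⟩ | h | h
  · exact of_psl ⟨F, i, j, 2, le_rfl, fun _ => by omega, f⟩
  · refine of_exc (Or.inr (Or.inr (Or.inr (Or.inr (Or.inr (Or.inr (Or.inr (Or.inl
      ⟨F, i, j, 1, le_rfl, by rw [h1]; norm_num, ?_⟩))))))))
    have h2 : (2 : ℕ) ^ (1 + 1) = 4 := by norm_num
    rw [h2]
    exact f
  · exact of_exc (Or.inr (Or.inr (Or.inr (Or.inr (Or.inr (Or.inr (Or.inr (Or.inr (Or.inl h)))))))))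
  · exact of_spor (Or.inr (Or.inr (Or.inr (Or.inr (Or.inr (Or.inl h))))))

theorem of_K4 (hA : HasAltCover X → Spor.IsoMcL X ∨ Spor.IsoLy X) (h : K4 X) : IsKnownSimple' X := by
  rcases h with h | h | ⟨F, i, j, h1, f⟩ | ⟨F, i, j, h1, f⟩ | ⟨n, h1, h2, h⟩ | ⟨F, i, j, h1, f⟩ |
    ⟨F, i, j, h1, h2, f⟩ | ⟨F, i, j, q, h1, h2, h3, f⟩ | ⟨F, i, j, h1, f⟩ | ⟨F, i, j, q, h1, h2, f⟩ |
    ⟨⟨F, i, j, h1, f⟩, -⟩ | ⟨⟨K, i, j, q, h1, h2, f⟩, -⟩ | h | h | h | h | h | h
  · exact of_K2 h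
  · exact of_K3 h
  · exact of_psl ⟨F, i, j, 2, le_rfl, fun _ => by omega, f⟩
  · exact of_psl ⟨F, i, j, 3, by norm_num, fun h => by omega, f⟩
  · exact of_alt (by omega) h
  · exact Or.inr (Or.inr (Or.inr (Or.inl ⟨F, i, j, 2, le_rfl, fun _ => three_le h1, f⟩)))
  · exact of_psl ⟨F, i, j, 4, by norm_num, fun h => by omega, f⟩
  · exact of_psu ⟨F, i, j, 4, q, h1, by norm_num, fun h => by omega, f⟩
  · exact of_psl ⟨F, i, j, 5, by norm_num, fun h => by omega, f⟩
  · exact of_psu ⟨F, i, j, 5, q, h1, by norm_num, fun h => by omega, f⟩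
  · exact of_exc (Or.inl ⟨F, i, j, three_le h1, f⟩)
  · refine of_exc (Or.inr (Or.inr (Or.inr (Or.inr (Or.inr (Or.inr (Or.inl
      ⟨K, i, j, q, ?_, h2, f⟩)))))))
    have h3 : IsPrimePow (q ^ 3) := by
      rw [← h2]
      exact FiniteField.isPrimePow_card K
    exact (isPrimePow_pow_iff (by norm_num)).1 h3
  · exact of_spor (Or.inr (Or.inl h))
  · exact of_spor (Or.inr (Or.inr (Or.inl h)))
  · exact of_spor (Or.inr (Or.inr (Or.inr (Or.inl h))))
  · exact of_spor (Or.inr (Or.inr (Or.inr (Or.inr (Or.inr (Or.inr (Or.inl h)))))))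
  · exact of_spor (Or.inr (Or.inr (Or.inr (Or.inr (Or.inr (Or.inr (Or.inr (Or.inl h))))))))
  · have key : ∀ h : Spor.IsoMcL X ∨ Spor.IsoLy X, IsSporadicGroup X := by
      rintro (h | h)
      · unfold IsSporadicGroup
        tauto
      · unfold IsSporadicGroup
        tauto
    exact of_spor (key (hA h))

end lists

/-- A simple group in the list `K4` is known. -/
theorem known_of_k4 {G : Type u} [Group G] [Finite G] [IsSimpleGroup G] (hna : ¬ IsMulCommutative G)
    (h1738 : GH.AltOut.St1738 G) (h : K4 G) : IsKnownSimple' G := by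
  refine of_K4 (fun hA => ?_) h
  rcases (inferInstance : (oddCore G).Normal).eq_bot_or_eq_top with h | h
  · exact GH.AltOut.mcl_or_ly hna h h1738 hA
  · exfalso
    obtain ⟨n, t, K, -, hc, -⟩ := hA
    have h1 := Lib.Cores.pPrimeCore_coprime (G := G) 2
    rw [show pPrimeCore 2 G = ⊤ from h, Subgroup.card_top] at h1
    have h2 : 2 ∣ Nat.card G := by
      rw [← hc.inv]
      exact orderOf_dvd_natCard t
    exact (Nat.Prime.coprime_iff_not_dvd Nat.prime_two).1 h1.symm h2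

/-- `RankFour` from the list `K4` and S1738. -/
theorem rankFour (k4 : PK4.{u}) (s1738 : ∀ (G : Type u) [Group G] [Finite G], GH.AltOut.St1738 G) :
    Assembly.RankFour.{u} := by
  intro G _ _ _ hna _ _ h4
  exact known_of_k4 hna (s1738 G) (k4 G hna h4)

/-- S0000 from `EvenHalf`, S1765, `PK4` and S1738. -/
theorem classification_of (hO : Assembly.OddLit.{u}) (hE : Assembly.EvenHalf.{u}) (k4 : PK4.{u})
    (s1738 : ∀ (G : Type u) [Group G] [Finite G], GH.AltOut.St1738 G)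
    (G : Type u) [Group G] [Finite G] [IsSimpleGroup G] : IsKnownSimple' G :=
  Assembly.classification (Assembly.oddKnown hO) (rankFour k4 s1738) hE G

end Cfsg.Agent.Omega.RankFourOf
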