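import Cfsg.Agent.Transfer.FusionBasic
import Cfsg.Agent.S0215

/-!
# LEMMA Z(AT)

`K` a finite group with no nontrivial normal subgroup of odd order, `S` a Sylow 2-subgroup of `K`,
`A` an elementary abelian 2-group and `T` a group of odd order, both normalising `K` and
centralising `S`, `T` normalising `A`, `C_A(T) = 1` (equivalently `A = [A,T]`).  Then `A`
centralises `K`.

Proof: every `N_K(D)`, `D ≤ S A` a 2-group containing `A` with `N_{SA}(D)` Sylow in `N_{KA}(D)`,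
centralises `A` (`Fr.loc`); an Alperin type induction shows that the elements of `A` are isolated
in `K A` (`Fr.iso`); the Z*-theorem (S0215) does the rest.
-/

set_option autoImplicit false

namespace Cfsg.Agent.Omega.ZAT

open Subgroup Cfsg.Agent.Transfer.FusionBasic

variable {G : Type*} [Group G]

/-- The conjugate `y A y⁻¹`. -/
abbrev cj (y : G) (A : Subgroup G) : Subgroup G := A.map (MulAut.conj y).toMonoidHom

theorem mem_cj {y x : G} {A : Subgroup G} : x ∈ cj y A ↔ y⁻¹ * x * y ∈ A := mem_map_conj_iff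

theorem conj_mem_cj {y x : G} {A : Subgroup G} (hx : x ∈ A) : y * x * y⁻¹ ∈ cj y A := by
  rw [mem_cj]
  have e : y⁻¹ * (y * x * y⁻¹) * y = x := by group
  rwa [e]

theorem cj_cj (x y : G) (A : Subgroup G) : cj y (cj x A) = cj (y * x) A := map_conj_map_conj A x y

/-- The configuration: `K` normal in `Y = K A`, `P = (P ⊓ K) A` a Sylow 2-subgroup of `Y`, `A`
central in `P`, `A ⊓ K = 1`, `T` centralises `P ⊓ K` and normalises `A = [A,T]` and `K`. -/
structure Fr (K Y P A T : Subgroup G) : Prop where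
  KY : K ≤ Y
  YK : Y ≤ normalizer (K : Set G)
  TK : T ≤ normalizer (K : Set G)
  cov : ∀ y ∈ Y, ∃ k ∈ K, ∃ a ∈ A, y = k * a
  PY : SylIn 2 P Y
  AP : A ≤ P
  com : ∀ a ∈ A, ∀ p ∈ P, a * p = p * a
  AK : ∀ a ∈ A, a ∈ K → a = 1
  TA : ∀ t ∈ T, ∀ a ∈ A, t * a * t⁻¹ ∈ A
  TS : ∀ t ∈ T, ∀ s ∈ P, s ∈ K → t * s = s * t
  gen : ∀ x : G, (∀ a ∈ A, ∀ t ∈ T, Commute x (a⁻¹ * (t * a * t⁻¹))) → ∀ a ∈ A, Commute x a

variable {K Y P A T : Subgroup G}

theorem mem_K_conj {K : Subgroup G} {x : G} (hx : x ∈ normalizer (K : Set G)) {k : G}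
    (hk : k ∈ K) : x * k * x⁻¹ ∈ K := ((Subgroup.mem_normalizer_iff.mp hx) k).mp hk

theorem mem_K_conj' {K : Subgroup G} {x : G} (hx : x ∈ normalizer (K : Set G)) {k : G}
    (hk : k ∈ K) : x⁻¹ * k * x ∈ K := by
  have := mem_K_conj (inv_mem hx) hk
  rwa [inv_inv] at this

theorem Fr.conj (h : Fr K Y P A T) {y : G} (hy : y ∈ Y) :
    Fr K Y (cj y P) (cj y A) (cj y T) := by
  have hyK : y ∈ normalizer (K : Set G) := h.YK hy
  have hYy : cj y Y = Y := map_conj_eq_of_mem_normalizer (le_normalizer hy)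
  refine ⟨h.KY, h.YK, ?_, ?_, ?_, map_mono h.AP, ?_, ?_, ?_, ?_, ?_⟩
  · intro t ht
    rw [mem_cj] at ht
    have h1 := h.TK ht
    have h2 := mul_mem (mul_mem hyK h1) (inv_mem hyK)
    have e : y * (y⁻¹ * t * y) * y⁻¹ = t := by group
    rwa [e] at h2
  · intro z hz
    obtain ⟨k, hk, a, ha, he⟩ := h.cov (y⁻¹ * z * y) (mul_mem (mul_mem (inv_mem hy) hz) hy)
    refine ⟨y * k * y⁻¹, mem_K_conj hyK hk, y * a * y⁻¹, conj_mem_cj ha, ?_⟩
    have e : z = y * (y⁻¹ * z * y) * y⁻¹ := by group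
    rw [e, he]; group
  · have := h.PY.map_conj y
    rwa [show Y.map (MulAut.conj y).toMonoidHom = Y from hYy] at this
  · intro a ha p hp
    rw [mem_cj] at ha hp
    have h1 := h.com _ ha _ hp
    calc a * p = y * ((y⁻¹ * a * y) * (y⁻¹ * p * y)) * y⁻¹ := by group
      _ = y * ((y⁻¹ * p * y) * (y⁻¹ * a * y)) * y⁻¹ := by rw [h1]
      _ = p * a := by group
  · intro a ha haK
    rw [mem_cj] at ha
    have h1 := h.AK _ ha (mem_K_conj' hyK haK)
    calc a = y * (y⁻¹ * a * y) * y⁻¹ := by group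
      _ = 1 := by rw [h1]; group
  · intro t ht a ha
    rw [mem_cj] at ht ha ⊢
    have h1 := h.TA _ ht _ ha
    have e : y⁻¹ * t * y * (y⁻¹ * a * y) * (y⁻¹ * t * y)⁻¹ = y⁻¹ * (t * a * t⁻¹) * y := by group
    rwa [e] at h1
  · intro t ht s hs hsK
    rw [mem_cj] at ht hs
    have h1 := h.TS _ ht _ hs (mem_K_conj' hyK hsK)
    calc t * s = y * ((y⁻¹ * t * y) * (y⁻¹ * s * y)) * y⁻¹ := by group
      _ = y * ((y⁻¹ * s * y) * (y⁻¹ * t * y)) * y⁻¹ := by rw [h1]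
      _ = s * t := by group
  · intro x hx a ha
    rw [mem_cj] at ha
    have h1 := h.gen (y⁻¹ * x * y) ?_ _ ha
    · have h2 : y⁻¹ * x * y * (y⁻¹ * a * y) = y⁻¹ * a * y * (y⁻¹ * x * y) := h1
      show x * a = a * x
      calc x * a = y * (y⁻¹ * x * y * (y⁻¹ * a * y)) * y⁻¹ := by group
        _ = y * (y⁻¹ * a * y * (y⁻¹ * x * y)) * y⁻¹ := by rw [h2]
        _ = a * x := by group
    · intro b hb t ht
      have h2 : x * ((y * b * y⁻¹)⁻¹ * ((y * t * y⁻¹) * (y * b * y⁻¹) * (y * t * y⁻¹)⁻¹)) =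
        ((y * b * y⁻¹)⁻¹ * ((y * t * y⁻¹) * (y * b * y⁻¹) * (y * t * y⁻¹)⁻¹)) * x :=
        hx _ (conj_mem_cj hb) _ (conj_mem_cj ht)
      show y⁻¹ * x * y * (b⁻¹ * (t * b * t⁻¹)) = b⁻¹ * (t * b * t⁻¹) * (y⁻¹ * x * y)
      calc y⁻¹ * x * y * (b⁻¹ * (t * b * t⁻¹))
          = y⁻¹ * (x * ((y * b * y⁻¹)⁻¹ * ((y * t * y⁻¹) * (y * b * y⁻¹) * (y * t * y⁻¹)⁻¹))) * y := by
            group
        _ = y⁻¹ * (((y * b * y⁻¹)⁻¹ * ((y * t * y⁻¹) * (y * b * y⁻¹) * (y * t * y⁻¹)⁻¹)) * x) * y := by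
            rw [h2]
        _ = b⁻¹ * (t * b * t⁻¹) * (y⁻¹ * x * y) := by group

/-! ### The local step -/

/-- Elements of `D` are products of elements of `D ⊓ K` and `A`. -/
theorem Fr.dec (h : Fr K Y P A T) {D : Subgroup G} (hAD : A ≤ D) (hDP : D ≤ P) {d : G}
    (hd : d ∈ D) : ∃ k ∈ K, k ∈ D ∧ ∃ a ∈ A, d = k * a := by
  obtain ⟨k, hk, a, ha, e⟩ := h.cov d (h.PY.le (hDP hd))
  refine ⟨k, hk, ?_, a, ha, e⟩
  have : k = d * a⁻¹ := by rw [e]; group
  rw [this]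
  exact mul_mem hd (inv_mem (hAD ha))

theorem Fr.T_norm [Finite G] (h : Fr K Y P A T) {D : Subgroup G} (hAD : A ≤ D) (hDP : D ≤ P) :
    T ≤ normalizer (D : Set G) := by
  intro t ht
  refine mem_normalizer_of_conj_mem fun d hd => ?_
  obtain ⟨k, hk, hkD, a, ha, rfl⟩ := h.dec hAD hDP hd
  have e : t * (k * a) * t⁻¹ = (t * k) * t⁻¹ * (t * a * t⁻¹) := by group
  rw [e, h.TS t ht k (hDP hkD) hk]
  have e2 : k * t * t⁻¹ = k := by group
  rw [e2]
  exact mul_mem hkD (hAD (h.TA t ht a ha))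

/-- `a⁻¹ x a x⁻¹ ∈ D ⊓ K` for `a ∈ A`, `x ∈ N_K(D)`. -/
theorem Fr.delta (h : Fr K Y P A T) {D : Subgroup G} (hAD : A ≤ D) {x : G} (hxK : x ∈ K)
    (hx : x ∈ normalizer (D : Set G)) {a : G} (ha : a ∈ A) :
    a⁻¹ * (x * a * x⁻¹) ∈ K ∧ a⁻¹ * (x * a * x⁻¹) ∈ D := by
  constructor
  · have haK : a ∈ normalizer (K : Set G) := h.YK (h.PY.le (h.AP ha))
    have e : a⁻¹ * (x * a * x⁻¹) = (a⁻¹ * x * a) * x⁻¹ := by group
    rw [e]
    exact mul_mem (mem_K_conj' haK hxK) (inv_mem hxK)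
  · exact mul_mem (inv_mem (hAD ha)) (mem_K_conj hx (hAD ha))

theorem Fr.loc_C [Finite G] (h : Fr K Y P A T) {D : Subgroup G} (hAD : A ≤ D) (hDP : D ≤ P)
    (hsyl : SylIn 2 (P ⊓ (Y ⊓ normalizer (D : Set G))) (Y ⊓ normalizer (D : Set G)))
    {x : G} (hxK : x ∈ K) (hx : x ∈ normalizer (D : Set G))
    (hxc : ∀ d ∈ D, d ∈ K → x * d = d * x) {a : G} (ha : a ∈ A) : x * a = a * x := by
  -- `C`
  let C : Subgroup G := (K ⊓ normalizer (D : Set G)) ⊓ centralizer ((D ⊓ K : Subgroup G) : Set G)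
  have memC : ∀ {z : G}, z ∈ C ↔ (z ∈ K ∧ z ∈ normalizer (D : Set G)) ∧
      ∀ d ∈ D, d ∈ K → z * d = d * z := by
    intro z
    simp only [C, Subgroup.mem_inf, Subgroup.mem_centralizer_iff, Subgroup.coe_inf,
      Set.mem_inter_iff, SetLike.mem_coe]
    constructor
    · rintro ⟨h1, h2⟩
      exact ⟨h1, fun d hd hdK => (h2 d ⟨hd, hdK⟩).symm⟩
    · rintro ⟨h1, h2⟩
      exact ⟨h1, fun d hd => (h2 d hd.1 hd.2).symm⟩
  have hCN : C ≤ Y ⊓ normalizer (D : Set G) := by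
    intro z hz
    have := memC.mp hz
    exact ⟨h.KY this.1.1, this.1.2⟩
  have hNC : Y ⊓ normalizer (D : Set G) ≤ normalizer (C : Set G) := by
    intro n hn
    refine mem_normalizer_of_conj_mem fun z hz => ?_
    rw [memC] at hz ⊢
    refine ⟨⟨mem_K_conj (h.YK hn.1) hz.1.1, mul_mem (mul_mem hn.2 hz.1.2) (inv_mem hn.2)⟩, ?_⟩
    intro d hd hdK
    have h1 := hz.2 (n⁻¹ * d * n) (mem_K_conj' hn.2 hd) (mem_K_conj' (h.YK hn.1) hdK)
    calc n * z * n⁻¹ * d = n * (z * (n⁻¹ * d * n)) * n⁻¹ := by group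
      _ = n * ((n⁻¹ * d * n) * z) * n⁻¹ := by rw [h1]
      _ = d * (n * z * n⁻¹) := by group
  have hCsyl : SylIn 2 ((P ⊓ (Y ⊓ normalizer (D : Set G))) ⊓ C) C := hsyl.inf hCN hNC
  let CA : Subgroup G := C ⊓ centralizer (A : Set G)
  have hCAn : C ≤ normalizer (CA : Set G) := by
    intro z hz
    refine mem_normalizer_of_conj_mem fun c hc => ?_
    refine Subgroup.mem_inf.mpr ⟨mul_mem (mul_mem hz (Subgroup.mem_inf.mp hc).1) (inv_mem hz), ?_⟩
    rw [Subgroup.mem_centralizer_iff]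
    intro b hb
    have hz' := memC.mp hz
    have hd := h.delta hAD (inv_mem hz'.1.1) (inv_mem hz'.1.2) hb
    rw [inv_inv] at hd
    have hc1 := (memC.mp hc.1).2 _ hd.2 hd.1
    have hc2 : b * c = c * b := (Subgroup.mem_centralizer_iff.mp hc.2) b hb
    have h3 : c * (z⁻¹ * b * z) = (z⁻¹ * b * z) * c := by
      calc c * (z⁻¹ * b * z) = (c * b) * (b⁻¹ * (z⁻¹ * b * z)) := by group
        _ = (b * c) * (b⁻¹ * (z⁻¹ * b * z)) := by rw [hc2]
        _ = b * (c * (b⁻¹ * (z⁻¹ * b * z))) := by group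
        _ = b * ((b⁻¹ * (z⁻¹ * b * z)) * c) := by rw [hc1]
        _ = (z⁻¹ * b * z) * c := by group
    calc b * (z * c * z⁻¹) = z * ((z⁻¹ * b * z) * c) * z⁻¹ := by group
      _ = z * (c * (z⁻¹ * b * z)) * z⁻¹ := by rw [h3]
      _ = z * c * z⁻¹ * b := by group
  have h2 : Fact (Nat.Prime 2) := ⟨Nat.prime_two⟩
  obtain ⟨k, hk⟩ := h.PY.isPGroup.exists_card_eq
  have hpow : ∀ z ∈ C, ∃ j : ℕ, z ^ 2 ^ j ∈ CA := by
    intro z hz
    refine ⟨k, Subgroup.mem_inf.mpr ⟨pow_mem hz _, ?_⟩⟩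
    rw [Subgroup.mem_centralizer_iff]
    intro b hb
    have hz' := memC.mp hz
    have hd := h.delta hAD hz'.1.1 hz'.1.2 hb
    set d := b⁻¹ * (z * b * z⁻¹) with hddef
    have hzd : z * d = d * z := hz'.2 d hd.2 hd.1
    have hzb : z * b = b * d * z := by rw [hddef]; group
    have key : ∀ n : ℕ, z ^ n * b = b * d ^ n * z ^ n := by
      intro n
      induction n with
      | zero => simp
      | succ n ih =>
        have hc : z ^ n * d = d * z ^ n := (Commute.pow_left (show Commute z d from hzd) n)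
        calc z ^ (n + 1) * b = z ^ n * (z * b) := by rw [pow_succ]; group
          _ = z ^ n * b * d * z := by rw [hzb]; group
          _ = b * d ^ n * z ^ n * d * z := by rw [ih]
          _ = b * d ^ n * (z ^ n * d) * z := by group
          _ = b * d ^ n * (d * z ^ n) * z := by rw [hc]
          _ = b * d ^ (n + 1) * z ^ (n + 1) := by rw [pow_succ, pow_succ]; group
    have hd1 : d ^ 2 ^ k = 1 := by
      rw [← hk]
      have := congrArg Subtype.val (pow_card_eq_one' (x := (⟨d, hDP hd.2⟩ : P)))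
      rwa [Subgroup.coe_pow, Subgroup.coe_one] at this
    have := key (2 ^ k)
    rw [hd1, mul_one] at this
    exact this.symm
  have hxC : x ∈ C := memC.mpr ⟨⟨hxK, hx⟩, hxc⟩
  obtain ⟨c, hc, s, hs, rfl⟩ := hCsyl.exists_mul inf_le_left hCAn hpow hxC
  have hc2 : a * c = c * a := (Subgroup.mem_centralizer_iff.mp hc.2) a ha
  have hs2 : a * s = s * a := h.com a ha s hs.1.1
  calc c * s * a = c * (s * a) := by group
    _ = c * (a * s) := by rw [hs2]
    _ = (c * a) * s := by group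
    _ = (a * c) * s := by rw [hc2]
    _ = a * (c * s) := by group

/-- **The local step.** -/
theorem Fr.loc [Finite G] (h : Fr K Y P A T) {D : Subgroup G} (hAD : A ≤ D) (hDP : D ≤ P)
    (hsyl : SylIn 2 (P ⊓ (Y ⊓ normalizer (D : Set G))) (Y ⊓ normalizer (D : Set G)))
    {n : G} (hnY : n ∈ Y) (hn : n ∈ normalizer (D : Set G)) {a : G} (ha : a ∈ A) :
    n * a = a * n := by
  have main : ∀ x ∈ K, x ∈ normalizer (D : Set G) → ∀ b ∈ A, Commute x b := by
    intro x hxK hx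
    refine h.gen x fun b hb t ht => ?_
    have htD := h.T_norm hAD hDP ht
    have htK := h.TK ht
    -- `y = x⁻¹ (t x t⁻¹)`
    set y := x⁻¹ * (t * x * t⁻¹) with hy
    have hyK : y ∈ K := mul_mem (inv_mem hxK) (mem_K_conj htK hxK)
    have hyD : y ∈ normalizer (D : Set G) :=
      mul_mem (inv_mem hx) (mul_mem (mul_mem htD hx) (inv_mem htD))
    have hyc : ∀ d ∈ D, d ∈ K → y * d = d * y := by
      intro d hd hdK
      have h1 : t * d = d * t := h.TS t ht d (hDP hd) hdK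
      have h1' : t⁻¹ * d * t = d := by rw [mul_assoc, ← h1]; group
      have h2 : t * (x * d * x⁻¹) = (x * d * x⁻¹) * t :=
        h.TS t ht _ (hDP (mem_K_conj hx hd)) (mul_mem (mul_mem hxK hdK) (inv_mem hxK))
      calc y * d = x⁻¹ * (t * (x * (t⁻¹ * d * t) * x⁻¹)) * x * t⁻¹ * 1 := by rw [hy]; group
        _ = x⁻¹ * (t * (x * d * x⁻¹)) * x * t⁻¹ * 1 := by rw [h1']
        _ = x⁻¹ * ((x * d * x⁻¹) * t) * x * t⁻¹ * 1 := by rw [h2]
        _ = d * y := by rw [hy]; group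
    have hyA : ∀ c ∈ A, y * c = c * y := fun c hc => h.loc_C hAD hDP hsyl hyK hyD hyc hc
    have hd := h.delta hAD hxK hx hb
    set δ := b⁻¹ * (x * b * x⁻¹) with hδ
    have htδ : t * δ = δ * t := h.TS t ht δ (hDP hd.2) hd.1
    set b' := t * b * t⁻¹ with hb'
    have hb'A : b' ∈ A := h.TA t ht b hb
    have e1 : x * b * x⁻¹ = b * δ := by rw [hδ]; group
    have e2 : (t * x * t⁻¹) * b' * (t * x * t⁻¹)⁻¹ = b' * δ := by
      calc (t * x * t⁻¹) * b' * (t * x * t⁻¹)⁻¹ = t * (x * b * x⁻¹) * t⁻¹ := by rw [hb']; group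
        _ = t * (b * δ) * t⁻¹ := by rw [e1]
        _ = (t * b * t⁻¹) * (t * δ) * t⁻¹ := by group
        _ = (t * b * t⁻¹) * (δ * t) * t⁻¹ := by rw [htδ]
        _ = b' * δ := by rw [hb']; group
    have e3 : x * b' * x⁻¹ = b' * δ := by
      rw [← e2]
      have e4 : t * x * t⁻¹ = x * y := by rw [hy]; group
      rw [e4]
      calc x * b' * x⁻¹ = x * (b' * y) * y⁻¹ * x⁻¹ := by group
        _ = x * (y * b') * y⁻¹ * x⁻¹ := by rw [hyA b' hb'A]
        _ = x * y * b' * (x * y)⁻¹ := by group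
    have hδb : b⁻¹ * b' * δ = δ * (b⁻¹ * b') :=
      h.com _ (mul_mem (inv_mem hb) hb'A) _ (hDP hd.2)
    show x * (b⁻¹ * b') = b⁻¹ * b' * x
    calc x * (b⁻¹ * b') = (x * b * x⁻¹)⁻¹ * (x * b' * x⁻¹) * x := by group
      _ = (b * δ)⁻¹ * (b' * δ) * x := by rw [e1, e3]
      _ = δ⁻¹ * (b⁻¹ * b' * δ) * x := by group
      _ = δ⁻¹ * (δ * (b⁻¹ * b')) * x := by rw [hδb]
      _ = b⁻¹ * b' * x := by group
  obtain ⟨k, hk, b, hb, rfl⟩ := h.cov n hnY
  have hbD : b ∈ normalizer (D : Set G) := le_normalizer (hAD hb)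
  have hkD : k ∈ normalizer (D : Set G) := by
    have := mul_mem hn (inv_mem hbD)
    have e : k * b * b⁻¹ = k := by group
    rwa [e] at this
  have h1 : k * a = a * k := main k hk hkD a ha
  have h2 : a * b = b * a := h.com a ha b (h.AP hb)
  calc k * b * a = k * (b * a) := by group
    _ = k * (a * b) := by rw [h2]
    _ = (k * a) * b := by group
    _ = (a * k) * b := by rw [h1]
    _ = a * (k * b) := by group

/-! ### The Alperin step -/

/-- `B` is the conjugate of `A` attached to the conjugate `Q` of `P`. -/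
def Att (Y P A Q B : Subgroup G) : Prop := ∃ y ∈ Y, cj y P = Q ∧ cj y A = B

theorem Fr.of_att (h : Fr K Y P A T) {Q B : Subgroup G} (hQ : Att Y P A Q B) :
    ∃ T', Fr K Y Q B T' := by
  obtain ⟨y, hy, rfl, rfl⟩ := hQ
  exact ⟨_, h.conj hy⟩

theorem Att.conj {Q B : Subgroup G} (hQ : Att Y P A Q B) {y : G} (hy : y ∈ Y) :
    Att Y P A (cj y Q) (cj y B) := by
  obtain ⟨z, hz, rfl, rfl⟩ := hQ
  exact ⟨y * z, mul_mem hy hz, (cj_cj z y P).symm, (cj_cj z y A).symm⟩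

theorem sylIn_of_le {P L Y : Subgroup G} (h : SylIn 2 P Y) (hPL : P ≤ L) (hLY : L ≤ Y) :
    SylIn 2 P L := ⟨hPL, h.isPGroup, fun R hR hRL hRp => h.2.2 R hR (hRL.trans hLY) hRp⟩

theorem sylIn_conj_eq [Finite G] {L R S : Subgroup G} (hS : SylIn 2 S L) (hR : SylIn 2 R L) :
    ∃ l ∈ L, cj l R = S := by
  have : Fact (Nat.Prime 2) := ⟨Nat.prime_two⟩
  obtain ⟨l, hl, hlR⟩ := hS.conj_le hR.le hR.isPGroup
  refine ⟨l, hl, ?_⟩
  have h1 : cj l R ≤ S := map_conj_le_iff.mpr hlR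
  refine Subgroup.eq_of_le_of_card_ge h1 ?_
  rw [card_map_conj]
  exact hR.card_le hS.le hS.isPGroup

theorem cj_eq_self {n : G} {A : Subgroup G} (h : ∀ a ∈ A, n * a = a * n) : cj n A = A := by
  ext x
  rw [mem_cj]
  constructor
  · intro hx
    have h1 := h _ hx
    have h2 : x = n⁻¹ * x * n := by
      calc x = (n * (n⁻¹ * x * n)) * n⁻¹ := by group
        _ = ((n⁻¹ * x * n) * n) * n⁻¹ := by rw [h1]
        _ = n⁻¹ * x * n := by group
    rw [h2]; exact hx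
  · intro hx
    have h1 := h _ hx
    have h2 : n⁻¹ * x * n = x := by rw [mul_assoc, ← h1]; group
    rwa [h2]

theorem Fr.att_unique [Finite G] (h : Fr K Y P A T) {Q B B' : Subgroup G} (hQ : Att Y P A Q B)
    (hQ' : Att Y P A Q B') : B = B' := by
  obtain ⟨T', h'⟩ := h.of_att hQ
  obtain ⟨y, hy, h1, h2⟩ := hQ
  obtain ⟨z, hz, h3, h4⟩ := hQ'
  have hn : z * y⁻¹ ∈ Y := mul_mem hz (inv_mem hy)
  have hnQ : cj (z * y⁻¹) Q = Q := by
    rw [← h1, cj_cj, show z * y⁻¹ * y = z by group, h3, h1]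
  have hnB : cj (z * y⁻¹) B = B' := by
    rw [← h2, cj_cj, show z * y⁻¹ * y = z by group, h4]
  have hnN : z * y⁻¹ ∈ normalizer (Q : Set G) := Subgroup.mem_normalizer_iff_map_conj_eq.mpr hnQ
  rw [← hnB]
  have hle : Q ≤ Y ⊓ normalizer (Q : Set G) := le_inf h'.PY.le le_normalizer
  have hs : SylIn 2 (Q ⊓ (Y ⊓ normalizer (Q : Set G))) (Y ⊓ normalizer (Q : Set G)) := by
    rw [inf_eq_left.mpr hle]
    exact sylIn_of_le h'.PY hle inf_le_left
  exact (cj_eq_self fun a ha => h'.loc h'.AP le_rfl hs hn hnN ha).symm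

theorem exists_att [Finite G] (h : Fr K Y P A T) {R : Subgroup G} (hR : IsPGroup 2 R)
    (hRY : R ≤ Y) : ∃ Q B, R ≤ Q ∧ SylIn 2 Q Y ∧ Att Y P A Q B := by
  obtain ⟨Q, hRQ, hQ⟩ := exists_sylIn_ge hR hRY
  obtain ⟨l, hl, hle⟩ := sylIn_conj_eq hQ h.PY
  exact ⟨Q, _, hRQ, hQ, l, hl, hle, rfl⟩

theorem grow [Finite G] {P D : Subgroup G} (hP : IsPGroup 2 P) (hD : D ≤ P) (hne : D ≠ P) :
    Nat.card D < Nat.card ↥(P ⊓ normalizer (D : Set G)) := by
  have : Fact (Nat.Prime 2) := ⟨Nat.prime_two⟩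
  have : Group.IsNilpotent P := hP.isNilpotent
  have hnc := Group.normalizerCondition_of_isNilpotent (G := P)
  have h1 : D.subgroupOf P < ⊤ := by
    rw [lt_top_iff_ne_top, Ne, subgroupOf_eq_top]
    exact fun h => hne (le_antisymm hD h)
  obtain ⟨x, hx, hxD⟩ := SetLike.exists_of_lt (hnc _ h1)
  have hle : D ≤ P ⊓ normalizer (D : Set G) := le_inf hD le_normalizer
  refine lt_of_le_of_ne (Subgroup.card_le_of_le hle) fun he => ?_
  have h2 := Subgroup.eq_of_le_of_card_ge hle he.ge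
  apply hxD
  rw [mem_subgroupOf, h2]
  refine Subgroup.mem_inf.mpr ⟨x.2, ?_⟩
  refine mem_normalizer_of_conj_mem fun d hd => ?_
  have h3 := ((Subgroup.mem_normalizer_iff.mp hx) ⟨d, hD hd⟩).mp (by rwa [mem_subgroupOf])
  rw [mem_subgroupOf] at h3
  simpa using h3

theorem Fr.star [Finite G] (h : Fr K Y P A T) : ∀ (n : ℕ) (P₁ A₁ P₂ A₂ : Subgroup G),
    Att Y P A P₁ A₁ → Att Y P A P₂ A₂ → A₁ ≤ P₂ →
    Nat.card P ≤ Nat.card ↥(P₁ ⊓ P₂) + n → A₁ = A₂ := by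
  intro n
  induction n with
  | zero =>
    intro P₁ A₁ P₂ A₂ h1 h2 hle hc
    have hc1 : Nat.card P₁ = Nat.card P := by
      obtain ⟨y, hy, e, _⟩ := h1; rw [← e, card_map_conj]
    have hc2 : Nat.card P₂ = Nat.card P := by
      obtain ⟨y, hy, e, _⟩ := h2; rw [← e, card_map_conj]
    have e1 : P₁ ⊓ P₂ = P₁ := Subgroup.eq_of_le_of_card_ge inf_le_left (by omega)
    have e2 : P₁ ⊓ P₂ = P₂ := Subgroup.eq_of_le_of_card_ge inf_le_right (by omega)
    have e3 : P₁ = P₂ := e1.symm.trans e2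
    subst e3
    exact h.att_unique h1 h2
  | succ n ih =>
    intro P₁ A₁ P₂ A₂ h1 h2 hle hc
    obtain ⟨T₁, f1⟩ := h.of_att h1
    obtain ⟨T₂, f2⟩ := h.of_att h2
    have hc1 : Nat.card P₁ = Nat.card P := by
      obtain ⟨y, hy, e, _⟩ := h1; rw [← e, card_map_conj]
    have hc2 : Nat.card P₂ = Nat.card P := by
      obtain ⟨y, hy, e, _⟩ := h2; rw [← e, card_map_conj]
    set D : Subgroup G := P₁ ⊓ P₂ with hD
    by_cases hD1 : D = P₁
    · have e2 : D = P₂ := Subgroup.eq_of_le_of_card_ge inf_le_right (by rw [hD1]; omega)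
      have e3 : P₁ = P₂ := hD1.symm.trans e2
      subst e3
      exact h.att_unique h1 h2
    have hD2 : D ≠ P₂ := by
      intro e
      apply hD1
      exact Subgroup.eq_of_le_of_card_ge inf_le_left (by rw [e]; omega)
    have g1 := grow f1.PY.isPGroup (D := D) inf_le_left hD1
    have g2 := grow f2.PY.isPGroup (D := D) inf_le_right hD2
    set N : Subgroup G := Y ⊓ normalizer (D : Set G) with hN
    have hDP1 : D ≤ P₁ := inf_le_left
    have hDP2 : D ≤ P₂ := inf_le_right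
    have hDN : D ≤ N := le_inf (hDP1.trans f1.PY.le) le_normalizer
    have hA1D : A₁ ≤ D := le_inf f1.AP hle
    have i1 : P₁ ⊓ normalizer (D : Set G) ≤ N := inf_le_inf_right _ f1.PY.le
    have i2 : P₂ ⊓ normalizer (D : Set G) ≤ N := inf_le_inf_right _ f2.PY.le
    obtain ⟨R₁, hR1, hR1N⟩ := exists_sylIn_ge (p := 2) (f1.PY.isPGroup.to_le inf_le_left) i1
    obtain ⟨R₂, hR2, hR2N⟩ := exists_sylIn_ge (p := 2) (f2.PY.isPGroup.to_le inf_le_left) i2
    obtain ⟨S₃, A₃, hRS3, hS3, h3⟩ := exists_att h hR1N.isPGroup (hR1N.le.trans inf_le_left)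
    obtain ⟨S₄, A₄, hRS4, hS4, h4⟩ := exists_att h hR2N.isPGroup (hR2N.le.trans inf_le_left)
    obtain ⟨m, hm, hmR⟩ := sylIn_conj_eq hR2N hR1N
    have hmY : m ∈ Y := (Subgroup.mem_inf.mp hm).1
    have hmD : m ∈ normalizer (D : Set G) := (Subgroup.mem_inf.mp hm).2
    have hcjD : cj m D = D := map_conj_eq_of_mem_normalizer hmD
    have hDS3 : D ≤ S₃ := ((le_inf hDP1 le_normalizer).trans hR1).trans hRS3
    have hDS4 : D ≤ S₄ := ((le_inf hDP2 le_normalizer).trans hR2).trans hRS4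
    -- first application
    have e13 : A₁ = A₃ := by
      refine ih P₁ A₁ S₃ A₃ h1 h3 (hA1D.trans hDS3) ?_
      have : Nat.card ↥(P₁ ⊓ normalizer (D : Set G)) ≤ Nat.card ↥(P₁ ⊓ S₃) :=
        Subgroup.card_le_of_le (le_inf inf_le_left (hR1.trans hRS3))
      omega
    -- second application
    have e34 : cj m A₃ = A₄ := by
      refine ih (cj m S₃) (cj m A₃) S₄ A₄ (h3.conj hmY) h4 ?_ ?_
      · rw [← e13]
        have : cj m A₁ ≤ cj m D := map_mono hA1D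
        rw [hcjD] at this
        exact this.trans hDS4
      · have h5 : R₂ ≤ cj m S₃ ⊓ S₄ := by
          refine le_inf ?_ hRS4
          rw [← hmR]; exact map_mono hRS3
        have : Nat.card ↥(P₂ ⊓ normalizer (D : Set G)) ≤ Nat.card ↥(cj m S₃ ⊓ S₄) :=
          Subgroup.card_le_of_le (hR2.trans h5)
        omega
    have hA4D : A₄ ≤ D := by
      rw [← e34, ← e13]
      have : cj m A₁ ≤ cj m D := map_mono hA1D
      rwa [hcjD] at this
    -- third application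
    have e42 : A₄ = A₂ := by
      refine ih S₄ A₄ P₂ A₂ h4 h2 (hA4D.trans hDP2) ?_
      have : Nat.card ↥(P₂ ⊓ normalizer (D : Set G)) ≤ Nat.card ↥(S₄ ⊓ P₂) :=
        Subgroup.card_le_of_le (le_inf (hR2.trans hRS4) inf_le_left)
      omega
    -- the local step
    obtain ⟨T₃, f3⟩ := h.of_att h3
    have hs3 : SylIn 2 (S₃ ⊓ N) N := by
      have : S₃ ⊓ N = R₁ := hR1N.2.2 _ (le_inf hRS3 hR1N.le) inf_le_right
        (f3.PY.isPGroup.to_le inf_le_left)
      rwa [this]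
    have e33 : cj m A₃ = A₃ :=
      cj_eq_self fun a ha => f3.loc (e13 ▸ hA1D) hDS3 hs3 hmY hmD ha
    rw [e13, ← e33, e34, e42]

/-- The elements of `A` are isolated in `Y`. -/
theorem Fr.iso [Finite G] (h : Fr K Y P A T) {y : G} (hy : y ∈ Y) {a : G} (ha : a ∈ A)
    (hb : y * a * y⁻¹ ∈ P) : y * a * y⁻¹ = a := by
  have : Fact (Nat.Prime 2) := ⟨Nat.prime_two⟩
  set b := y * a * y⁻¹ with hbdef
  let C : Subgroup G := Y ⊓ centralizer ({b} : Set G)
  have memC : ∀ {z : G}, z ∈ C ↔ z ∈ Y ∧ b * z = z * b := by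
    intro z
    simp only [C, Subgroup.mem_inf, Subgroup.mem_centralizer_iff, Set.mem_singleton_iff,
      forall_eq]
  have hPC : cj y P ≤ C := by
    intro x hx
    rw [mem_cj] at hx
    rw [memC]
    have h1 := h.com a ha _ hx
    refine ⟨?_, ?_⟩
    · have h2 := mul_mem (mul_mem hy (h.PY.le hx)) (inv_mem hy)
      have e : y * (y⁻¹ * x * y) * y⁻¹ = x := by group
      rwa [e] at h2
    · calc b * x = y * (a * (y⁻¹ * x * y)) * y⁻¹ := by rw [hbdef]; group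
        _ = y * ((y⁻¹ * x * y) * a) * y⁻¹ := by rw [h1]
        _ = x * b := by rw [hbdef]; group
  have hsy : SylIn 2 (cj y P) C := sylIn_of_le (h.conj hy).PY hPC inf_le_left
  obtain ⟨c, hc, hcP⟩ := hsy.conj_le (R := P ⊓ C) inf_le_right (h.PY.isPGroup.to_le inf_le_left)
  have hc' := memC.mp hc
  have hAC : A ≤ P ⊓ C := by
    refine le_inf h.AP fun x hx => memC.mpr ⟨h.PY.le (h.AP hx), (h.com x hx b hb).symm⟩
  have hle : A ≤ cj (c⁻¹ * y) P := by
    intro x hx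
    have h1 := hcP x (hAC hx)
    rw [mem_cj] at h1 ⊢
    have e : (c⁻¹ * y)⁻¹ * x * (c⁻¹ * y) = y⁻¹ * (c * x * c⁻¹) * y := by group
    rwa [e]
  have hcy : c⁻¹ * y ∈ Y := mul_mem (inv_mem hc'.1) hy
  have h0 : Att Y P A P A := ⟨1, one_mem _, cj_eq_self (by simp), cj_eq_self (by simp)⟩
  have h1 : A = cj (c⁻¹ * y) A :=
    h.star (Nat.card P) P A (cj (c⁻¹ * y) P) (cj (c⁻¹ * y) A) h0 ⟨_, hcy, rfl, rfl⟩ hle
      (Nat.le_add_left _ _)
  have h2 : b ∈ A := by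
    rw [h1, mem_cj]
    have e : (c⁻¹ * y)⁻¹ * b * (c⁻¹ * y) = y⁻¹ * (c * b * c⁻¹) * y := by group
    have e2 : c * b * c⁻¹ = b := by rw [← hc'.2]; group
    rw [e, e2, hbdef]
    have e3 : y⁻¹ * (y * a * y⁻¹) * y = a := by group
    rwa [e3]
  obtain ⟨k, hk, d, hd, he⟩ := h.cov y hy
  have h3 : b * a⁻¹ ∈ K := by
    have h4 : a * d = d * a := h.com a ha d (h.AP hd)
    have e : b * a⁻¹ = k * (a * k⁻¹ * a⁻¹) := by
      rw [hbdef, he]
      calc k * d * a * (k * d)⁻¹ * a⁻¹ = k * (d * a) * d⁻¹ * k⁻¹ * a⁻¹ := by group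
        _ = k * (a * d) * d⁻¹ * k⁻¹ * a⁻¹ := by rw [h4]
        _ = k * (a * k⁻¹ * a⁻¹) := by group
    rw [e]
    exact mul_mem hk (mem_K_conj (h.YK (h.PY.le (h.AP ha))) (inv_mem hk))
  have h5 := h.AK _ (mul_mem h2 (inv_mem ha)) h3
  exact mul_inv_eq_one.mp h5

/-! ### The norm map -/

section norm

variable [Finite G] {A T : Subgroup G} (hab : ∀ a ∈ A, ∀ b ∈ A, a * b = b * a)
  (hTA : ∀ t ∈ T, ∀ a ∈ A, t * a * t⁻¹ ∈ A)

/-- The action of `t` on `A`. -/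
def act (hTA : ∀ t ∈ T, ∀ a ∈ A, t * a * t⁻¹ ∈ A) (t : T) (a : A) : A :=
  ⟨t * a * (t : G)⁻¹, hTA t t.2 a a.2⟩

include hab in
theorem exists_norm : ∃ ν : A →* A, (∀ (t : T) (a : A), ν (act hTA t a) = ν a) ∧
    (∀ (t : T) (a : A), act hTA t (ν a) = ν a) ∧
    (∀ a : A, (∀ t : T, act hTA t a = a) → ν a = a ^ Nat.card T) ∧
    ∀ (H : Subgroup A) (a : A), (∀ t : T, a⁻¹ * act hTA t a ∈ H) → ∃ b ∈ H,
      ν a = a ^ Nat.card T * b := by
  classical
  let _ : CommGroup A := { (inferInstance : Group A) with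
    mul_comm := fun a b => Subtype.ext (hab a a.2 b b.2) }
  let _ : Fintype T := Fintype.ofFinite T
  have hmul : ∀ (t : T) (a b : A), act hTA t (a * b) = act hTA t a * act hTA t b := by
    intro t a b
    apply Subtype.ext
    show (t : G) * ((a : G) * b) * (t : G)⁻¹ = ((t : G) * a * (t : G)⁻¹) * ((t : G) * b * (t : G)⁻¹)
    group
  have hone : ∀ t : T, act hTA t 1 = 1 := by
    intro t
    apply Subtype.ext
    show (t : G) * ((1 : A) : G) * (t : G)⁻¹ = 1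
    rw [Subgroup.coe_one]; group
  have hact : ∀ (s t : T) (a : A), act hTA s (act hTA t a) = act hTA (s * t) a := by
    intro s t a
    apply Subtype.ext
    show (s : G) * ((t : G) * a * (t : G)⁻¹) * (s : G)⁻¹ =
      ((s * t : T) : G) * a * ((s * t : T) : G)⁻¹
    rw [Subgroup.coe_mul]; group
  let ν : A →* A :=
    { toFun := fun a => ∏ t : T, act hTA t a
      map_one' := by simp [hone]
      map_mul' := fun a b => by
        show ∏ t : T, act hTA t (a * b) = (∏ t : T, act hTA t a) * ∏ t : T, act hTA t b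
        rw [← Finset.prod_mul_distrib]
        exact Finset.prod_congr rfl fun t _ => hmul t a b }
  have hν : ∀ a, ν a = ∏ t : T, act hTA t a := fun a => rfl
  let actHom : T → (A →* A) := fun t =>
    { toFun := act hTA t, map_one' := hone t, map_mul' := hmul t }
  refine ⟨ν, ?_, ?_, ?_, ?_⟩
  · intro t a
    rw [hν, hν]
    refine Fintype.prod_equiv (Equiv.mulRight t) _ _ fun s => ?_
    exact hact s t a
  · intro t a
    have h1 : act hTA t (ν a) = ∏ s : T, act hTA t (act hTA s a) := by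
      rw [hν]
      exact map_prod (actHom t) _ _
    rw [h1, hν]
    refine Fintype.prod_equiv (Equiv.mulLeft t) _ _ fun s => ?_
    exact hact t s a
  · intro a ha
    rw [hν, Finset.prod_congr rfl fun t _ => ha t, Finset.prod_const, Finset.card_univ,
      Nat.card_eq_fintype_card]
  · intro H a ha
    refine ⟨∏ t : T, a⁻¹ * act hTA t a, Subgroup.prod_mem H fun t _ => ha t, ?_⟩
    rw [Finset.prod_mul_distrib, Finset.prod_const, Finset.card_univ, ← Nat.card_eq_fintype_card,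
      hν, inv_pow, mul_inv_cancel_left]

include hab hTA in
theorem gen_of_fix (h2 : ∀ a ∈ A, a * a = 1) (hodd : Odd (Nat.card T))
    (hfix : ∀ a ∈ A, (∀ t ∈ T, t * a = a * t) → a = 1) (x : G)
    (hx : ∀ a ∈ A, ∀ t ∈ T, Commute x (a⁻¹ * (t * a * t⁻¹))) : ∀ a ∈ A, Commute x a := by
  intro a ha
  obtain ⟨ν, _, hν2, _, hν4⟩ := exists_norm hab hTA
  have hfa : ν ⟨a, ha⟩ = 1 := by
    apply Subtype.ext
    refine hfix _ (ν ⟨a, ha⟩).2 fun t ht => ?_
    have h1 := congrArg Subtype.val (hν2 ⟨t, ht⟩ ⟨a, ha⟩)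
    have h1' : t * ((ν ⟨a, ha⟩ : A) : G) * t⁻¹ = ((ν ⟨a, ha⟩ : A) : G) := h1
    exact mul_inv_eq_iff_eq_mul.mp h1'
  obtain ⟨b, hb, he⟩ := hν4 ((centralizer ({x} : Set G)).subgroupOf A) ⟨a, ha⟩ (by
    intro t
    rw [mem_subgroupOf, Subgroup.mem_centralizer_iff]
    intro y hy
    rw [Set.mem_singleton_iff.mp hy]
    exact hx a ha t t.2)
  obtain ⟨m, hm⟩ := hodd
  have hpow : (⟨a, ha⟩ : A) ^ Nat.card T = ⟨a, ha⟩ := by
    have h3 : (⟨a, ha⟩ : A) ^ 2 = 1 := by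
      apply Subtype.ext
      rw [Subgroup.coe_pow, Subgroup.coe_one, pow_two]
      exact h2 a ha
    rw [hm, pow_succ, pow_mul, h3, one_pow, one_mul]
  rw [hfa, hpow] at he
  have h4 : (a : G) = ((b : A) : G)⁻¹ := by
    have h5 : (⟨a, ha⟩ : A) = b⁻¹ := eq_inv_of_mul_eq_one_left he.symm
    have := congrArg Subtype.val h5
    simpa using this
  rw [mem_subgroupOf, Subgroup.mem_centralizer_iff] at hb
  have h5 : Commute x (b : G) := hb x rfl
  rw [h4]
  exact h5.inv_right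

include hab hTA in
theorem fix_of_commutator (h2 : ∀ a ∈ A, a * a = 1) (hodd : Odd (Nat.card T))
    (hcom : A ≤ ⁅A, T⁆) : ∀ a ∈ A, (∀ t ∈ T, t * a = a * t) → a = 1 := by
  intro a ha hfa
  obtain ⟨ν, hν1, _, hν3, _⟩ := exists_norm hab hTA
  have h1 : ⁅A, T⁆ ≤ ν.ker.map A.subtype := by
    rw [Subgroup.commutator_le]
    intro b hb t ht
    refine ⟨⟨b, hb⟩ * (act hTA ⟨t, ht⟩ ⟨b, hb⟩)⁻¹, ?_, ?_⟩
    · show _ ∈ ν.ker
      rw [MonoidHom.mem_ker, map_mul, map_inv, hν1, mul_inv_cancel]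
    · show b * (t * b * t⁻¹)⁻¹ = b * t * b⁻¹ * t⁻¹
      group
  obtain ⟨c, hc, hca⟩ := h1 (hcom ha)
  have hc' : c = ⟨a, ha⟩ := Subtype.ext hca
  subst hc'
  have hc2 : ν ⟨a, ha⟩ = 1 := hc
  have h3 := hν3 ⟨a, ha⟩ (fun t => by
    apply Subtype.ext
    show (t : G) * a * (t : G)⁻¹ = a
    rw [hfa t t.2]; group)
  rw [hc2] at h3
  obtain ⟨m, hm⟩ := hodd
  have h4 : (⟨a, ha⟩ : A) ^ 2 = 1 := by
    apply Subtype.ext
    rw [Subgroup.coe_pow, Subgroup.coe_one, pow_two]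
    exact h2 a ha
  rw [hm, pow_succ, pow_mul, h4, one_pow, one_mul] at h3
  have := congrArg Subtype.val h3
  simpa using this.symm

end norm

/-! ### The lemma -/

/-- The frame from the hypotheses of LEMMA Z(AT). -/
theorem frame [Finite G] {K S A T : Subgroup G}
    (hAK : A ≤ normalizer (K : Set G)) (hTK : T ≤ normalizer (K : Set G)) (hS : SylIn 2 S K)
    (hSA : ∀ a ∈ A, ∀ s ∈ S, a * s = s * a) (hST : ∀ t ∈ T, ∀ s ∈ S, t * s = s * t)
    (hab : ∀ a ∈ A, ∀ b ∈ A, a * b = b * a) (h2 : ∀ a ∈ A, a * a = 1)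
    (hodd : Odd (Nat.card T)) (hTA : ∀ t ∈ T, ∀ a ∈ A, t * a * t⁻¹ ∈ A)
    (hfix : ∀ a ∈ A, (∀ t ∈ T, t * a = a * t) → a = 1) :
    Fr K (A ⊔ K) (A ⊔ S) A T := by
  have hAS : A ≤ normalizer (S : Set G) := by
    intro a ha
    refine mem_normalizer_of_conj_mem fun s hs => ?_
    rw [hSA a ha s hs]
    have e : s * a * a⁻¹ = s := by group
    rwa [e]
  have memP : ∀ {x : G}, x ∈ A ⊔ S → ∃ a ∈ A, ∃ s ∈ S, x = a * s := by
    intro x hx
    have h1 : x ∈ ((A ⊔ S : Subgroup G) : Set G) := hx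
    rw [Subgroup.coe_mul_of_left_le_normalizer_right _ _ hAS] at h1
    obtain ⟨a, ha, s, hs, e⟩ := h1
    exact ⟨a, ha, s, hs, e.symm⟩
  have memY : ∀ {x : G}, x ∈ A ⊔ K → ∃ a ∈ A, ∃ k ∈ K, x = a * k := by
    intro x hx
    have h1 : x ∈ ((A ⊔ K : Subgroup G) : Set G) := hx
    rw [Subgroup.coe_mul_of_left_le_normalizer_right _ _ hAK] at h1
    obtain ⟨a, ha, s, hs, e⟩ := h1
    exact ⟨a, ha, s, hs, e.symm⟩
  have hPp : IsPGroup 2 ↥(A ⊔ S : Subgroup G) := by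
    intro x
    obtain ⟨a, ha, s, hs, e⟩ := memP x.2
    obtain ⟨k, hk⟩ := hS.isPGroup ⟨s, hs⟩
    have hk' : s ^ 2 ^ k = 1 := by
      have := congrArg Subtype.val hk
      rwa [Subgroup.coe_pow, Subgroup.coe_one] at this
    refine ⟨k + 1, ?_⟩
    apply Subtype.ext
    rw [Subgroup.coe_pow, Subgroup.coe_one, e, Commute.mul_pow (hSA a ha s hs), pow_succ,
      pow_mul s, hk', one_pow, mul_one, mul_comm, pow_mul, pow_two, h2 a ha, one_pow]
  have hinfK : ∀ R : Subgroup G, S ≤ R → IsPGroup 2 R → R ⊓ K = S := fun R hSR hR =>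
    hS.2.2 _ (le_inf hSR hS.le) inf_le_right (hR.to_le inf_le_left)
  have hPK : (A ⊔ S) ⊓ K = S := hinfK _ le_sup_right hPp
  refine ⟨le_sup_right, ?_, hTK, ?_, ⟨sup_le le_sup_left (hS.le.trans le_sup_right), hPp, ?_⟩,
    le_sup_left, ?_, ?_, hTA, ?_, ?_⟩
  · exact sup_le hAK le_normalizer
  · intro y hy
    obtain ⟨a, ha, k, hk, rfl⟩ := memY hy
    exact ⟨a * k * a⁻¹, mem_K_conj (hAK ha) hk, a, ha, by group⟩
  · intro R hPR hRY hR
    refine le_antisymm (fun r hr => ?_) hPR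
    obtain ⟨a, ha, k, hk, rfl⟩ := memY (hRY hr)
    have h1 : k ∈ R := by
      have := mul_mem (inv_mem (hPR (le_sup_left (a := A) (b := S) ha))) hr
      have e : a⁻¹ * (a * k) = k := by group
      rwa [e] at this
    have h3 : k ∈ S := by
      rw [← hinfK R (le_sup_right.trans hPR) hR]
      exact Subgroup.mem_inf.mpr ⟨h1, hk⟩
    exact mul_mem (le_sup_left (a := A) (b := S) ha) (le_sup_right (a := A) (b := S) h3)
  · intro a ha p hp
    obtain ⟨b, hb, s, hs, rfl⟩ := memP hp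
    calc a * (b * s) = (a * b) * s := by group
      _ = (b * a) * s := by rw [hab a ha b hb]
      _ = b * (a * s) := by group
      _ = b * (s * a) := by rw [hSA a ha s hs]
      _ = b * s * a := by group
  · intro a ha haK
    have h1 : a ∈ S := by
      rw [← hPK]
      exact Subgroup.mem_inf.mpr ⟨le_sup_left (a := A) (b := S) ha, haK⟩
    exact hfix a ha fun t ht => hST t ht a h1
  · intro t ht s hs hsK
    have h1 : s ∈ S := by
      rw [← hPK]
      exact Subgroup.mem_inf.mpr ⟨hs, hsK⟩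
    exact hST t ht s h1
  · exact gen_of_fix hab hTA h2 hodd hfix

/-- **LEMMA Z(AT).** -/
theorem zat [Finite G] {K S A T : Subgroup G}
    (hAK : A ≤ normalizer (K : Set G)) (hTK : T ≤ normalizer (K : Set G))
    (hO : ∀ N : Subgroup G, N ≤ K → K ≤ normalizer (N : Set G) → Odd (Nat.card N) → N = ⊥)
    (hS : SylIn 2 S K)
    (hSA : ∀ a ∈ A, ∀ s ∈ S, a * s = s * a) (hST : ∀ t ∈ T, ∀ s ∈ S, t * s = s * t)
    (hab : ∀ a ∈ A, ∀ b ∈ A, a * b = b * a) (h2 : ∀ a ∈ A, a * a = 1)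
    (hodd : Odd (Nat.card T)) (hTA : ∀ t ∈ T, ∀ a ∈ A, t * a * t⁻¹ ∈ A)
    (hfix : ∀ a ∈ A, (∀ t ∈ T, t * a = a * t) → a = 1) :
    ∀ a ∈ A, ∀ k ∈ K, a * k = k * a := by
  have h := frame hAK hTK hS hSA hST hab h2 hodd hTA hfix
  intro a ha k hk
  by_cases ha1 : a = 1
  · rw [ha1]; group
  set Y : Subgroup G := A ⊔ K with hY
  have haY : a ∈ Y := le_sup_left (a := A) (b := K) ha
  obtain ⟨Q, hQ⟩ := h.PY.exists_sylow
  have haQ : (⟨a, haY⟩ : Y) ∈ (Q : Subgroup Y) := by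
    have h1 : a ∈ (Q : Subgroup Y).map Y.subtype := by rw [hQ]; exact h.AP ha
    obtain ⟨b, hb, he⟩ := h1
    have : b = ⟨a, haY⟩ := Subtype.ext he
    rwa [this] at hb
  have hu : orderOf (⟨a, haY⟩ : Y) = 2 := by
    have h3 : (⟨a, haY⟩ : Y) ^ 2 = 1 := by
      apply Subtype.ext
      rw [Subgroup.coe_pow, Subgroup.coe_one, pow_two]
      exact h2 a ha
    refine orderOf_eq_prime h3 fun e => ha1 ?_
    have := congrArg Subtype.val e
    simpa using this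
  have hiso : ∀ g : Y, g * (⟨a, haY⟩ : Y) * g⁻¹ ∈ Q → g * (⟨a, haY⟩ : Y) * g⁻¹ = ⟨a, haY⟩ := by
    intro g hg
    apply Subtype.ext
    have h1 : (g : G) * a * (g : G)⁻¹ ∈ A ⊔ S := by
      rw [← hQ]; exact ⟨_, hg, rfl⟩
    exact h.iso g.2 ha h1
  obtain ⟨N, hN, hNodd, hNc⟩ := Cfsg.Agent.S0215.result Q (⟨a, haY⟩ : Y) hu haQ hiso
  have hN0 : N.map Y.subtype = ⊥ := by
    refine hO _ ?_ ?_ ?_
    · rintro _ ⟨n, hn, rfl⟩
      obtain ⟨c, hc, b, hb, e⟩ := h.cov n n.2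
      have hn2 : (n : G) * n ∈ K := by
        have h3 : (n : G) * n = c * (b * c * b⁻¹) * (b * b) := by rw [e]; group
        rw [h3, h2 b hb, mul_one]
        exact mul_mem hc (mem_K_conj (hAK hb) hc)
      have h4 : (n : Y) ^ Nat.card N = 1 := by
        have := congrArg Subtype.val (pow_card_eq_one' (x := (⟨n, hn⟩ : N)))
        rwa [Subgroup.coe_pow, Subgroup.coe_one] at this
      obtain ⟨m, hm⟩ := hNodd
      have h5 : (n : G) ^ Nat.card N = 1 := by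
        have := congrArg Subtype.val h4
        rwa [Subgroup.coe_pow, Subgroup.coe_one] at this
      have h6 : (n : G) = (((n : G) * n) ^ m)⁻¹ := by
        rw [hm, pow_succ, pow_mul, pow_two] at h5
        exact eq_inv_of_mul_eq_one_right h5
      show (n : G) ∈ K
      rw [h6]
      exact inv_mem (pow_mem hn2 m)
    · intro c hc
      refine mem_normalizer_of_conj_mem fun n hn => ?_
      obtain ⟨n', hn', rfl⟩ := hn
      have hcY : c ∈ Y := le_sup_right (a := A) (b := K) hc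
      exact ⟨⟨c, hcY⟩ * n' * ⟨c, hcY⟩⁻¹, hN.conj_mem n' hn' _, rfl⟩
    · rw [Nat.card_congr (N.equivMapOfInjective _ Y.subtype_injective).toEquiv.symm]
      exact hNodd
  have hkY : k ∈ Y := le_sup_right (a := A) (b := K) hk
  have h1 := hNc ⟨k, hkY⟩
  have h3 : a * k * a⁻¹ * k⁻¹ ∈ N.map Y.subtype := ⟨_, h1, rfl⟩
  rw [hN0, Subgroup.mem_bot] at h3
  calc a * k = (a * k * a⁻¹ * k⁻¹) * (k * a) := by group
    _ = k * a := by rw [h3, one_mul]

/-- The form with `A = [A,T]`. -/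
theorem zat_commutator [Finite G] {K S A T : Subgroup G}
    (hAK : A ≤ normalizer (K : Set G)) (hTK : T ≤ normalizer (K : Set G))
    (hO : ∀ N : Subgroup G, N ≤ K → K ≤ normalizer (N : Set G) → Odd (Nat.card N) → N = ⊥)
    (hS : SylIn 2 S K)
    (hSA : ∀ a ∈ A, ∀ s ∈ S, a * s = s * a) (hST : ∀ t ∈ T, ∀ s ∈ S, t * s = s * t)
    (hab : ∀ a ∈ A, ∀ b ∈ A, a * b = b * a) (h2 : ∀ a ∈ A, a * a = 1)
    (hodd : Odd (Nat.card T)) (hTA : ∀ t ∈ T, ∀ a ∈ A, t * a * t⁻¹ ∈ A)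
    (hcom : A ≤ ⁅A, T⁆) :
    ∀ a ∈ A, ∀ k ∈ K, a * k = k * a :=
  zat hAK hTK hO hS hSA hST hab h2 hodd hTA (fix_of_commutator hab hTA h2 hodd hcom)

end Cfsg.Agent.Omega.ZAT
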