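import Mathlib
import Cfsg.Agent.MinSimple.MinParabolic
import Cfsg.Agent.Lib.MinNormalNonabelian

/-!
# The structure of minimal parabolics with trivial `p`-core

`X` finite, `S` a Sylow `p`-subgroup of `X` contained in a unique maximal subgroup `M` (`IsMin S M`),
`O_p(X) = 1`.

* `le_or` : a normal subgroup lies in `M` or is a supplement of `S`;
* `coprime_of_le`, `le_pPrimeCore_of_le` : normal subgroups in `M` are `p'`-groups;
* `le_frattini` : they lie in the Frattini subgroup;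
* `IsMin.quotient` : `X/N` is again minimal for normal `N ≤ M`, with `O_p(X/N) = 1`;
* `pPrimeCore_le_or` : `O_{p'}(X) S = X` or `O_{p'}(X) ≤ M`;
* `exists_struct` : if `O_{p'}(X) ≤ M` then `X` has a smallest normal subgroup `K` not contained in `M`; `K` is
  perfect, `K S = X`, `O_{p'}(X) ≤ K`, `K / O_{p'}(X)` is the unique minimal normal subgroup of
  `X / O_{p'}(X)`, a product of nonabelian simple groups permuted transitively by `S`.
-/

set_option autoImplicit false

namespace Cfsg.Agent.Omega.MinParStruct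

open Subgroup Cfsg Cfsg.Agent.MinSimple.MinParabolic

variable {X : Type*} [Group X] [Finite X] {p : ℕ} [hp : Fact p.Prime] {S : Sylow p X}
  {M : Subgroup X}

omit [Finite X] in
theorem sylow_le (h : IsMin (S : Subgroup X) M) (hO : pCore p X = ⊥) : (S : Subgroup X) ≤ M := by
  by_cases h1 : (S : Subgroup X) = ⊤
  · exfalso
    have h2 : IsPGroup p X := by
      have := S.isPGroup'
      rw [h1] at this
      exact this.of_equiv topEquiv
    have h3 : (⊤ : Subgroup X) = ⊥ := by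
      rw [← hO, (Lib.Cores.pCore_eq_top_iff p).2 h2]
    exact h.ne_top (top_le_iff.1 (h3.le.trans bot_le))
  · exact h.le_of _ le_rfl h1

omit [Finite X] in
/-- A normal subgroup lies in `M` or is a supplement of `S`. -/
theorem le_or (h : IsMin (S : Subgroup X) M) (N : Subgroup X) :
    N ≤ M ∨ N ⊔ (S : Subgroup X) = ⊤ := by
  by_cases h1 : N ⊔ (S : Subgroup X) = ⊤
  · exact Or.inr h1
  · exact Or.inl (le_sup_left.trans (h.le_of _ le_sup_right h1))

omit [Finite X] in
theorem not_le_of_sup (h : IsMin (S : Subgroup X) M) (hO : pCore p X = ⊥) {N : Subgroup X}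
    (h1 : N ⊔ (S : Subgroup X) = ⊤) : ¬ N ≤ M := fun h2 =>
  h.ne_top (top_le_iff.1 (h1.symm.le.trans (sup_le h2 (sylow_le h hO))))

theorem inf_eq_bot (h : IsMin (S : Subgroup X) M) (hO : pCore p X = ⊥) {N : Subgroup X}
    (hN : N.Normal) (hNM : N ≤ M) : (S : Subgroup X) ⊓ N = ⊥ := by
  rcases sup_eq_top_or_inf_le h N with h1 | h1
  · exact absurd hNM (not_le_of_sup h hO h1)
  · rw [hO] at h1
    exact le_bot_iff.1 h1

/-- Normal subgroups of `X` in `M` are `p'`-groups. -/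
theorem not_dvd_of_le (h : IsMin (S : Subgroup X) M) (hO : pCore p X = ⊥) {N : Subgroup X}
    (hN : N.Normal) (hNM : N ≤ M) : ¬ p ∣ Nat.card N := by
  intro hd
  obtain ⟨x, hx⟩ := exists_prime_orderOf_dvd_card' p hd
  have h1 : IsPGroup p (zpowers (x : X)) := by
    apply IsPGroup.of_card (n := 1)
    rw [Nat.card_zpowers, orderOf_coe, hx, pow_one]
  obtain ⟨P, hP⟩ := h1.exists_le_sylow
  obtain ⟨g, rfl⟩ := MulAction.exists_smul_eq X S P
  have h2 : (x : X) ∈ ((g • S : Sylow p X) : Subgroup X) := hP (mem_zpowers _)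
  rw [Sylow.smul_def, Sylow.pointwise_smul_def] at h2
  obtain ⟨y, hy, hyx⟩ := (mem_smul_pointwise_iff_exists (x : X) _ _).1 h2
  have h3 : y = g⁻¹ * (x : X) * g⁻¹⁻¹ := by
    rw [← hyx, MulAut.smul_def, MulAut.conj_apply]
    group
  have h4 : y ∈ (S : Subgroup X) ⊓ N := ⟨hy, by rw [h3]; exact hN.conj_mem _ x.2 _⟩
  rw [inf_eq_bot h hO hN hNM, mem_bot] at h4
  have h5 : (x : X) = 1 := by
    rw [← hyx, h4]
    simp
  have h6 : orderOf x = 1 := by
    rw [orderOf_eq_one_iff]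
    exact Subtype.ext h5
  rw [h6] at hx
  exact hp.out.one_lt.ne hx

theorem coprime_of_le (h : IsMin (S : Subgroup X) M) (hO : pCore p X = ⊥) {N : Subgroup X}
    (hN : N.Normal) (hNM : N ≤ M) : (Nat.card N).Coprime p :=
  ((Nat.Prime.coprime_iff_not_dvd hp.out).2 (not_dvd_of_le h hO hN hNM)).symm

theorem le_pPrimeCore_of_le (h : IsMin (S : Subgroup X) M) (hO : pCore p X = ⊥) {N : Subgroup X}
    (hN : N.Normal) (hNM : N ≤ M) : N ≤ pPrimeCore p X :=
  Lib.Cores.le_pPrimeCore hN (coprime_of_le h hO hN hNM)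

/-- A subgroup of index prime to `p` contains a conjugate of `S`. -/
theorem exists_smul_le {H : Subgroup X} (hH : ¬ p ∣ H.index) :
    ∃ g : X, ((g • S : Sylow p X) : Subgroup X) ≤ H := by
  obtain ⟨P⟩ : Nonempty (Sylow p H) := inferInstance
  have h1 : IsPGroup p ((P : Subgroup H).map H.subtype) := P.isPGroup'.map _
  obtain ⟨Q, hQ⟩ := h1.exists_le_sylow
  have hcard : Nat.card ((P : Subgroup H).map H.subtype) = Nat.card (Q : Subgroup X) := by
    rw [Nat.card_congr ((P : Subgroup H).equivMapOfInjective _ H.subtype_injective).toEquiv.symm,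
      P.card_eq_multiplicity, Q.card_eq_multiplicity, ← H.card_mul_index,
      Nat.factorization_mul Nat.card_pos.ne' (index_ne_zero_of_finite), Finsupp.add_apply,
      Nat.factorization_eq_zero_of_not_dvd hH, add_zero]
  have h2 := eq_of_le_of_card_ge hQ hcard.ge
  obtain ⟨g, rfl⟩ := MulAction.exists_smul_eq X S Q
  refine ⟨g, ?_⟩
  rw [← h2]
  exact map_subtype_le _

theorem smul_le_iff (g : X) (H : Subgroup X) :
    ((g • S : Sylow p X) : Subgroup X) ≤ H ↔
      (S : Subgroup X) ≤ H.map (MulAut.conj g⁻¹).toMonoidHom := by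
  constructor
  · intro h x hx
    refine ⟨g * x * g⁻¹, h ?_, ?_⟩
    · rw [Sylow.smul_def, Sylow.pointwise_smul_def]
      exact (mem_smul_pointwise_iff_exists _ _ _).2 ⟨x, hx, rfl⟩
    · change g⁻¹ * (g * x * g⁻¹) * g⁻¹⁻¹ = x
      group
  · intro h x hx
    rw [Sylow.smul_def, Sylow.pointwise_smul_def] at hx
    obtain ⟨y, hy, rfl⟩ := (mem_smul_pointwise_iff_exists _ _ _).1 hx
    obtain ⟨z, hz, hzy⟩ := h hy
    have : z = g * y * g⁻¹ := by
      rw [← hzy]
      change z = g * (g⁻¹ * z * g⁻¹⁻¹) * g⁻¹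
      group
    rw [MulAut.smul_def, MulAut.conj_apply, ← this]
    exact hz

/-- Every subgroup `H ≠ X` of index prime to `p` lies in a conjugate of `M`. -/
theorem exists_le_map (h : IsMin (S : Subgroup X) M) {H : Subgroup X} (hH : ¬ p ∣ H.index)
    (hH1 : H ≠ ⊤) : ∃ g : X, H ≤ M.map (MulAut.conj g).toMonoidHom := by
  obtain ⟨g, hg⟩ := exists_smul_le (S := S) hH
  rw [smul_le_iff] at hg
  have h1 := h.le_of _ hg (fun hc => hH1 (by
    rw [eq_top_iff]
    intro x _
    have h2 : g⁻¹ * x * g⁻¹⁻¹ ∈ H.map (MulAut.conj g⁻¹).toMonoidHom := by rw [hc]; trivial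
    obtain ⟨y, hy, hyx⟩ := h2
    have h3 : y = x := by
      have h4 : g⁻¹ * y * g⁻¹⁻¹ = g⁻¹ * x * g⁻¹⁻¹ := hyx
      simpa using h4
    rwa [← h3]))
  refine ⟨g, fun x hx => ?_⟩
  have h2 : g⁻¹ * x * g⁻¹⁻¹ ∈ M := h1 ⟨x, hx, rfl⟩
  refine ⟨_, h2, ?_⟩
  change g * (g⁻¹ * x * g⁻¹⁻¹) * g⁻¹ = x
  group

/-- Normal subgroups of `X` in `M` lie in the Frattini subgroup. -/
theorem le_frattini (h : IsMin (S : Subgroup X) M) (hO : pCore p X = ⊥) {N : Subgroup X}
    (hN : N.Normal) (hNM : N ≤ M) : N ≤ frattini X := by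
  unfold frattini Order.radical
  refine le_iInf₂ fun H hH => ?_
  by_contra hc
  have h1 : N ⊔ H = ⊤ := by
    refine hH.2 _ (lt_of_le_of_ne le_sup_right fun h2 => hc ?_)
    rw [h2]
    exact le_sup_left
  -- the index of `H` divides `|N|`
  have h2 : H.index ∣ Nat.card N := by
    have h3 : ∀ g : X, ∃ n ∈ N, ∃ k ∈ H, g = n * k := by
      intro g
      have h4 : g ∈ ((N ⊔ H : Subgroup X) : Set X) := by rw [h1]; trivial
      rw [Subgroup.normal_mul] at h4
      obtain ⟨n, hn, k, hk, e⟩ := h4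
      exact ⟨n, hn, k, hk, e.symm⟩
    have h4 := Lib.ProductSet.card_mul_card_inf_of_factorization h3
    rw [← H.index_mul_card, mul_assoc, mul_comm (Nat.card H), ← mul_assoc] at h4
    exact ⟨_, (Nat.eq_of_mul_eq_mul_right Nat.card_pos h4).symm⟩
  obtain ⟨g, hg⟩ := exists_le_map h (fun hd => not_dvd_of_le h hO hN hNM (hd.trans h2)) hH.1
  apply hc
  have h3 : H = M.map (MulAut.conj g).toMonoidHom := by
    by_contra h4
    have h5 := hH.2 _ (lt_of_le_of_ne hg h4)
    apply h.ne_top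
    rw [eq_top_iff]
    intro x _
    have h6 : g * x * g⁻¹ ∈ M.map (MulAut.conj g).toMonoidHom := by rw [h5]; trivial
    obtain ⟨y, hy, hyx⟩ := h6
    have h7 : y = x := by
      have h8 : g * y * g⁻¹ = g * x * g⁻¹ := hyx
      simpa using h8
    rwa [← h7]
  rw [h3]
  intro x hx
  refine ⟨g⁻¹ * x * g⁻¹⁻¹, hNM (hN.conj_mem _ hx _), ?_⟩
  change g * (g⁻¹ * x * g⁻¹⁻¹) * g⁻¹ = x
  group

/-! ### Quotients -/

omit [Finite X] hp in
theorem map_mk_ne_top {N M : Subgroup X} [N.Normal] (hNM : N ≤ M) (hM : M ≠ ⊤) :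
    M.map (QuotientGroup.mk' N) ≠ ⊤ := by
  intro h1
  apply hM
  have h2 := congrArg (Subgroup.comap (QuotientGroup.mk' N)) h1
  rwa [comap_map_eq, QuotientGroup.ker_mk', comap_top, sup_eq_left.2 hNM] at h2

/-- `X/N` is again minimal for normal `N ≤ M`. -/
theorem isMin_quotient (h : IsMin (S : Subgroup X) M) {N : Subgroup X} [hN : N.Normal]
    (hNM : N ≤ M) : IsMin ((S.mapSurjective (QuotientGroup.mk'_surjective N) : Sylow p (X ⧸ N)) :
      Subgroup (X ⧸ N)) (M.map (QuotientGroup.mk' N)) where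
  ne_top := map_mk_ne_top hNM h.ne_top
  le_of := fun K hK hK1 => by
    have h1 : K.comap (QuotientGroup.mk' N) ≤ M := by
      refine h.le_of _ ?_ ?_
      · rw [← map_le_iff_le_comap]
        exact hK
      · intro h2
        apply hK1
        rw [← map_comap_eq_self_of_surjective (QuotientGroup.mk'_surjective N) K, h2,
          ← MonoidHom.range_eq_map, MonoidHom.range_eq_top.2 (QuotientGroup.mk'_surjective N)]
    rw [← map_comap_eq_self_of_surjective (QuotientGroup.mk'_surjective N) K]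
    exact map_mono h1

theorem pCore_quotient_eq_bot (h : IsMin (S : Subgroup X) M) (hO : pCore p X = ⊥)
    {N : Subgroup X} [hN : N.Normal] (hNM : N ≤ M) : pCore p (X ⧸ N) = ⊥ := by
  set T : Subgroup X := (pCore p (X ⧸ N)).comap (QuotientGroup.mk' N) with hT
  have hTn : T.Normal := (Lib.Cores.pCore_normal p).comap _
  have hpow : ∀ x ∈ T, ∃ k : ℕ, x ^ p ^ k ∈ N := by
    intro x hx
    obtain ⟨k, hk⟩ := (Lib.Cores.pCore_isPGroup (G := X ⧸ N) p) ⟨(QuotientGroup.mk' N) x, hx⟩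
    refine ⟨k, ?_⟩
    rw [← QuotientGroup.eq_one_iff]
    have := congrArg Subtype.val hk
    simpa using this
  have hle : T ≤ N ⊔ ((S : Subgroup X) ⊓ T) := Lib.SylowNormalInf.le_sup_inf S T N hpow
  have hSM := sylow_le h hO
  have hTM : T ≤ M := hle.trans (sup_le hNM (inf_le_left.trans hSM))
  have h1 := not_dvd_of_le h hO hTn hTM
  -- `T / N` is a `p`-group and a `p'`-group
  rw [eq_bot_iff]
  intro y hy
  obtain ⟨x, rfl⟩ := QuotientGroup.mk'_surjective N y
  have hx : x ∈ T := hy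
  obtain ⟨k, hk⟩ := hpow x hx
  have h2 : (orderOf x).Coprime (p ^ k) := by
    apply Nat.Coprime.pow_right
    have h3 : orderOf x ∣ Nat.card T := Subgroup.orderOf_dvd_natCard T hx
    exact (((Nat.Prime.coprime_iff_not_dvd hp.out).2 h1).symm).coprime_dvd_left h3
  obtain ⟨m, hm⟩ := exists_pow_eq_self_of_coprime h2.symm
  rw [mem_bot]
  change (x : X ⧸ N) = 1
  rw [QuotientGroup.eq_one_iff, ← hm]
  exact pow_mem hk m

theorem pPrimeCore_quotient_eq_bot (N : Subgroup X) [N.Normal] (hN : N = pPrimeCore p X) :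
    pPrimeCore p (X ⧸ N) = ⊥ := by
  subst hN
  exact Lib.Cores.pPrimeCore_quotient_pPrimeCore p

/-! ### The smallest normal supplement -/

/-- `O^p(X)` : the subgroup generated by the `p'`-elements -/
def pg (p : ℕ) (X : Type*) [Group X] : Subgroup X := closure {x : X | (orderOf x).Coprime p}

omit [Finite X] hp in
theorem mem_pg {x : X} (hx : (orderOf x).Coprime p) : x ∈ pg p X := subset_closure hx

omit [Finite X] hp in
instance pg_normal : (pg p X).Normal := by
  refine ⟨fun x hx g => ?_⟩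
  have h1 : ∀ y ∈ pg p X, g * y * g⁻¹ ∈ pg p X := by
    intro y hy
    induction hy using closure_induction with
    | mem z hz =>
      refine mem_pg ?_
      have : g * z * g⁻¹ = MulAut.conj g z := rfl
      rw [this, MulEquiv.orderOf_eq]
      exact hz
    | one => rw [mul_one, mul_inv_cancel]; exact one_mem _
    | mul a b _ _ ha hb =>
      have : g * (a * b) * g⁻¹ = (g * a * g⁻¹) * (g * b * g⁻¹) := by group
      rw [this]; exact mul_mem ha hb
    | inv a _ ha =>
      have : g * a⁻¹ * g⁻¹ = (g * a * g⁻¹)⁻¹ := by group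
      rw [this]; exact inv_mem ha
  exact h1 x hx

/-- every element is the product of a `p'`-element and a `p`-element, both powers of it -/
theorem exists_pow_mem_pg (x : X) : ∃ k : ℕ, x ^ p ^ k ∈ pg p X := by
  obtain ⟨k, m, hm, he⟩ := Nat.exists_eq_pow_mul_and_not_dvd (orderOf_pos x).ne' p hp.out.one_lt.ne'
  refine ⟨k, mem_pg ?_⟩
  have h1 : orderOf (x ^ p ^ k) ∣ m := by
    rw [orderOf_dvd_iff_pow_eq_one, ← pow_mul, ← he, pow_orderOf_eq_one]
  exact (((Nat.Prime.coprime_iff_not_dvd hp.out).2 hm).symm).coprime_dvd_left h1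

theorem pg_sup (S : Sylow p X) : pg p X ⊔ (S : Subgroup X) = ⊤ := by
  have h1 := Lib.SylowNormalInf.le_sup_inf S ⊤ (pg p X) fun x _ => exists_pow_mem_pg x
  exact top_le_iff.1 (h1.trans (sup_le_sup_left inf_le_left _))

/-- `O^p(X)` lies in every normal supplement of `S`. -/
theorem pg_le {S : Sylow p X} {N : Subgroup X} (hN : N.Normal)
    (h1 : N ⊔ (S : Subgroup X) = ⊤) : pg p X ≤ N := by
  rw [pg, closure_le]
  intro x hx
  have h4 : x ∈ ((N ⊔ (S : Subgroup X) : Subgroup X) : Set X) := by rw [h1]; trivial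
  rw [Subgroup.normal_mul] at h4
  obtain ⟨n, hn, s, hs, e⟩ := h4
  obtain ⟨k, hk⟩ := S.isPGroup' ⟨s, hs⟩
  have hk' : s ^ p ^ k = 1 := congrArg Subtype.val hk
  have h2 : x ^ p ^ k ∈ N := by
    rw [← QuotientGroup.eq_one_iff (N := N), QuotientGroup.mk_pow, ← e]
    change ((n * s : X) : X ⧸ N) ^ p ^ k = 1
    rw [QuotientGroup.mk_mul, (QuotientGroup.eq_one_iff n).2 hn, one_mul, ← QuotientGroup.mk_pow,
      hk', QuotientGroup.mk_one]
  have hcop : (orderOf x).Coprime (p ^ k) := Nat.Coprime.pow_right _ hx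
  obtain ⟨m, hm⟩ := exists_pow_eq_self_of_coprime hcop.symm
  rw [SetLike.mem_coe, ← hm]
  exact pow_mem h2 m

/-- A normal subgroup lies in `M` or contains `O^p(X)`. -/
theorem le_or_pg_le (h : IsMin (S : Subgroup X) M) {N : Subgroup X} (hN : N.Normal) :
    N ≤ M ∨ pg p X ≤ N := by
  rcases le_or h N with h1 | h1
  · exact Or.inl h1
  · exact Or.inr (pg_le hN h1)

theorem pg_not_le (h : IsMin (S : Subgroup X) M) (hO : pCore p X = ⊥) : ¬ pg p X ≤ M :=
  not_le_of_sup h hO (pg_sup S)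

theorem pPrimeCore_le_pg : pPrimeCore p X ≤ pg p X := by
  intro x hx
  apply mem_pg
  exact (Lib.Cores.pPrimeCore_coprime (G := X) p).coprime_dvd_left
    (Subgroup.orderOf_dvd_natCard _ hx)

theorem pPrimeCore_le_or (h : IsMin (S : Subgroup X) M) :
    pPrimeCore p X ≤ M ∨ pPrimeCore p X ⊔ (S : Subgroup X) = ⊤ := le_or h _

/-- if `O_{p'}(X) ≤ M` : a normal subgroup is contained in `O_{p'}(X)` or contains `O^p(X)` -/
theorem le_pPrimeCore_or (h : IsMin (S : Subgroup X) M) (hO : pCore p X = ⊥) {N : Subgroup X}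
    (hN : N.Normal) : N ≤ pPrimeCore p X ∨ pg p X ≤ N := by
  rcases le_or_pg_le h hN with h1 | h1
  · exact Or.inl (le_pPrimeCore_of_le h hO hN h1)
  · exact Or.inr h1

/-- An abelian normal subgroup is trivial if both cores are. -/
theorem eq_bot_of_comm {Y : Type*} [Group Y] [Finite Y] {p : ℕ} [Fact p.Prime]
    (h1 : pCore p Y = ⊥) (h2 : pPrimeCore p Y = ⊥) {A : Subgroup Y} (hA : A.Normal)
    (hAc : ∀ x ∈ A, ∀ y ∈ A, Commute x y) : A = ⊥ := by
  by_contra hne
  -- a minimal normal subgroup in `A`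
  obtain ⟨N, hN⟩ := (Set.toFinite {N : Subgroup Y | N.Normal ∧ N ≤ A ∧ N ≠ ⊥}).exists_minimal
    ⟨A, hA, le_rfl, hne⟩
  obtain ⟨⟨hNn, hNA, hN1⟩, hmin⟩ := hN
  obtain ⟨r, hr, hrN, -⟩ := Lib.MinNormalNonabelian.abelian_structure N hN1
    (fun T hT hTN => by
      by_cases hT1 : T = ⊥
      · exact Or.inl hT1
      · exact Or.inr (le_antisymm hTN (hmin ⟨hT, hTN.trans hNA, hT1⟩ hTN)))
    (fun x hx y hy => hAc x (hNA hx) y (hNA hy))
  by_cases hrp : r = p
  · subst hrp
    exact hN1 (le_bot_iff.1 (h1 ▸ Lib.Cores.le_pCore hNn hrN))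
  · refine hN1 (le_bot_iff.1 (h2 ▸ Lib.Cores.le_pPrimeCore hNn ?_))
    have : Fact r.Prime := ⟨hr⟩
    obtain ⟨n, hn⟩ := IsPGroup.iff_card.1 hrN
    rw [hn]
    exact ((Nat.coprime_primes hr (Fact.out (p := p.Prime))).2 hrp).pow_left n

/-- `O^p(X)/O_{p'}(X)` is not trivial -/
theorem map_pg_ne_bot (h : IsMin (S : Subgroup X) M) (hO : pCore p X = ⊥)
    (h0 : pPrimeCore p X ≤ M) [(pPrimeCore p X).Normal] :
    (pg p X).map (QuotientGroup.mk' (pPrimeCore p X)) ≠ ⊥ := by
  intro h2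
  apply pg_not_le h hO
  rw [Subgroup.map_eq_bot_iff, QuotientGroup.ker_mk'] at h2
  exact h2.trans h0

/-- `O^p(X)` is perfect if `O_{p'}(X) ≤ M`. -/
theorem commutator_pg (h : IsMin (S : Subgroup X) M) (hO : pCore p X = ⊥)
    (h0 : pPrimeCore p X ≤ M) : ⁅pg p X, pg p X⁆ = pg p X := by
  apply le_antisymm (commutator_le_right _ _)
  rcases le_pPrimeCore_or h hO (N := ⁅pg p X, pg p X⁆) inferInstance with h1 | h1
  · exfalso
    have hNn : (pPrimeCore p X).Normal := Lib.Cores.pPrimeCore_normal p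
    have hq1 := pCore_quotient_eq_bot h hO h0
    have hq2 := pPrimeCore_quotient_eq_bot (p := p) (pPrimeCore p X) rfl
    refine map_pg_ne_bot h hO h0 (eq_bot_of_comm hq1 hq2
      ((inferInstance : (pg p X).Normal).map _ (QuotientGroup.mk'_surjective _)) ?_)
    rintro _ ⟨x, hx, rfl⟩ _ ⟨y, hy, rfl⟩
    have h2 : x * y * x⁻¹ * y⁻¹ ∈ pPrimeCore p X := h1 (commutator_mem_commutator hx hy)
    rw [← QuotientGroup.eq_one_iff] at h2
    have h3 : ((x : X ⧸ pPrimeCore p X)) * y * (x : X ⧸ pPrimeCore p X)⁻¹ *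
        (y : X ⧸ pPrimeCore p X)⁻¹ = 1 := h2
    change ((x : X ⧸ pPrimeCore p X)) * y = y * x
    calc (x : X ⧸ pPrimeCore p X) * y = ((x : X ⧸ pPrimeCore p X) * y *
          (x : X ⧸ pPrimeCore p X)⁻¹ * (y : X ⧸ pPrimeCore p X)⁻¹) * (y * x) := by group
      _ = y * x := by rw [h3, one_mul]
  · exact h1

open Lib.MinNormalNonabelian in
/-- **The structure of `X` if `O_{p'}(X) ≤ M`**: in `Y = X/O_{p'}(X)` the image `N` of `O^p(X)` is
the unique minimal normal subgroup, a product of nonabelian simple groups permuted transitively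
by the image of `S`, and a supplement of it. -/
theorem exists_struct (h : IsMin (S : Subgroup X) M) (hO : pCore p X = ⊥)
    (h0 : pPrimeCore p X ≤ M) [(pPrimeCore p X).Normal] {N : Subgroup (X ⧸ pPrimeCore p X)}
    (hN : N = (pg p X).map (QuotientGroup.mk' (pPrimeCore p X))) :
    N.Normal ∧ (∀ T : Subgroup (X ⧸ pPrimeCore p X), T.Normal → T = ⊥ ∨ N ≤ T) ∧
      (minSet N).Nonempty ∧ sSupIndep (minSet N) ∧ sSup (minSet N) = N ∧
      (∀ T ∈ minSet N, IsSimpleGroup T) ∧
      (∀ T ∈ minSet N, ∀ z ∈ T, (∀ t ∈ T, Commute z t) → z = 1) ∧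
      (∀ T ∈ minSet N, ∀ T' ∈ minSet N, ∃ s ∈ (S : Subgroup X),
        T' = T.map (MulAut.conj (QuotientGroup.mk' (pPrimeCore p X) s)).toMonoidHom) := by
  have hq1 := pCore_quotient_eq_bot h hO h0
  have hq2 := pPrimeCore_quotient_eq_bot (p := p) (pPrimeCore p X) rfl
  have hNn : N.Normal := by
    rw [hN]
    exact (inferInstance : (pg p X).Normal).map _ (QuotientGroup.mk'_surjective _)
  have hall : ∀ T : Subgroup (X ⧸ pPrimeCore p X), T.Normal → T = ⊥ ∨ N ≤ T := by
    intro T hT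
    rcases le_pPrimeCore_or h hO (hT.comap (QuotientGroup.mk' (pPrimeCore p X))) with h1 | h1
    · left
      rw [← map_comap_eq_self_of_surjective (QuotientGroup.mk'_surjective (pPrimeCore p X)) T,
        Subgroup.map_eq_bot_iff, QuotientGroup.ker_mk']
      exact h1
    · right
      rw [hN, map_le_iff_le_comap]
      exact h1
  have hne : N ≠ ⊥ := by
    rw [hN]
    exact map_pg_ne_bot h hO h0
  obtain ⟨a1, a2, a3, a4, a5, a6⟩ := nonabelian_structure N
    (fun T hT hTN => (hall T hT).imp id fun h1 => le_antisymm hTN h1)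
    (fun hc => hne (eq_bot_of_comm hq1 hq2 hNn hc))
  refine ⟨hNn, hall, a1, a2, a3, a4, a5, fun T hT T' hT' => ?_⟩
  obtain ⟨g, hg⟩ := a6 T hT T' hT'
  -- `g = s n` with `n ∈ N`
  obtain ⟨x, rfl⟩ := QuotientGroup.mk'_surjective (pPrimeCore p X) g
  have h4 : x ∈ (((S : Subgroup X) ⊔ pg p X : Subgroup X) : Set X) := by
    rw [sup_comm, pg_sup S]; trivial
  rw [Subgroup.mul_normal] at h4
  obtain ⟨s, hs, n, hn, rfl⟩ := h4
  refine ⟨s, hs, ?_⟩
  have hnT : T.map (MulAut.conj (QuotientGroup.mk' (pPrimeCore p X) n)).toMonoidHom = T := by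
    have h5 : QuotientGroup.mk' (pPrimeCore p X) n ∈ normalizer (T : Set _) :=
      (mem_minSet.1 hT).2.2.1 (hN ▸ ⟨n, hn, rfl⟩)
    exact mem_normalizer_iff_map_conj_eq.1 h5
  have h6 : (MulAut.conj (QuotientGroup.mk' (pPrimeCore p X) (s * n))).toMonoidHom =
      ((MulAut.conj (QuotientGroup.mk' (pPrimeCore p X) s)).toMonoidHom).comp
        (MulAut.conj (QuotientGroup.mk' (pPrimeCore p X) n)).toMonoidHom := by
    ext y
    simp [mul_assoc]
  rw [hg, show (fun m1 m2 => m1 * m2) s n = s * n from rfl, h6, ← Subgroup.map_map, hnT]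

end Cfsg.Agent.Omega.MinParStruct
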