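import Cfsg.Agent.Omega.FrameI
import Cfsg.Agent.Omega.FrameLE
import Cfsg.Agent.Omega.FrameFF
import Cfsg.Agent.Omega.RankFourOf

/-!
# OMEGA: the classification from the leaves of the master reduction (v5.2)

* `EvenLeaves K`: the leaves of the even half relative to a class `K` of groups (`Frame.All`: all groups;
  `StrQ`: the strongly quasithin case); `EvenLeaves.evenHalfK`;
* `Leaves`: all open inputs of the classification; `Leaves.classification` (the literal S0000).
-/

set_option autoImplicit false

namespace Cfsg.Agent.Omega.Main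

open Cfsg

universe u

/-- The leaves of the even half, relative to the class `K`. -/
structure EvenLeaves (K : Frame.Cls.{u}) : Prop where
  /-- Bender's theorem, landed: `StrongEmb.Strong.result` -/
  bender : Frame.Bender.{u}
  /-- case I -/
  one : Frame.NodeIK K
  /-- N1: some `V_P ≰ O₂(C_G(Z))` -/
  n1 : FrameLE.NodeN1 K
  /-- II.c, II.d -/
  multi : FrameFF.LeafMulti K
  /-- II.0h1 -/
  h1 : FrameFF.LeafH1 K
  /-- II.b -/
  b : FrameFF.LeafB K
  norm : FrameFF.NormStep K
  /-- II.a, `q = 2` -/
  a2 : FrameFF.LeafA2 K
  /-- II.a, `q ≥ 4` -/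
  a4 : FrameFF.LeafA4 K
  /-- NO-3S -/
  no3s : FrameNOFF.NodeNO3S K
  /-- NO-3L -/
  no3l : FrameNOFF.NodeNO3L K

/-- **The even half relative to `K`, from its leaves.** -/
theorem EvenLeaves.evenHalfK {K : Frame.Cls.{u}} (L : EvenLeaves K) : Frame.EvenHalfK K :=
  FrameLE.evenHalf L.bender L.one L.n1 (FrameFF.nodeFF L.multi L.h1 L.b L.norm L.a2 L.a4) L.no3s L.no3l

/-- **The even half from its leaves.** -/
theorem EvenLeaves.evenHalf (L : EvenLeaves Frame.All.{u}) : Assembly.EvenHalf.{u} := L.evenHalfK.all

/-- All open inputs of the classification. -/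
structure Leaves : Prop extends EvenLeaves Frame.All.{u} where
  /-- S1765 -/
  odd : Assembly.OddLit.{u}
  /-- the list of the simple groups of sectional 2-rank at most 4 -/
  k4 : RankFourOf.PK4.{u}
  s1738 : ∀ (G : Type u) [Group G] [Finite G], GH.AltOut.St1738 G

/-- **The classification of the finite simple groups from the leaves** (literal S0000). -/
theorem Leaves.classification (L : Leaves.{u}) (G : Type u) [Group G] [Finite G] [IsSimpleGroup G] :
    IsKnownSimple' G :=
  RankFourOf.classification_of L.odd L.toEvenLeaves.evenHalf L.k4 L.s1738 G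

end Cfsg.Agent.Omega.Main
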