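import Cfsg.Agent.Omega.Main
import Cfsg.Agent.Omega.FrameExtra
import Cfsg.Agent.Omega.FrameMulti
import Cfsg.Agent.Omega.FFMutual
import Cfsg.Agent.Omega.Node.LeafOne
import Cfsg.Agent.Omega.NO3S.Main

/-!
# OMEGA: the tree of the open inputs of the classification

`Tree K` lists, relative to a class `K` of groups, everything that the even half needs, every landed
decomposition of a leaf being substituted; `Tree.evenLeaves : Main.EvenLeaves K`.
The first group of fields are landed theorems with a large import closure; they are plugged in `S0000.lean`.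
-/

set_option autoImplicit false

namespace Cfsg.Agent.Omega.MainTree

open Cfsg Cfsg.Agent.Omega.Frame

universe u

/-- Landed theorems (Props, because their closures are large). -/
structure Landed : Prop where
  bender : Frame.Bender.{u}
  s1758 : FrameExtra.St1758.{u}
  s1759 : Exits.St1759.{u}
  s1761 : Exits.St1761.{u}
  s1762 : Exits.St1762.{u}
  s1763 : Exits.St1763.{u}

/-- `F*(C_G(z))` of symplectic type: open inputs. -/
structure SymplIn (K : Cls.{u}) : Prop where
  wc : FrameExtra.LeafWC K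
  eh3 : FrameExtra.LeafEH3 K

theorem SymplIn.sympl {K : Cls.{u}} (L : Landed.{u}) (I : SymplIn K) : FrameExtra.NodeSympl K :=
  FrameExtra.nodeSympl L.s1758
    (FrameExtra.nodeExtra Node.LeafOne.leafOne L.s1759 L.s1761 L.s1762 L.s1763 I.wc I.eh3)

/-- The FF theorem gives the types of all members of mutual pairs. -/
theorem typedStep (h : FFThm.Stmt.{u}) : FrameMulti.TypedStep.{u} := by
  intro G _ _ hG S P₁ P₂ x hm
  obtain ⟨⟨h1, h2⟩, ⟨h3, h4⟩, -⟩ := FFThm.of_mutual h hG.char2 S hm
  exact ⟨⟨h1, h2⟩, ⟨h3, h4⟩⟩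

/-- Case FF: open inputs. -/
structure FFIn (K : Cls.{u}) : Prop where
  ff : FFThm.Stmt.{u}
  wr : FrameMulti.LeafWr K
  symWr : FrameMulti.LeafSymWr K
  c : FrameMulti.LeafC K
  f4 : FrameMulti.LeafF4 K
  h1 : FrameFF.LeafH1 K
  b : FrameExtra.NodeSympl K → FrameFF.LeafB K
  norm : FrameFF.NormStep K
  a2 : FrameExtra.NodeSympl K → FrameFF.LeafA2 K
  a4 : FrameFF.LeafA4 K

theorem FFIn.multi {K : Cls.{u}} (I : FFIn K) : FrameFF.LeafMulti K :=
  FrameMulti.leafMulti_of (typedStep I.ff) I.wr I.symWr I.c I.f4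

/-- Case NO-3S: open inputs. -/
structure NO3SIn (K : Cls.{u}) : Prop where
  inp : NO3S.In K

/-- the leaf NO-3S -/
theorem NO3SIn.no3s {K : Cls.{u}} (I : NO3SIn K) : FrameNOFF.NodeNO3S K := I.inp.node

/-- **The open inputs of the even half, relative to `K`.** -/
structure Tree (K : Cls.{u}) : Prop where
  sympl : SymplIn K
  noConfig : FrameI.NoConfig.{u}
  n1 : FrameExtra.NodeSympl K → FrameLE.NodeN1 K
  ff : FFIn K
  no3s : NO3SIn K
  no3l : FrameNOFF.NodeNO3L K

theorem Tree.evenLeaves {K : Cls.{u}} (L : Landed.{u}) (T : Tree K) : Main.EvenLeaves K where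
  bender := L.bender
  one := (FrameI.nodeI_of_noConfig T.noConfig).toK
  n1 := T.n1 (T.sympl.sympl L)
  multi := T.ff.multi
  h1 := T.ff.h1
  b := T.ff.b (T.sympl.sympl L)
  norm := T.ff.norm
  a2 := T.ff.a2 (T.sympl.sympl L)
  a4 := T.ff.a4
  no3s := T.no3s.no3s
  no3l := T.no3l

/-- **The classification from the tree** (literal S0000). -/
theorem classification (L : Landed.{u}) (T : Tree All.{u}) (odd : Assembly.OddLit.{u})
    (k4 : RankFourOf.PK4.{u}) (s1738 : ∀ (G : Type u) [Group G] [Finite G], GH.AltOut.St1738 G)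
    (G : Type u) [Group G] [Finite G] [IsSimpleGroup G] : IsKnownSimple' G :=
  Main.Leaves.classification { toEvenLeaves := T.evenLeaves L, odd := odd, k4 := k4, s1738 := s1738 } G

end Cfsg.Agent.Omega.MainTree
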