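import Cfsg.Agent.GH.Defs
import Cfsg.Agent.GH.C2Frame
import Cfsg.Agent.J2Sylow.J3EndAux

/-!
# Characteristic 2 type: no 2-component of a centralizer of an involution

* `not_comp2` : in a group of characteristic 2 type, no centralizer of an involution has a 2-component;
* `not_hasAltCover` : the case `HasAltCover` of the list `K4` does not occur in characteristic 2 type.
-/

set_option autoImplicit false

open Cfsg Subgroup
open Cfsg.Agent.Intrinsic.Basic
open Cfsg.Agent.GH.Defs

namespace Cfsg.Agent.Omega.NoComp

variable {G : Type*} [Group G]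

/-- Characteristic 2 type: centralizers of involutions have characteristic 2. -/
theorem char2_centralizer (hG : IsCharacteristicTwoType G) {t : G} (ht : orderOf t = 2) :
    IsOfCharacteristicTwo ↥(centralizer ({t} : Set G)) := by
  have ht2 : t * t = 1 := by rw [← pow_two, ← ht, pow_orderOf_eq_one]
  have ht1 : t ≠ 1 := by
    rintro rfl
    simp at ht
  have h := hG.2 (zpowers t) (GH.C2Frame.isPGroup_zpowers ht2) (fun h => ht1 (zpowers_eq_bot.mp h))
  rwa [GH.C2Frame.normalizer_zpowers ht2] at h

/-- A group of characteristic 2 has no component modulo its core. -/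
theorem not_hasComponent {H : Type*} [Group H] [Finite H] (h : IsOfCharacteristicTwo H) :
    ¬ HasComponent (H ⧸ oddCore H) := by
  have : Fact (Nat.Prime 2) := ⟨Nat.prime_two⟩
  have hO := J2Sylow.J3EndAux.oddCore_eq_bot h
  refine J2Sylow.J3EndAux.not_hasComponent (pCore 2 H) (pCore 2 H) (Lib.Cores.pCore_isPGroup 2)
    (Lib.Cores.pCore_normal 2) le_rfl le_sup_left ?_
  intro g hg
  refine h (mem_centralizer_iff.mpr fun x hx => ?_)
  have h1 := hg x hx
  rw [hO, mem_bot, mul_inv_eq_one] at h1
  exact (mul_inv_eq_iff_eq_mul.mp h1).symm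

/-- Characteristic 2 type: no 2-component of a centralizer of an involution. -/
theorem not_comp2 [Finite G] (hG : IsCharacteristicTwoType G) {t : G} {K : Subgroup G}
    (h : Comp2 t K) : False :=
  not_hasComponent (char2_centralizer hG h.inv) ⟨_, h.comp.2.2.1⟩

/-- Characteristic 2 type: no 2-component `2.A_n`. -/
theorem not_hasAltCover [Finite G] (hG : IsCharacteristicTwoType G) : ¬ HasAltCover G := by
  rintro ⟨n, t, K, -, h, -, -⟩
  exact not_comp2 hG h

/-- Characteristic 2 type and component type exclude each other. -/
theorem not_isComponentType [Finite G] (hG : IsCharacteristicTwoType G) : ¬ IsComponentType G := by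
  rintro ⟨t, ht, h⟩
  exact not_hasComponent (char2_centralizer hG ht) h

end Cfsg.Agent.Omega.NoComp
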