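import Mathlib.GroupTheory.Sylow
import Mathlib.GroupTheory.SpecificGroups.Cyclic
import Mathlib.GroupTheory.GroupAction.Quotient
import Mathlib.Algebra.Group.Action.Faithful
import Mathlib.FieldTheory.Finite.Basic
import Mathlib.GroupTheory.Perm.Cycle.Type
import Cfsg.Agent.LieRecognition.FT61.Zsig

/-!
# OMEGA, II.d (#13363 (2), #14101): Theorem OT

`V = Z₀ × Z₁` elementary abelian, `|Zᵢ| = 2ᵃ`, `a ≥ 2`; `D` of odd order, faithful on `V`; `Tᵢ ≤ D` cyclic, trivial on
`Z₁₋ᵢ`, regular on `Zᵢ \ {1}`. Then no element of `D` maps an element of `Z₀ \ {1}` to an element of `Z₁`.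
-/

set_option autoImplicit false
set_option linter.unusedSectionVars false

namespace Cfsg.Agent.Omega.OddTrans

open Subgroup

/-- the hypotheses -/
structure Hyp (D V : Type*) [Group D] [CommGroup V] [MulDistribMulAction D V] where
  a : ℕ
  ha : 2 ≤ a
  Z : Bool → Subgroup V
  T : Bool → Subgroup D
  odd : Odd (Nat.card D)
  faith : ∀ d : D, (∀ v : V, d • v = v) → d = 1
  card : ∀ i, Nat.card (Z i) = 2 ^ a
  disj : ∀ i, ∀ v ∈ Z i, v ∈ Z (!i) → v = 1
  gen : ∀ i, ∀ v : V, ∃ v0 ∈ Z i, ∃ v1 ∈ Z (!i), v = v0 * v1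
  triv : ∀ i, ∀ t ∈ T i, ∀ z ∈ Z (!i), t • z = z
  stab : ∀ i, ∀ t ∈ T i, ∀ z ∈ Z i, t • z ∈ Z i
  reg : ∀ i, ∀ t ∈ T i, ∀ z ∈ Z i, z ≠ 1 → t • z = z → t = 1
  trans : ∀ i, ∀ z ∈ Z i, z ≠ 1 → ∀ w ∈ Z i, w ≠ 1 → ∃ t ∈ T i, t • z = w
  cyc : ∀ i, IsCyclic (T i)

variable {D V : Type*} [Group D] [CommGroup V] [MulDistribMulAction D V] (H : Hyp D V)

namespace Hyp

theorem uniq (i : Bool) {v0 v1 w0 w1 : V} (h0 : v0 ∈ H.Z i) (h1 : v1 ∈ H.Z (!i)) (k0 : w0 ∈ H.Z i)
    (k1 : w1 ∈ H.Z (!i)) (h : v0 * v1 = w0 * w1) : v0 = w0 ∧ v1 = w1 := by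
  have e : w0⁻¹ * v0 = w1 * v1⁻¹ := by
    calc w0⁻¹ * v0 = w0⁻¹ * (v0 * v1) * v1⁻¹ := by group
      _ = w0⁻¹ * (w0 * w1) * v1⁻¹ := by rw [h]
      _ = w1 * v1⁻¹ := by group
  have h2 : w0⁻¹ * v0 = 1 := by
    apply H.disj i
    · exact (H.Z i).mul_mem ((H.Z i).inv_mem k0) h0
    · rw [e]; exact (H.Z (!i)).mul_mem k1 ((H.Z (!i)).inv_mem h1)
  have h3 : v0 = w0 := by rw [inv_mul_eq_one] at h2; exact h2.symm
  subst h3
  exact ⟨rfl, mul_left_cancel h⟩

/-- the fixed points of `t ∈ T i`, `t ≠ 1` -/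
theorem fix_iff {i : Bool} {t : D} (ht : t ∈ H.T i) (ht1 : t ≠ 1) {v : V} : t • v = v ↔ v ∈ H.Z (!i) := by
  constructor
  · intro h
    obtain ⟨v0, h0, v1, h1, rfl⟩ := H.gen i v
    rw [smul_mul', H.triv i t ht v1 h1] at h
    have h2 : t • v0 = v0 := mul_right_cancel h
    have h3 : v0 = 1 := by
      by_contra hne
      exact ht1 (H.reg i t ht v0 h0 hne h2)
    rw [h3, one_mul]; exact h1
  · exact H.triv i t ht v

theorem eq_of_act {x y : D} (h : ∀ i, ∀ z ∈ H.Z i, x • z = y • z) : x = y := by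
  have h1 : y⁻¹ * x = 1 := by
    apply H.faith
    intro v
    obtain ⟨v0, h0, v1, h1, rfl⟩ := H.gen false v
    rw [mul_smul, smul_mul', h false v0 h0, h _ v1 h1, ← smul_mul', inv_smul_smul]
  rw [inv_mul_eq_one] at h1
  exact h1.symm

theorem comm {i j : Bool} {s t : D} (hs : s ∈ H.T i) (ht : t ∈ H.T j) : s * t = t * s := by
  by_cases hij : i = j
  · subst hij
    have := H.cyc i
    have h := (IsCyclic.commGroup (α := H.T i)).mul_comm ⟨s, hs⟩ ⟨t, ht⟩
    exact congrArg Subtype.val h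
  · have hj : j = !i := by cases i <;> cases j <;> simp_all
    subst hj
    apply H.eq_of_act
    intro k z hz
    rw [mul_smul, mul_smul]
    by_cases hk : k = i
    · subst hk
      have h1 : t • z = z := H.triv (!k) t ht z (by rwa [Bool.not_not])
      have h2 : t • (s • z) = s • z := H.triv (!k) t ht _ (by rw [Bool.not_not]; exact H.stab k s hs z hz)
      rw [h1, h2]
    · have hk' : k = !i := by cases i <;> cases k <;> simp_all
      subst hk'
      rw [H.triv i s hs z hz, H.triv i s hs _ (H.stab (!i) t ht z hz)]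

/-- `Y`: the `p`-elements of `T₀T₁` -/
def Y (p : ℕ) : Subgroup D where
  carrier := {x | (∃ s ∈ H.T false, ∃ t ∈ H.T true, x = s * t) ∧ ∃ k, x ^ p ^ k = 1}
  one_mem' := ⟨⟨1, one_mem _, 1, one_mem _, by group⟩, 0, by simp⟩
  mul_mem' := by
    rintro _ _ ⟨⟨s, hs, t, ht, rfl⟩, k, hk⟩ ⟨⟨s', hs', t', ht', rfl⟩, k', hk'⟩
    have e : s * t * (s' * t') = s * s' * (t * t') := by
      calc s * t * (s' * t') = s * (t * s') * t' := by group
        _ = s * (s' * t) * t' := by rw [H.comm ht hs']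
        _ = _ := by group
    refine ⟨⟨s * s', mul_mem hs hs', t * t', mul_mem ht ht', e⟩, k + k', ?_⟩
    have hc : Commute (s * t) (s' * t') := by
      show s * t * (s' * t') = s' * t' * (s * t)
      have e' : s' * t' * (s * t) = s' * s * (t' * t) := by
        calc s' * t' * (s * t) = s' * (t' * s) * t := by group
          _ = s' * (s * t') * t := by rw [H.comm ht' hs]
          _ = _ := by group
      rw [e, e', H.comm hs hs', H.comm ht ht']
    rw [hc.mul_pow, pow_add]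
    rw [pow_mul (s * t), hk, one_pow, one_mul, mul_comm (p ^ k), pow_mul, hk', one_pow]
  inv_mem' := by
    rintro _ ⟨⟨s, hs, t, ht, rfl⟩, k, hk⟩
    refine ⟨⟨s⁻¹, inv_mem hs, t⁻¹, inv_mem ht, ?_⟩, k, ?_⟩
    · rw [mul_inv_rev, H.comm (inv_mem ht) (inv_mem hs)]
    · rw [inv_pow, hk, inv_one]

theorem mem_Y {p : ℕ} {x : D} : x ∈ H.Y p ↔ (∃ s ∈ H.T false, ∃ t ∈ H.T true, x = s * t) ∧ ∃ k, x ^ p ^ k = 1 := Iff.rfl

theorem Y_comm {p : ℕ} {x y : D} (hx : x ∈ H.Y p) (hy : y ∈ H.Y p) : x * y = y * x := by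
  obtain ⟨⟨s, hs, t, ht, rfl⟩, -⟩ := hx
  obtain ⟨⟨s', hs', t', ht', rfl⟩, -⟩ := hy
  have e : s * t * (s' * t') = s * s' * (t * t') := by
    calc s * t * (s' * t') = s * (t * s') * t' := by group
      _ = s * (s' * t) * t' := by rw [H.comm ht hs']
      _ = _ := by group
  have e' : s' * t' * (s * t) = s' * s * (t' * t) := by
    calc s' * t' * (s * t) = s' * (t' * s) * t := by group
      _ = s' * (s * t') * t := by rw [H.comm ht' hs]
      _ = _ := by group
  rw [e, e', H.comm hs hs', H.comm ht ht']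

/-- elements of `Y` with a fixed point lie in `T₀` or `T₁` -/
theorem mem_T_of_fix {p : ℕ} {x : D} (hx : x ∈ H.Y p) {v : V} (hv : v ≠ 1) (h : x • v = v) : ∃ i, x ∈ H.T i := by
  obtain ⟨⟨s, hs, t, ht, rfl⟩, -⟩ := hx
  obtain ⟨v0, h0, v1, h1, rfl⟩ := H.gen false v
  have e : (s * t) • (v0 * v1) = (s • v0) * (t • v1) := by
    rw [smul_mul', mul_smul, mul_smul, H.triv true t ht v0 h0, H.triv false s hs _ (H.stab true t ht v1 h1)]
  rw [e] at h
  obtain ⟨k0, k1⟩ := H.uniq false (H.stab false s hs v0 h0) (H.stab true t ht v1 h1) h0 h1 h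
  by_cases hv0 : v0 = 1
  · have hv1 : v1 ≠ 1 := by
      rintro rfl
      exact hv (by rw [hv0, one_mul])
    have : t = 1 := H.reg true t ht v1 h1 hv1 k1
    exact ⟨false, by rw [this, mul_one]; exact hs⟩
  · have : s = 1 := H.reg false s hs v0 h0 hv0 k0
    exact ⟨true, by rw [this, one_mul]; exact ht⟩

theorem two_le_card (i : Bool) [Finite V] : ∃ z ∈ H.Z i, z ≠ 1 := by
  by_contra hcon
  push Not at hcon
  have h1 : H.Z i = ⊥ := eq_bot_iff.2 fun w hw => by rw [mem_bot]; exact hcon w hw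
  have h2 := H.card i
  rw [h1, card_bot] at h2
  have h3 : 2 ^ 2 ≤ 2 ^ H.a := Nat.pow_le_pow_right (by norm_num) H.ha
  omega

/-- an element of `D` cannot map `Zᵢ` into `Z₁₋ᵢ` and `Z₁₋ᵢ` into `Zᵢ` -/
theorem no_swap [Finite V] [Finite D] {x : D} {i : Bool} (h0 : ∀ z ∈ H.Z i, x • z ∈ H.Z (!i))
    (h1 : ∀ z ∈ H.Z (!i), x • z ∈ H.Z i) : False := by
  have key : ∀ k : ℕ, ∀ z ∈ H.Z i, x ^ (2 * k) • z ∈ H.Z i := by
    intro k
    induction k with
    | zero => intro z hz; simpa using hz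
    | succ k ih =>
      intro z hz
      have e : x ^ (2 * (k + 1)) • z = x ^ (2 * k) • (x • (x • z)) := by
        rw [mul_add, pow_add, mul_smul]
        congr 1
        rw [mul_one, pow_two, mul_smul]
      rw [e]
      exact ih _ (h1 _ (h0 _ hz))
  obtain ⟨k, hk⟩ := H.odd
  obtain ⟨z, hz, hz1⟩ := H.two_le_card i
  apply hz1
  apply H.disj i z hz
  have h2 : x ^ (2 * k + 1) = 1 := by rw [← hk]; exact pow_card_eq_one'
  have h3 : z = x • (x ^ (2 * k) • z) := by
    rw [← mul_smul, ← pow_succ', h2, one_smul]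
  rw [h3]
  exact h0 _ (key k z hz)

/-- an element normalising `Y` cannot map `Zᵢ` into `Z₁₋ᵢ` -/
theorem norm_swap [Finite V] [Finite D] {p : ℕ} {d : Bool → D} (hd : ∀ i, d i ∈ H.T i) (hd1 : ∀ i, d i ≠ 1)
    (hdp : ∀ i, d i ^ p = 1) {x : D} (hx : ∀ y ∈ H.Y p, x * y * x⁻¹ ∈ H.Y p) {i : Bool}
    (h0 : ∀ z ∈ H.Z i, x • z ∈ H.Z (!i)) : False := by
  have hdY : ∀ j, d j ∈ H.Y p := by
    intro j
    rw [H.mem_Y]
    refine ⟨?_, 1, by rw [pow_one]; exact hdp j⟩
    cases j
    · exact ⟨d false, hd false, 1, one_mem _, by rw [mul_one]⟩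
    · exact ⟨1, one_mem _, d true, hd true, by rw [one_mul]⟩
  obtain ⟨z, hz, hz1⟩ := H.two_le_card i
  obtain ⟨w, hw, hw1⟩ := H.two_le_card (!i)
  have hy := hx _ (hdY i)
  set y := x * d i * x⁻¹ with hydef
  have hyx : ∀ v : V, y • (x • v) = x • (d i • v) := by
    intro v
    rw [hydef, mul_smul, mul_smul, inv_smul_smul]
  have hy1 : y ≠ 1 := by
    intro h
    apply hd1 i
    rw [hydef] at h
    have := conj_eq_one_iff.1 h
    exact this
  have hyw : y • (x • w) = x • w := by rw [hyx, H.triv i _ (hd i) w hw]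
  have hxw1 : x • w ≠ 1 := by
    intro h
    apply hw1
    rw [← inv_smul_smul x w, h, smul_one]
  obtain ⟨j, hj⟩ := H.mem_T_of_fix hy hxw1 hyw
  by_cases hji : j = i
  · subst hji
    have h3 : y • (x • z) = x • z := H.triv j y hj _ (h0 z hz)
    rw [hyx] at h3
    have h4 : d j • z = z := by
      have := congrArg (x⁻¹ • ·) h3
      simpa using this
    exact hd1 j (H.reg j _ (hd j) z hz hz1 h4)
  · have hj' : j = !i := by cases i <;> cases j <;> simp_all
    subst hj'
    refine H.no_swap h0 (fun u hu => ?_)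
    have h3 : y • (x • u) = x • u := by rw [hyx, H.triv i _ (hd i) u hu]
    have h4 := (H.fix_iff hj hy1).1 h3
    rwa [Bool.not_not] at h4

/-- an element normalising `Y` normalises the subgroups of order `p` of `T₀` and `T₁` -/
theorem norm_T [Finite V] [Finite D] {p : ℕ} {d : Bool → D} (hd : ∀ i, d i ∈ H.T i) (hd1 : ∀ i, d i ≠ 1)
    (hdp : ∀ i, d i ^ p = 1) {x : D} (hx : ∀ y ∈ H.Y p, x * y * x⁻¹ ∈ H.Y p) (i : Bool) :
    x * d i * x⁻¹ ∈ H.T i := by
  have hdY : ∀ j, d j ∈ H.Y p := by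
    intro j
    rw [H.mem_Y]
    refine ⟨?_, 1, by rw [pow_one]; exact hdp j⟩
    cases j
    · exact ⟨d false, hd false, 1, one_mem _, by rw [mul_one]⟩
    · exact ⟨1, one_mem _, d true, hd true, by rw [one_mul]⟩
  obtain ⟨w, hw, hw1⟩ := H.two_le_card (!i)
  have hy := hx _ (hdY i)
  set y := x * d i * x⁻¹ with hydef
  have hyx : ∀ v : V, y • (x • v) = x • (d i • v) := by
    intro v
    rw [hydef, mul_smul, mul_smul, inv_smul_smul]
  have hy1 : y ≠ 1 := by
    intro h
    apply hd1 i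
    rw [hydef] at h
    have := conj_eq_one_iff.1 h
    exact this
  have hyw : y • (x • w) = x • w := by rw [hyx, H.triv i _ (hd i) w hw]
  have hxw1 : x • w ≠ 1 := by
    intro h
    apply hw1
    rw [← inv_smul_smul x w, h, smul_one]
  obtain ⟨j, hj⟩ := H.mem_T_of_fix hy hxw1 hyw
  by_cases hji : j = i
  · subst hji; exact hj
  · exfalso
    have hj' : j = !i := by cases i <;> cases j <;> simp_all
    subst hj'
    refine H.norm_swap hd hd1 hdp hx (i := !i) (fun u hu => ?_)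
    have h3 : y • (x • u) = x • u := by rw [hyx, H.triv i _ (hd i) u hu]
    exact (H.fix_iff hj hy1).1 h3

/-- in a finite cyclic group two elements of the same order generate the same subgroup -/
theorem mem_zpowers_of_cyc {G : Type*} [Group G] [Finite G] (T : Subgroup G) (hT : IsCyclic T) {a b : G} (ha : a ∈ T)
    (hb : b ∈ T) (hab : orderOf a = orderOf b) : b ∈ zpowers a := by
  classical
  have := Fintype.ofFinite T
  set A : T := ⟨a, ha⟩ with hA
  set B : T := ⟨b, hb⟩ with hB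
  have hn : 0 < orderOf A := orderOf_pos A
  have hle := IsCyclic.card_pow_eq_one_le (α := T) hn
  have hsub : (Finset.univ.filter (fun x : T => x ∈ zpowers A)) ⊆
      Finset.univ.filter (fun x : T => x ^ orderOf A = 1) := by
    intro x hx
    simp only [Finset.mem_filter, Finset.mem_univ, true_and] at hx ⊢
    obtain ⟨k, rfl⟩ := hx
    change (A ^ k) ^ orderOf A = 1
    rw [← zpow_natCast, ← zpow_mul, mul_comm, zpow_mul, zpow_natCast, pow_orderOf_eq_one, one_zpow]
  have hcard : (Finset.univ.filter (fun x : T => x ∈ zpowers A)).card = orderOf A := by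
    rw [← Nat.card_zpowers, Nat.card_eq_fintype_card, Fintype.card_subtype]
  have heq := Finset.eq_of_subset_of_card_le hsub (by rw [hcard]; exact hle)
  have hBmem : B ∈ Finset.univ.filter (fun x : T => x ^ orderOf A = 1) := by
    simp only [Finset.mem_filter, Finset.mem_univ, true_and]
    have : orderOf A = orderOf B := by rw [hA, hB, Subgroup.orderOf_mk, Subgroup.orderOf_mk, hab]
    rw [this, pow_orderOf_eq_one]
  rw [← heq] at hBmem
  simp only [Finset.mem_filter, Finset.mem_univ, true_and] at hBmem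
  obtain ⟨k, hk⟩ := hBmem
  exact ⟨k, by simpa using congrArg Subtype.val hk⟩

/-- a `p`-element normalising a subgroup of order `p` centralises it -/
theorem comm_of_norm {G : Type*} [Group G] {p : ℕ} [Fact p.Prime] {x a : G} (ha : orderOf a = p) {m : ℕ}
    (hx : x ^ p ^ m = 1) (h : x * a * x⁻¹ ∈ zpowers a) : x * a = a * x := by
  obtain ⟨k, hk⟩ := h
  change a ^ k = x * a * x⁻¹ at hk
  have key : ∀ n : ℕ, x ^ n * a * (x ^ n)⁻¹ = a ^ (k ^ n) := by
    intro n
    induction n with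
    | zero => simp
    | succ n ih =>
      have e1 : x ^ (n + 1) * a * (x ^ (n + 1))⁻¹ = x * (x ^ n * a * (x ^ n)⁻¹) * x⁻¹ := by
        rw [pow_succ']; group
      rw [e1, ih]
      have e2 : x * a ^ (k ^ n) * x⁻¹ = (x * a * x⁻¹) ^ (k ^ n) := by
        rw [← conj_zpow]
      rw [e2, ← hk, ← zpow_mul, pow_succ, mul_comm k]
  have h1 := key (p ^ m)
  rw [hx] at h1
  have h2 : a ^ (k ^ p ^ m) = a ^ (1 : ℤ) := by rw [← h1]; group
  have h3 : (k ^ p ^ m : ℤ) ≡ 1 [ZMOD p] := by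
    have := zpow_eq_zpow_iff_modEq.1 h2
    rwa [ha] at this
  have h4 : (k : ℤ) ≡ 1 [ZMOD p] := by
    rw [← ZMod.intCast_eq_intCast_iff] at h3 ⊢
    rw [← h3]
    push_cast
    rw [ZMod.pow_card_pow]
  have h5 : a ^ k = a ^ (1 : ℤ) := by
    rw [zpow_eq_zpow_iff_modEq, ha]; exact h4
  rw [hk, zpow_one] at h5
  calc x * a = (x * a * x⁻¹) * x := by group
    _ = a * x := by rw [h5]

/-- the condition on the prime `p` -/
def Kp (p : ℕ) (d : Bool → D) : Prop :=
  ∀ x : D, (∃ k, x ^ p ^ k = 1) → (∀ i, x * d i = d i * x) → ∃ s ∈ H.T false, ∃ t ∈ H.T true, x = s * t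

theorem isPGroup_Y (p : ℕ) : IsPGroup p (H.Y p) := by
  rintro ⟨x, hx⟩
  obtain ⟨-, k, hk⟩ := hx
  exact ⟨k, by ext; simpa using hk⟩

theorem exists_sylow [Finite V] [Finite D] {p : ℕ} [Fact p.Prime] {d : Bool → D} (hd : ∀ i, d i ∈ H.T i)
    (hdp : ∀ i, orderOf (d i) = p) (hK : H.Kp p d) : ∃ P : Sylow p D, (P : Subgroup D) = H.Y p := by
  obtain ⟨P, hP⟩ := (H.isPGroup_Y p).exists_le_sylow
  refine ⟨P, le_antisymm ?_ hP⟩
  by_contra hcon
  have hd1 : ∀ i, d i ≠ 1 := by
    intro i h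
    have := hdp i
    rw [h, orderOf_one] at this
    exact (Fact.out : p.Prime).one_lt.ne this
  have hdpow : ∀ i, d i ^ p = 1 := fun i => by rw [← hdp i]; exact pow_orderOf_eq_one _
  have hlt : (H.Y p).subgroupOf (P : Subgroup D) < ⊤ := by
    rw [lt_top_iff_ne_top]
    intro h
    rw [subgroupOf_eq_top] at h
    exact hcon h
  have : Group.IsNilpotent (P : Subgroup D) := P.isPGroup'.isNilpotent
  have hn := Group.normalizerCondition_of_isNilpotent (G := (P : Subgroup D)) _ hlt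
  obtain ⟨⟨x, hxP⟩, hx1, hx2⟩ := SetLike.exists_of_lt hn
  apply hx2
  rw [mem_subgroupOf]
  have hxn : ∀ y ∈ H.Y p, x * y * x⁻¹ ∈ H.Y p := by
    intro y hy
    have h1 := (mem_normalizer_iff.1 hx1 ⟨y, hP hy⟩).1 (by rw [mem_subgroupOf]; exact hy)
    rw [mem_subgroupOf] at h1
    exact h1
  have hxp : ∃ k, x ^ p ^ k = 1 := by
    obtain ⟨k, hk⟩ := P.isPGroup' ⟨x, hxP⟩
    exact ⟨k, by simpa using congrArg Subtype.val hk⟩
  obtain ⟨m, hm⟩ := hxp
  rw [H.mem_Y]
  refine ⟨hK x ⟨m, hm⟩ (fun i => ?_), m, hm⟩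
  apply comm_of_norm (hdp i) hm
  apply mem_zpowers_of_cyc (H.T i) (H.cyc i) (hd i) (H.norm_T hd hd1 hdpow hxn i)
  have := (MulAut.conj x).orderOf_eq (d i)
  rw [MulAut.conj_apply] at this
  exact this.symm


theorem conj_mem_smul {G : Type*} [Group G] {p : ℕ} (P : Sylow p G) {x : G} (hx : x ∈ (P : Subgroup G)) (g : G) :
    g * x * g⁻¹ ∈ ((g • P : Sylow p G) : Subgroup G) := by
  rw [Sylow.coe_subgroup_smul]
  have := Subgroup.smul_mem_pointwise_smul x (MulAut.conj g) (P : Subgroup G) hx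
  simpa [MulAut.smul_def, MulAut.conj_apply] using this

/-- the conjugates of two `p`-subgroups of `St` into a common `p`-subgroup -/
theorem common_sylow {G : Type*} [Group G] [Finite G] {p : ℕ} [Fact p.Prime] (St : Subgroup G) {a b : G}
    (ha : a ∈ St) (hb : b ∈ St) (hap : a ^ p = 1) (hbp : b ^ p = 1) :
    ∃ s ∈ St, ∃ Q : Subgroup G, IsPGroup p Q ∧ Q ≤ St ∧ a ∈ Q ∧ s * b * s⁻¹ ∈ Q := by
  have hz : ∀ c : St, c ^ p = 1 → IsPGroup p (zpowers c) := by
    intro c hc
    rintro ⟨_, k, rfl⟩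
    refine ⟨1, ?_⟩
    ext
    simp only [pow_one, OneMemClass.coe_one]
    change (((c ^ k) ^ p : St) : G) = 1
    rw [← zpow_natCast, ← zpow_mul, mul_comm, zpow_mul, zpow_natCast, hc, one_zpow, OneMemClass.coe_one]
  obtain ⟨P, hP⟩ := (hz ⟨a, ha⟩ (by ext; simpa using hap)).exists_le_sylow
  obtain ⟨R, hR⟩ := (hz ⟨b, hb⟩ (by ext; simpa using hbp)).exists_le_sylow
  obtain ⟨s, hs⟩ := MulAction.exists_smul_eq St R P
  refine ⟨s, s.2, (P : Subgroup St).map St.subtype, P.isPGroup'.map _, ?_, ?_, ?_⟩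
  · rintro _ ⟨x, -, rfl⟩; exact x.2
  · exact ⟨⟨a, ha⟩, hP (mem_zpowers _), rfl⟩
  · refine ⟨s * ⟨b, hb⟩ * s⁻¹, ?_, rfl⟩
    rw [← hs]
    have h1 : (⟨b, hb⟩ : St) ∈ (R : Subgroup St) := hR (mem_zpowers _)
    exact conj_mem_smul R h1 s

theorem no_fusion_aux [Finite V] [Finite D] {p : ℕ} [Fact p.Prime] {d : Bool → D} (hd : ∀ i, d i ∈ H.T i)
    (hdp : ∀ i, orderOf (d i) = p) (hK : H.Kp p d) {g : D} {v : V} (hv : v ∈ H.Z false) (hv1 : v ≠ 1)
    (hg : g • v ∈ H.Z true) : False := by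
  have hd1 : ∀ i, d i ≠ 1 := by
    intro i h
    have := hdp i
    rw [h, orderOf_one] at this
    exact (Fact.out : p.Prime).one_lt.ne this
  have hdpow : ∀ i, d i ^ p = 1 := fun i => by rw [← hdp i]; exact pow_orderOf_eq_one _
  have hdY : ∀ j, d j ∈ H.Y p := by
    intro j
    rw [H.mem_Y]
    refine ⟨?_, 1, by rw [pow_one]; exact hdpow j⟩
    cases j
    · exact ⟨d false, hd false, 1, one_mem _, by rw [mul_one]⟩
    · exact ⟨1, one_mem _, d true, hd true, by rw [one_mul]⟩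
  obtain ⟨P, hP⟩ := H.exists_sylow hd hdp hK
  set u := g • v with hu
  have hu1 : u ≠ 1 := by
    intro h
    apply hv1
    rw [← inv_smul_smul g v, ← hu, h, smul_one]
  set St := MulAction.stabilizer D u with hSt
  have h0 : d false ∈ St := by
    rw [hSt, MulAction.mem_stabilizer_iff]
    exact H.triv false _ (hd false) u hg
  have h1 : g * d true * g⁻¹ ∈ St := by
    rw [hSt, MulAction.mem_stabilizer_iff, hu, mul_smul, mul_smul, inv_smul_smul, H.triv true _ (hd true) v hv]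
  obtain ⟨s, hs, Q, hQp, hQSt, hQ0, hQ1⟩ := common_sylow (p := p) St h0 h1 (hdpow false)
    (by rw [conj_pow, hdpow, mul_one, mul_inv_cancel])
  -- conjugate `Q` into `Y`
  obtain ⟨P', hP'⟩ := hQp.exists_le_sylow
  obtain ⟨e, he⟩ := MulAction.exists_smul_eq D P' P
  have hconj : ∀ x ∈ Q, e * x * e⁻¹ ∈ H.Y p := by
    intro x hx
    rw [← hP, ← he]
    exact conj_mem_smul P' (hP' hx) e
  have hfix : ∀ x ∈ Q, (e * x * e⁻¹) • (e • u) = e • u := by
    intro x hx
    have h2 : x • u = u := MulAction.mem_stabilizer_iff.1 (hQSt hx)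
    rw [mul_smul, mul_smul, inv_smul_smul, h2]
  have hw1 : e • u ≠ 1 := by
    intro h
    apply hu1
    rw [← inv_smul_smul e u, h, smul_one]
  set u1 := e * d false * e⁻¹ with hu1def
  set u2 := e * (s * (g * d true * g⁻¹) * s⁻¹) * e⁻¹ with hu2def
  obtain ⟨j, hj⟩ := H.mem_T_of_fix (hconj _ hQ0) hw1 (hfix _ hQ0)
  obtain ⟨j', hj'⟩ := H.mem_T_of_fix (hconj _ hQ1) hw1 (hfix _ hQ1)
  have hu11 : u1 ≠ 1 := by
    intro h; exact hd1 false (conj_eq_one_iff.1 h)
  have hu21 : u2 ≠ 1 := by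
    intro h
    have h2 := conj_eq_one_iff.1 h
    have h3 := conj_eq_one_iff.1 h2
    exact hd1 true (conj_eq_one_iff.1 h3)
  have hwj : e • u ∈ H.Z (!j) := (H.fix_iff hj hu11).1 (hfix _ hQ0)
  have hwj' : e • u ∈ H.Z (!j') := (H.fix_iff hj' hu21).1 (hfix _ hQ1)
  have hjj : j' = j := by
    by_contra hne
    have h2 : (!j') = j := by cases j <;> cases j' <;> simp_all
    rw [h2] at hwj'
    exact hw1 (H.disj j _ hwj' hwj)
  subst hjj
  -- `h = s g` maps `Z₀` into `Z₁`
  have hsg : ∀ z ∈ H.Z false, (s * g) • z ∈ H.Z true := by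
    intro z hz
    have h2 : u2 • (e • ((s * g) • z)) = e • ((s * g) • z) := by
      have h3 : d true • z = z := H.triv true _ (hd true) z hz
      calc u2 • (e • ((s * g) • z)) = (u2 * e * (s * g)) • z := by rw [mul_smul (u2 * e), mul_smul u2]
        _ = (e * (s * g) * d true) • z := by rw [hu2def]; congr 1; group
        _ = e • ((s * g) • z) := by rw [mul_smul, mul_smul, h3]
    have h4 : e • ((s * g) • z) ∈ H.Z (!j') := (H.fix_iff hj' hu21).1 h2
    have h5 : u1 • (e • ((s * g) • z)) = e • ((s * g) • z) := (H.fix_iff hj hu11).2 h4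
    have h6 : d false • ((s * g) • z) = (s * g) • z := by
      rw [hu1def, mul_smul, mul_smul, inv_smul_smul] at h5
      have := congrArg (e⁻¹ • ·) h5
      simpa using this
    exact (H.fix_iff (hd false) (hd1 false)).1 h6
  -- `h d₁ h⁻¹` is a power of `d₀`
  have hord1 : orderOf u1 = p := by
    rw [← hdp false, hu1def, ← MulAut.conj_apply]; exact (MulAut.conj e).orderOf_eq _
  have hord2 : orderOf u2 = p := by
    rw [← hdp true, hu2def, ← MulAut.conj_apply, ← MulAut.conj_apply s, ← MulAut.conj_apply g]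
    rw [(MulAut.conj e).orderOf_eq, (MulAut.conj s).orderOf_eq, (MulAut.conj g).orderOf_eq]
  have hz1 : u2 ∈ zpowers u1 := mem_zpowers_of_cyc (H.T j') (H.cyc j') hj hj' (by rw [hord1, hord2])
  have hz2 : u1 ∈ zpowers u2 := mem_zpowers_of_cyc (H.T j') (H.cyc j') hj' hj (by rw [hord1, hord2])
  have hcent : ∀ y ∈ H.Y p, Commute (s * g * y * (s * g)⁻¹) (d false) := by
    intro y hy
    have h2 : Commute y (d true) := H.Y_comm hy (hdY true)
    have h3 : Commute (e * (s * g * y * (s * g)⁻¹) * e⁻¹) u2 := by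
      have h4 : u2 = (e * (s * g)) * d true * (e * (s * g))⁻¹ := by rw [hu2def]; group
      have h5 : e * (s * g * y * (s * g)⁻¹) * e⁻¹ = (e * (s * g)) * y * (e * (s * g))⁻¹ := by group
      rw [h4, h5]
      show _ * _ = _ * _
      rw [conj_mul, conj_mul, h2.eq]
    have h6 : Commute (e * (s * g * y * (s * g)⁻¹) * e⁻¹) u1 := by
      obtain ⟨k, hk⟩ := hz2
      rw [← hk]
      exact h3.zpow_right k
    have h7 : e * (s * g * y * (s * g)⁻¹) * e⁻¹ * u1 = u1 * (e * (s * g * y * (s * g)⁻¹) * e⁻¹) := h6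
    rw [hu1def, conj_mul, conj_mul] at h7
    have h8 := mul_left_cancel (mul_right_cancel h7)
    exact h8
  -- Burnside
  set C := centralizer ({d false} : Set D) with hC
  have hYC : (P : Subgroup D) ≤ C := by
    rw [hP]
    intro y hy
    rw [hC, mem_centralizer_singleton_iff]
    exact H.Y_comm hy (hdY false)
  have hYC' : (((s * g) • P : Sylow p D) : Subgroup D) ≤ C := by
    intro x hx
    rw [Sylow.coe_subgroup_smul, Subgroup.mem_smul_pointwise_iff_exists] at hx
    obtain ⟨y, hy, rfl⟩ := hx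
    rw [hP] at hy
    rw [hC, mem_centralizer_singleton_iff]
    exact (hcent y hy).eq
  obtain ⟨c, hc⟩ := MulAction.exists_smul_eq C (((s * g) • P : Sylow p D).subtype hYC') (P.subtype hYC)
  have hcm : (c : D) * d false = d false * c := mem_centralizer_singleton_iff.1 c.2
  have hn : ∀ y ∈ H.Y p, (c * (s * g)) * y * (c * (s * g))⁻¹ ∈ H.Y p := by
    intro y hy
    have h2 : s * g * y * (s * g)⁻¹ ∈ (((s * g) • P : Sylow p D) : Subgroup D) :=
      conj_mem_smul P (by rw [hP]; exact hy) (s * g)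
    have h3 : (⟨s * g * y * (s * g)⁻¹, hYC' h2⟩ : C) ∈
        ((((s * g) • P : Sylow p D).subtype hYC' : Sylow p C) : Subgroup C) := h2
    have h4 := conj_mem_smul _ h3 c
    rw [hc] at h4
    have h5 : (c : D) * (s * g * y * (s * g)⁻¹) * (c : D)⁻¹ ∈ (P : Subgroup D) := h4
    rw [hP] at h5
    have h6 : (c * (s * g)) * y * (c * (s * g))⁻¹ = (c : D) * (s * g * y * (s * g)⁻¹) * (c : D)⁻¹ := by group
    rw [h6]; exact h5
  refine H.norm_swap hd hd1 hdpow hn (i := false) (fun z hz => ?_)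
  have h2 : d false • ((c * (s * g)) • z) = (c * (s * g)) • z := by
    have h3 : d false • ((s * g) • z) = (s * g) • z := H.triv false _ (hd false) _ (hsg z hz)
    rw [mul_smul, ← mul_smul (d false), ← hcm, mul_smul, h3]
  exact (H.fix_iff (hd false) (hd1 false)).1 h2


theorem cnt {α : Type*} [Finite α] {p n : ℕ} [Fact p.Prime] (f : α → α) (hf : ∀ a, f^[p ^ n] a = a) :
    Nat.card α ≡ Nat.card {a // f a = a} [MOD p] := by
  classical
  have := Fintype.ofFinite α
  let F : Function.End α := f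
  have e : ∀ m : ℕ, F ^ m = (f^[m] : α → α) := by
    intro m
    induction m with
    | zero => rfl
    | succ m ih => rw [pow_succ, ih]; rfl
  have h1 : F ^ p ^ n = 1 := by
    rw [e]; funext a; exact hf a
  have h2 := Equiv.Perm.card_fixedPoints_modEq h1
  rw [← Nat.card_eq_fintype_card, ← Nat.card_eq_fintype_card] at h2
  exact h2

/-- an odd transitive group of degree `9` has no non-trivial element of order `7ᵏ` -/
theorem deg_nine {E Ω : Type*} [Group E] [Finite E] [MulAction E Ω] (hodd : Odd (Nat.card E))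
    (hΩ : Nat.card Ω = 9) (htr : ∀ a b : Ω, ∃ g : E, g • a = b) {x : E} {k : ℕ} (hx : x ^ 7 ^ k = 1) (a : Ω) :
    x • a = a := by
  have hfin : Finite Ω := Nat.finite_of_card_ne_zero (by rw [hΩ]; norm_num)
  have : Fact (Nat.Prime 7) := ⟨Nat.prime_seven⟩
  have hit : ∀ (m : ℕ) (b : Ω), (fun b => x • b)^[m] b = x ^ m • b := by
    intro m
    induction m with
    | zero => intro b; simp
    | succ m ih => intro b; rw [Function.iterate_succ_apply', ih, ← mul_smul, ← pow_succ']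
  have h1 := cnt (p := 7) (n := k) (fun b : Ω => x • b) (fun b => by rw [hit, hx, one_smul])
  rw [hΩ] at h1
  set F := {b : Ω // x • b = b} with hF
  have h2 : Nat.card F ≤ 9 := by rw [← hΩ]; exact Nat.card_le_card_of_injective _ Subtype.val_injective
  have h3 : Nat.card F = 2 ∨ Nat.card F = 9 := by
    unfold Nat.ModEq at h1
    omega
  rcases h3 with h3 | h3
  · exfalso
    rw [Nat.card_eq_two_iff] at h3
    obtain ⟨⟨α, hα⟩, ⟨β, hβ⟩, hne, huniv⟩ := h3
    have hαβ : α ≠ β := fun h => hne (Subtype.ext h)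
    have hfix : ∀ c : Ω, x • c = c → c = α ∨ c = β := by
      intro c hc
      have : (⟨c, hc⟩ : F) ∈ ({⟨α, hα⟩, ⟨β, hβ⟩} : Set F) := by rw [huniv]; trivial
      rcases this with h | h
      · exact Or.inl (congrArg Subtype.val h)
      · exact Or.inr (congrArg Subtype.val h)
    -- the stabiliser of `α` fixes `β`
    have hstab : ∀ g : E, g • α = α → g • β = β := by
      set S := MulAction.stabilizer E α with hS
      have hxS : x ∈ S := by rw [hS, MulAction.mem_stabilizer_iff]; exact hα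
      set O := MulAction.orbit S β with hO
      have hOα : ∀ c ∈ O, c ≠ α := by
        rintro _ ⟨⟨g, hg⟩, rfl⟩ h
        change g • β = α at h
        have hg' : g • α = α := hg
        rw [← hg'] at h
        exact hαβ (smul_left_cancel g h).symm
      have hxO : ∀ c ∈ O, x • c ∈ O := by
        rintro _ ⟨⟨g, hg⟩, rfl⟩
        exact ⟨⟨x * g, S.mul_mem hxS hg⟩, by change (x * g) • β = x • (g • β); rw [mul_smul]⟩
      have hβO : β ∈ O := MulAction.mem_orbit_self β
      let f : O → O := fun c => ⟨x • c.1, hxO _ c.2⟩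
      have hf : ∀ (m : ℕ) (c : O), ((f^[m] c : O) : Ω) = x ^ m • (c : Ω) := by
        intro m
        induction m with
        | zero => intro c; simp
        | succ m ih =>
          intro c
          rw [Function.iterate_succ_apply']
          change x • ((f^[m] c : O) : Ω) = _
          rw [ih, ← mul_smul, ← pow_succ']
      have h4 := cnt (p := 7) (n := k) f (fun c => Subtype.ext (by rw [hf, hx, one_smul]))
      have h5 : Nat.card {c : O // f c = c} = 1 := by
        rw [Nat.card_eq_one_iff_unique]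
        refine ⟨⟨?_⟩, ⟨⟨⟨β, hβO⟩, Subtype.ext hβ⟩⟩⟩
        have key : ∀ c : {c : O // f c = c}, ((c : O) : Ω) = β := by
          rintro ⟨⟨c, hc⟩, hc2⟩
          have hc3 : x • c = c := congrArg Subtype.val hc2
          rcases hfix c hc3 with h | h
          · exact absurd h (hOα c hc)
          · exact h
        intro c c'
        exact Subtype.ext (Subtype.ext ((key c).trans (key c').symm))
      rw [h5] at h4
      have h6 : Nat.card O ≤ 8 := by
        have h7 : Nat.card O < Nat.card Ω := by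
          have hlt : (O : Set Ω) ⊂ Set.univ := by
            rw [Set.ssubset_univ_iff]
            intro h
            exact hOα α (by rw [h]; trivial) rfl
          have := Set.ncard_lt_ncard hlt (Set.toFinite _)
          rwa [Set.ncard_univ] at this
        omega
      have h8 : Odd (Nat.card O) := by
        have h9 : Nat.card O ∣ Nat.card S := by
          rw [Nat.card_congr (MulAction.orbitEquivQuotientStabilizer S β)]
          exact Subgroup.card_quotient_dvd_card _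
        exact (hodd.of_dvd_nat (Subgroup.card_subgroup_dvd_card S)).of_dvd_nat h9
      have h10 : Nat.card O = 1 := by
        unfold Nat.ModEq at h4
        obtain ⟨q, hq⟩ := h8
        omega
      intro g hg
      rw [Nat.card_eq_one_iff_unique] at h10
      have := h10.1.elim ⟨g • β, ⟨⟨g, hg⟩, rfl⟩⟩ ⟨β, hβO⟩
      exact congrArg Subtype.val this
    obtain ⟨g, hg⟩ := htr α β
    have h4 : x • (g • β) = g • β := by
      have h5 : (g⁻¹ * x * g) • α = α := by
        rw [mul_smul, mul_smul, hg, hβ, ← hg, inv_smul_smul]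
      have h6 := hstab _ h5
      rw [mul_smul, mul_smul, inv_smul_eq_iff] at h6
      exact h6
    rcases hfix _ h4 with h | h
    · obtain ⟨m, hm⟩ := hodd
      have h5 : ∀ n : ℕ, (g ^ 2) ^ n • α = α := by
        intro n
        induction n with
        | zero => simp
        | succ n ih => rw [pow_succ, mul_smul, pow_two, mul_smul, hg, h, ← pow_two, ih]
      have h6 : g ^ (2 * m + 1) = 1 := by rw [← hm]; exact pow_card_eq_one'
      have h7 : (g ^ 2) ^ (m + 1) = g := by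
        rw [← pow_mul]
        calc g ^ (2 * (m + 1)) = g ^ (2 * m + 1) * g := by rw [← pow_succ]; congr 1
          _ = g := by rw [h6, one_mul]
      have h8 := h5 (m + 1)
      rw [h7, hg] at h8
      exact hαβ h8.symm
    · rw [← hg] at h
      exact hαβ ((smul_left_cancel g h).symm.trans hg)
  · have h4 : Function.Surjective (Subtype.val : F → Ω) := by
      have h5 : Nat.card F = Nat.card Ω := by rw [h3, hΩ]
      exact ((Nat.bijective_iff_injective_and_card _).2 ⟨Subtype.val_injective, h5⟩).2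
    obtain ⟨⟨b, hb⟩, rfl⟩ := h4 a
    exact hb


/-- the elements of `Zᵢ` on which `x` and `t` agree -/
def W (i : Bool) (x t : D) : Subgroup V where
  carrier := {w | w ∈ H.Z i ∧ x • w = t • w}
  one_mem' := ⟨one_mem _, by rw [smul_one, smul_one]⟩
  mul_mem' := by
    rintro a b ⟨ha, ha'⟩ ⟨hb, hb'⟩
    exact ⟨mul_mem ha hb, by rw [smul_mul', smul_mul', ha', hb']⟩
  inv_mem' := by
    rintro a ⟨ha, ha'⟩
    exact ⟨inv_mem ha, by rw [smul_inv', smul_inv', ha']⟩

theorem mem_W {i : Bool} {x t : D} {w : V} : w ∈ H.W i x t ↔ w ∈ H.Z i ∧ x • w = t • w := Iff.rfl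

theorem card_W [Finite V] {p : ℕ} [Fact p.Prime] {i : Bool} {d : D} (hd : d ∈ H.T i) (hdp : orderOf d = p) {x t : D}
    (hx : x * d = d * x) (ht : t ∈ H.T i) :
    ∃ j ≤ H.a, Nat.card (H.W i x t) = 2 ^ j ∧ p ∣ 2 ^ j - 1 := by
  have h1 : Nat.card (H.W i x t) ∣ 2 ^ H.a := by
    rw [← H.card i]
    exact Subgroup.card_dvd_of_le fun w hw => hw.1
  obtain ⟨j, hj, hj'⟩ := (Nat.dvd_prime_pow Nat.prime_two).1 h1
  refine ⟨j, hj, hj', ?_⟩
  have hinv : ∀ w ∈ H.W i x t, d • w ∈ H.W i x t := by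
    rintro w ⟨hw, hw'⟩
    refine ⟨H.stab i d hd w hw, ?_⟩
    rw [← mul_smul, hx, mul_smul, hw', ← mul_smul, H.comm hd ht, mul_smul]
  let f : H.W i x t → H.W i x t := fun w => ⟨d • (w : V), hinv _ w.2⟩
  have hf : ∀ (m : ℕ) (w : H.W i x t), ((f^[m] w : H.W i x t) : V) = d ^ m • (w : V) := by
    intro m
    induction m with
    | zero => intro w; simp
    | succ m ih =>
      intro w
      rw [Function.iterate_succ_apply']
      change d • ((f^[m] w : H.W i x t) : V) = _
      rw [ih, ← mul_smul, ← pow_succ']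
  have h4 := cnt (p := p) (n := 1) f (fun w => Subtype.ext (by
    rw [hf, pow_one, ← hdp, pow_orderOf_eq_one, one_smul]))
  have h5 : Nat.card {w : H.W i x t // f w = w} = 1 := by
    rw [Nat.card_eq_one_iff_unique]
    refine ⟨⟨?_⟩, ⟨⟨1, Subtype.ext ?_⟩⟩⟩
    · have key : ∀ w : {w : H.W i x t // f w = w}, ((w : H.W i x t) : V) = 1 := by
        rintro ⟨⟨w, hw⟩, hw2⟩
        have hw3 : d • w = w := congrArg Subtype.val hw2
        by_contra hne
        have h6 := H.reg i d hd w hw.1 hne hw3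
        rw [h6, orderOf_one] at hdp
        exact (Fact.out : p.Prime).one_lt.ne hdp
      intro c c'
      exact Subtype.ext (Subtype.ext ((key c).trans (key c').symm))
    · change d • (1 : V) = 1
      exact smul_one d
  rw [h5, hj'] at h4
  exact (Nat.modEq_iff_dvd' (Nat.one_le_two_pow)).1 h4.symm

theorem prod_of_act {x : D} (h : ∀ i, ∃ t ∈ H.T i, ∀ z ∈ H.Z i, x • z = t • z) :
    ∃ s ∈ H.T false, ∃ t ∈ H.T true, x = s * t := by
  obtain ⟨s, hs, hs'⟩ := h false
  obtain ⟨t, ht, ht'⟩ := h true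
  refine ⟨s, hs, t, ht, H.eq_of_act ?_⟩
  rintro (_ | _) z hz
  · rw [mul_smul, H.triv true t ht z hz, hs' z hz]
  · rw [mul_smul, H.triv false s hs _ (H.stab true t ht z hz), ht' z hz]

theorem W_eq [Finite V] {i : Bool} {x t : D} (h : Nat.card (H.W i x t) = 2 ^ H.a) : ∀ z ∈ H.Z i, x • z = t • z := by
  have h1 : H.W i x t = H.Z i := by
    apply Subgroup.eq_of_le_of_card_ge
    · exact fun w hw => hw.1
    · rw [H.card, h]
  intro z hz
  rw [← h1] at hz
  exact hz.2

theorem stab_of_comm {d : Bool → D} (hd : ∀ i, d i ∈ H.T i) (hd1 : ∀ i, d i ≠ 1) {x : D}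
    (hx : ∀ i, x * d i = d i * x) (i : Bool) {z : V} (hz : z ∈ H.Z i) : x • z ∈ H.Z i := by
  have h1 : d (!i) • (x • z) = x • z := by
    rw [← mul_smul, ← hx, mul_smul, H.triv (!i) _ (hd _) z (by rwa [Bool.not_not])]
  have h2 := (H.fix_iff (hd (!i)) (hd1 _)).1 h1
  rwa [Bool.not_not] at h2

theorem Kp_primitive [Finite V] {p : ℕ} [Fact p.Prime] (hp : ∀ j, 0 < j → j < H.a → ¬ p ∣ 2 ^ j - 1)
    {d : Bool → D} (hd : ∀ i, d i ∈ H.T i) (hdp : ∀ i, orderOf (d i) = p) : H.Kp p d := by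
  intro x _ hx
  have hd1 : ∀ i, d i ≠ 1 := by
    intro i h
    have := hdp i
    rw [h, orderOf_one] at this
    exact (Fact.out : p.Prime).one_lt.ne this
  apply H.prod_of_act
  intro i
  obtain ⟨z, hz, hz1⟩ := H.two_le_card i
  have hxz : x • z ≠ 1 := by
    intro h
    apply hz1
    rw [← inv_smul_smul x z, h, smul_one]
  obtain ⟨t, ht, ht'⟩ := H.trans i z hz hz1 (x • z) (H.stab_of_comm hd hd1 hx i hz) hxz
  refine ⟨t, ht, ?_⟩
  obtain ⟨j, hj, hj', hj''⟩ := H.card_W (hd i) (hdp i) (hx i) ht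
  apply H.W_eq
  rw [hj']
  congr 1
  by_contra hne
  rcases Nat.eq_zero_or_pos j with h0 | h0
  · rw [h0, pow_zero, Subgroup.card_eq_one] at hj'
    have h1 : z ∈ H.W i x t := ⟨hz, ht'.symm⟩
    rw [hj', mem_bot] at h1
    exact hz1 h1
  · exact hp j h0 (lt_of_le_of_ne hj hne) hj''

theorem pow_le_eight {j : ℕ} (hj : j ≤ 6) (h6 : j ≠ 6) (h : 7 ∣ 2 ^ j - 1) : 2 ^ j ≤ 8 := by
  interval_cases j <;> omega

theorem Kp_seven [Finite V] [Finite D] (ha : H.a = 6) {d : Bool → D} (hd : ∀ i, d i ∈ H.T i)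
    (hdp : ∀ i, orderOf (d i) = 7) : H.Kp 7 d := by
  have : Fact (Nat.Prime 7) := ⟨Nat.prime_seven⟩
  intro x hxp hx
  obtain ⟨m, hm⟩ := hxp
  have hd1 : ∀ i, d i ≠ 1 := by
    intro i h
    have := hdp i
    rw [h, orderOf_one] at this
    omega
  apply H.prod_of_act
  intro i
  -- the group `E`
  let E : Subgroup D := centralizer {y | ∃ j, y = d j}
  have hE : ∀ g : D, g ∈ E ↔ ∀ j, g * d j = d j * g := by
    intro g
    rw [mem_centralizer_iff]
    constructor
    · intro h j; exact (h _ ⟨j, rfl⟩).symm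
    · rintro h _ ⟨j, rfl⟩; exact (h j).symm
  let X := {z : V // z ∈ H.Z i ∧ z ≠ 1}
  have hXs : ∀ (g : E) (z : X), (g : D) • (z : V) ∈ H.Z i ∧ (g : D) • (z : V) ≠ 1 := by
    intro g z
    refine ⟨H.stab_of_comm hd hd1 ((hE g).1 g.2) i z.2.1, fun h => z.2.2 ?_⟩
    rw [← inv_smul_smul (g : D) (z : V), h, smul_one]
  let act : MulAction E X :=
    { smul := fun g z => ⟨(g : D) • (z : V), hXs g z⟩
      one_smul := fun z => Subtype.ext (one_smul D (z : V))
      mul_smul := fun g h z => Subtype.ext (mul_smul (g : D) (h : D) (z : V)) }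
  have hact : ∀ (g : E) (z : X), ((g • z : X) : V) = (g : D) • (z : V) := fun _ _ => rfl
  have hTE : ∀ t ∈ H.T i, t ∈ E := by
    intro t ht
    rw [hE]
    intro j
    exact H.comm ht (hd j)
  let dE : E := ⟨d i, hTE _ (hd i)⟩
  let P : Subgroup E := zpowers dE
  have hPc : ∀ (q : P) (g : E), (q : E) * g = g * (q : E) := by
    rintro ⟨q, k, rfl⟩ g
    have h1 : Commute dE g := Subtype.ext (((hE g).1 g.2 i).symm)
    exact (h1.zpow_left k).eq
  have hPT : ∀ q : P, ((q : E) : D) ∈ H.T i := by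
    rintro ⟨q, k, rfl⟩
    exact zpow_mem (hd i) k
  have hfree : ∀ b : X, MulAction.stabilizer P b = ⊥ := by
    intro b
    rw [eq_bot_iff]
    intro q hq
    rw [mem_bot]
    have h1 : ((q : E) : D) • (b : V) = b := congrArg Subtype.val (MulAction.mem_stabilizer_iff.1 hq)
    exact Subtype.ext (Subtype.ext (H.reg i _ (hPT q) b b.2.1 b.2.2 h1))
  let Ω := MulAction.orbitRel.Quotient P X
  have hcX : Nat.card X = 63 := by
    have h1 : Nat.card (H.Z i) = 64 := by rw [H.card, ha]; norm_num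
    have h2 : Nat.card X = (H.Z i : Set V).ncard - 1 := by
      have h3 : ((H.Z i : Set V) \ {1}).ncard = (H.Z i : Set V).ncard - 1 :=
        Set.ncard_sdiff_singleton_of_mem (one_mem _)
      rw [← h3]; rfl
    have h3 : (H.Z i : Set V).ncard = 64 := by rw [← h1]; rfl
    rw [h2, h3]
  have hcP : Nat.card P = 7 := by
    have h1 : orderOf dE = 7 := (Subgroup.orderOf_mk _ _).trans (hdp i)
    rw [← h1]; exact Nat.card_zpowers dE
  have hcΩ : Nat.card Ω = 9 := by
    have h1 := Nat.card_congr (MulAction.selfEquivOrbitsQuotientProd hfree)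
    rw [Nat.card_prod, hcX, hcP] at h1
    change 63 = Nat.card Ω * 7 at h1
    omega
  have hrel : ∀ (g : E) (b c : X), (MulAction.orbitRel P X).r b c → (MulAction.orbitRel P X).r (g • b) (g • c) := by
    rintro g b c ⟨q, hq⟩
    refine ⟨q, ?_⟩
    change (q : E) • (g • c) = g • b
    change (q : E) • c = b at hq
    rw [← mul_smul, hPc, mul_smul, hq]
  let actΩ : MulAction E Ω :=
    { smul := fun g => Quotient.map (fun b => g • b) (hrel g)
      one_smul := by rintro ⟨b⟩; exact congrArg (Quotient.mk _) (one_smul E b)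
      mul_smul := by rintro g h ⟨b⟩; exact congrArg (Quotient.mk _) (mul_smul g h b) }
  have htr : ∀ a b : Ω, ∃ g : E, g • a = b := by
    rintro ⟨a⟩ ⟨b⟩
    obtain ⟨t, ht, ht'⟩ := H.trans i a a.2.1 a.2.2 b b.2.1 b.2.2
    exact ⟨⟨t, hTE t ht⟩, congrArg (Quotient.mk _) (Subtype.ext ht')⟩
  let xE : E := ⟨x, (hE x).2 hx⟩
  have hoddE : Odd (Nat.card E) := H.odd.of_dvd_nat (Subgroup.card_subgroup_dvd_card E)
  have hfix := deg_nine hoddE hcΩ htr (x := xE) (k := m) (Subtype.ext hm)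
  have hpt : ∀ z ∈ H.Z i, ∃ k < 7, z ∈ H.W i x (d i ^ k) := by
    intro z hz
    by_cases hz1 : z = 1
    · exact ⟨0, by norm_num, by rw [hz1]; exact one_mem _⟩
    · have h1 := hfix (Quotient.mk _ (⟨z, hz, hz1⟩ : X))
      have h2 : (MulAction.orbitRel P X).r (xE • (⟨z, hz, hz1⟩ : X)) ⟨z, hz, hz1⟩ := Quotient.exact h1
      obtain ⟨⟨q, k, rfl⟩, hq⟩ := h2
      have h3 : (d i) ^ k • z = x • z := by
        have := congrArg Subtype.val hq
        exact this
      refine ⟨(k % 7).toNat, ?_, hz, ?_⟩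
      · have := Int.emod_lt_of_pos k (show (0 : ℤ) < 7 by norm_num)
        have := Int.emod_nonneg k (show (7 : ℤ) ≠ 0 by norm_num)
        omega
      · rw [← h3]
        congr 1
        rw [← zpow_natCast, Int.toNat_of_nonneg (Int.emod_nonneg k (by norm_num))]
        rw [zpow_eq_zpow_iff_modEq, hdp]
        exact (Int.mod_modEq k 7).symm
  have hcard : ∃ k < 7, Nat.card (H.W i x (d i ^ k)) = 2 ^ H.a := by
    by_contra hcon
    push Not at hcon
    have h1 : ∀ k < 7, Nat.card (H.W i x (d i ^ k)) ≤ 8 := by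
      intro k hk
      obtain ⟨j, hj, hj', hj''⟩ := H.card_W (hd i) (hdp i) (hx i) (pow_mem (hd i) k)
      have h2 := hcon k hk
      rw [hj'] at h2 ⊢
      have h3 : j ≠ H.a := fun h => h2 (by rw [h])
      rw [ha] at hj h3
      exact pow_le_eight hj h3 hj''
    have h2 : (H.Z i : Set V) ⊆ ⋃ k ∈ Finset.range 7, (H.W i x (d i ^ k) : Set V) := by
      intro z hz
      obtain ⟨k, hk, hk'⟩ := hpt z hz
      simp only [Set.mem_iUnion]
      exact ⟨k, Finset.mem_range.2 hk, hk'⟩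
    have h3 : (H.Z i : Set V).ncard ≤ ∑ k ∈ Finset.range 7, (H.W i x (d i ^ k) : Set V).ncard :=
      (Set.ncard_le_ncard h2 (Set.toFinite _)).trans (Finset.set_ncard_biUnion_le _ _)
    have h4 : (H.Z i : Set V).ncard = 64 := by
      have h5 : Nat.card (H.Z i) = 64 := by rw [H.card, ha]; norm_num
      rw [← h5]; rfl
    have h5 : ∑ k ∈ Finset.range 7, (H.W i x (d i ^ k) : Set V).ncard ≤ ∑ k ∈ Finset.range 7, 8 := by
      apply Finset.sum_le_sum
      intro k hk
      exact h1 k (Finset.mem_range.1 hk)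
    rw [h4] at h3
    simp at h5
    omega
  obtain ⟨k, -, hk⟩ := hcard
  exact ⟨d i ^ k, pow_mem (hd i) k, H.W_eq hk⟩


theorem card_T [Finite V] (i : Bool) : Nat.card (H.T i) = 2 ^ H.a - 1 := by
  obtain ⟨z, hz, hz1⟩ := H.two_le_card i
  have hne : ∀ t : H.T i, (t : D) • z ∈ ((H.Z i : Set V) \ {1} : Set V) := by
    intro t
    refine ⟨H.stab i t t.2 z hz, fun h => hz1 ?_⟩
    rw [Set.mem_singleton_iff] at h
    rw [← inv_smul_smul (t : D) z, h, smul_one]
  let f : H.T i → ((H.Z i : Set V) \ {1} : Set V) := fun t => ⟨(t : D) • z, hne t⟩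
  have hf : Function.Bijective f := by
    constructor
    · intro s t h
      have h1 : (s : D) • z = (t : D) • z := congrArg Subtype.val h
      have h2 : ((t : D)⁻¹ * s) • z = z := by rw [mul_smul, h1, inv_smul_smul]
      have h3 := H.reg i _ (mul_mem (inv_mem t.2) s.2) z hz hz1 h2
      rw [inv_mul_eq_one] at h3
      exact Subtype.ext h3.symm
    · rintro ⟨w, hw, hw1⟩
      obtain ⟨t, ht, ht'⟩ := H.trans i z hz hz1 w hw (fun h => hw1 (by rw [h]; rfl))
      exact ⟨⟨t, ht⟩, Subtype.ext ht'⟩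
  rw [Nat.card_eq_of_bijective f hf]
  have h3 : ((H.Z i : Set V) \ {1}).ncard = (H.Z i : Set V).ncard - 1 :=
    Set.ncard_sdiff_singleton_of_mem (one_mem _)
  have h4 : (H.Z i : Set V).ncard = 2 ^ H.a := by rw [← H.card i]; rfl
  rw [← h4]
  exact h3

theorem exists_order [Finite V] [Finite D] {p : ℕ} [Fact p.Prime] (hp : p ∣ 2 ^ H.a - 1) :
    ∃ d : Bool → D, (∀ i, d i ∈ H.T i) ∧ ∀ i, orderOf (d i) = p := by
  have h : ∀ i, ∃ d ∈ H.T i, orderOf d = p := by
    intro i
    obtain ⟨x, hx⟩ := exists_prime_orderOf_dvd_card' p (G := H.T i) (by rw [H.card_T]; exact hp)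
    exact ⟨x, x.2, by rw [← hx]; exact (Subgroup.orderOf_coe x)⟩
  choose d hd hd' using h
  exact ⟨d, hd, hd'⟩

/-- **Theorem OT** (#14101): no element of `D` maps an element `≠ 1` of `Z₀` into `Z₁` -/
theorem no_fusion [Finite V] [Finite D] {g : D} {v : V} (hv : v ∈ H.Z false) (hv1 : v ≠ 1)
    (hg : g • v ∈ H.Z true) : False := by
  by_cases ha : H.a = 6
  · have : Fact (Nat.Prime 7) := ⟨Nat.prime_seven⟩
    obtain ⟨d, hd, hdp⟩ := H.exists_order (p := 7) (by rw [ha]; norm_num)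
    exact H.no_fusion_aux hd hdp (H.Kp_seven ha hd hdp) hv hv1 hg
  · obtain ⟨p, hp, hpd, hprim⟩ := Cfsg.Agent.LieRecognition.FT61.Zsig.exists_primitive_prime H.ha ha
    have : Fact p.Prime := ⟨hp⟩
    obtain ⟨d, hd, hdp⟩ := H.exists_order (p := p) hpd
    exact H.no_fusion_aux hd hdp (H.Kp_primitive hprim hd hdp) hv hv1 hg

end Hyp

/-- Theorem OT in the form used for II.d (#13363 (2)): `Γ` acts on `V = Z₀ × Z₁`, `D` has odd order and index `2` in `Γ`,
some element of `Γ` maps `Z₀` into `Z₁`. Then no element of `Z₀ ∪ Z₁` is conjugate to a product of two non-trivial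
elements of `Z₀` and `Z₁`. -/
theorem no_mixed {Γ V : Type*} [Group Γ] [Finite Γ] [CommGroup V] [Finite V] [MulDistribMulAction Γ V]
    {D : Subgroup Γ} (H : Hyp D V) (hD : D.index = 2) {s : Γ} (hs : ∀ z ∈ H.Z false, s • z ∈ H.Z true) {g : Γ}
    {i : Bool} {v w0 w1 : V} (hv : v ∈ H.Z i) (hv1 : v ≠ 1) (h0 : w0 ∈ H.Z false) (h1 : w1 ∈ H.Z true) (h0' : w0 ≠ 1)
    (h1' : w1 ≠ 1) (hg : g • v = w0 * w1) : False := by
  obtain ⟨v0, hv0, hv01⟩ := H.two_le_card false
  have hne : ∀ γ : Γ, γ • v0 ≠ 1 := by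
    intro γ h
    apply hv01
    rw [← inv_smul_smul γ v0, h, smul_one]
  have hdsm : ∀ (t : D) (u : V), (t : Γ) • u = t • u := fun _ _ => rfl
  have hpure : ∀ j, ∀ u ∈ H.Z j, u ≠ 1 → ∃ γ : Γ, γ • v0 = u := by
    rintro (_ | _) u hu hu1
    · obtain ⟨t, -, ht⟩ := H.trans false v0 hv0 hv01 u hu hu1
      exact ⟨t, ht⟩
    · obtain ⟨t, -, ht⟩ := H.trans true (s • v0) (hs v0 hv0) (hne s) u hu hu1
      exact ⟨t * s, by rw [mul_smul]; exact ht⟩
  have hall : ∀ u : V, u ≠ 1 → ∃ γ : Γ, γ • v0 = u := by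
    intro u hu
    obtain ⟨u0, hu0, u1, hu1, rfl⟩ := H.gen false u
    by_cases hu01 : u0 = 1
    · rw [hu01, one_mul]
      exact hpure true u1 hu1 (fun h => hu (by rw [hu01, h, one_mul]))
    by_cases hu11 : u1 = 1
    · rw [hu11, mul_one]
      exact hpure false u0 hu0 hu01
    obtain ⟨γ, hγ⟩ := hpure i v hv hv1
    obtain ⟨t, ht, ht'⟩ := H.trans false w0 h0 h0' u0 hu0 hu01
    obtain ⟨r, hr, hr'⟩ := H.trans true w1 h1 h1' u1 hu1 hu11
    refine ⟨t * r * g * γ, ?_⟩
    rw [mul_smul, hγ, mul_smul, hg, mul_smul, hdsm, hdsm, smul_mul', hr', H.triv true r hr w0 h0, smul_mul', ht',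
      H.triv false t ht u1 hu1]
  -- `Γ` is transitive, `|V| - 1` is odd, so is `D`
  have horb : MulAction.orbit Γ v0 = {u : V | u ≠ 1} := by
    ext u
    constructor
    · rintro ⟨γ, rfl⟩; exact hne γ
    · intro hu; exact hall u hu
  have hVeven : 2 ∣ Nat.card V := by
    have e1 : Nat.card (H.Z false) ∣ Nat.card V := Subgroup.card_subgroup_dvd_card _
    rw [H.card] at e1
    exact (dvd_pow_self 2 (by have := H.ha; omega)).trans e1
  have horbodd : ¬ 2 ∣ Nat.card (MulAction.orbit Γ v0) := by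
    have e1 : Nat.card (MulAction.orbit Γ v0) = Nat.card V - 1 := by
      rw [horb]
      have e2 : (({1} : Set V)ᶜ).ncard = Nat.card V - ({1} : Set V).ncard := Set.ncard_compl _
      rw [Set.ncard_singleton] at e2
      rw [← e2]; rfl
    have e3 : 0 < Nat.card V := Nat.card_pos
    rw [e1]; omega
  have hcs : Nat.card (MulAction.orbit Γ v0) * Nat.card (MulAction.stabilizer Γ v0) = Nat.card Γ := by
    rw [Nat.card_congr (MulAction.orbitEquivQuotientStabilizer Γ v0)]
    exact (Subgroup.card_eq_card_quotient_mul_card_subgroup _).symm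
  have hΓ : 2 ∣ Nat.card Γ := by rw [← hD]; exact D.index_dvd_card
  have hst : 2 ∣ Nat.card (MulAction.stabilizer Γ v0) := by
    rw [← hcs] at hΓ
    exact (Nat.prime_two.dvd_mul.1 hΓ).resolve_left horbodd
  have hnle : ¬ MulAction.stabilizer Γ v0 ≤ D := by
    intro h
    have e1 := hst.trans (Subgroup.card_dvd_of_le h)
    have e2 := H.odd
    rw [Nat.odd_iff] at e2
    omega
  obtain ⟨h, hh, hhD⟩ := SetLike.not_le_iff_exists.1 hnle
  rw [MulAction.mem_stabilizer_iff] at hh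
  obtain ⟨v1, hv1m, hv11⟩ := H.two_le_card true
  obtain ⟨γ, hγ⟩ := hpure true v1 hv1m hv11
  have hex : ∃ δ : D, δ • v0 = v1 := by
    by_cases hγD : γ ∈ D
    · exact ⟨⟨γ, hγD⟩, hγ⟩
    · have e1 : γ * h ∈ D := (Subgroup.mul_mem_iff_of_index_two hD).2 (iff_of_false hγD hhD)
      exact ⟨⟨γ * h, e1⟩, by show (γ * h) • v0 = v1; rw [mul_smul, hh, hγ]⟩
  obtain ⟨δ, hδ⟩ := hex
  exact H.no_fusion hv0 hv01 (by rw [hδ]; exact hv1m)


end Cfsg.Agent.Omega.OddTrans
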