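import Cfsg.Agent.Omega.IId.Fin
import Cfsg.Agent.Omega.IId.SwB.Main
import Cfsg.Agent.Omega.IId.CvBig.TwoA2
import Cfsg.Agent.Omega.IId.CvBig.One
import Cfsg.Agent.Omega.IId.CvBig.UsTwo
import Cfsg.Agent.Omega.IId.CvBig.US4
import Cfsg.Agent.Omega.IId.CvBig.KillU
import Cfsg.Agent.Omega.IId.CvBig.IdU
import Cfsg.Agent.Omega.IId.CvBig.NormBig
import Cfsg.Agent.Omega.IId.CvBig.FourDone
import Cfsg.Agent.Omega.IId.CvBig.MixDrive
import Cfsg.Agent.Omega.IId.CvBig.U2End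
import Cfsg.Agent.Omega.IId.CvNS.Cvn
import Cfsg.Agent.Omega.IId.SwCv.ExHatDone
import Cfsg.Agent.Omega.HOne.StFour
import Cfsg.Agent.Omega.HOne.Final
import Cfsg.Agent.Omega.F4Leaf.Syl.Plug
import Cfsg.Agent.Omega.F4Leaf.Syl.EndCPure
import Cfsg.Agent.Omega.F4Leaf.Syl.NatBoth
import Cfsg.Agent.Omega.FFBr.Final
import Cfsg.Agent.Omega.FFBr.FinalM

/-!
# OMEGA: the leaves II.0h1, II.b' (LeafF4) and II.d (`leafSymWr`, `leafWr`)
-/

set_option autoImplicit false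

namespace Cfsg.Agent.Omega.OpenD

open Cfsg Cfsg.Agent.Omega.Frame Cfsg.Agent.Omega.FrameMulti Cfsg.Agent.Omega.IId

universe u

/-- **II.0h1** (assemblers: helper811, helper337, helper400). -/
theorem leafH1 {K : Cls.{u}} (h40 : Outputs.St1740.{u}) : FrameFF.LeafH1 K :=
  HOne.Final.leafH1_of FFBr.ffthm h40 (HOne.StFour.stFour_of K)

/-- The exit into II.0h1, `q = 2`. -/
theorem posExit : F4Leaf.Cen.Main.PosExit.{u} :=
  fun _ _ _ hG _ hF hI _ _ _ _ _ _ _ p => HOne.Final.known_of_pos FFBr.ffthm hG hF hI p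

/-- **II.b'** (assembler: helper816). -/
theorem leafF4 (K : Cls.{u}) : LeafF4 K :=
  F4Leaf.Syl.Plug.leaf_of_end posExit (F4Leaf.Syl.EndCPure.endNat_of
    fun _ _ _ hG _ _ _ _ _ _ _ hm hl hN hc _ _ hij hb => F4Leaf.Syl.Mix.natBoth hG hl hm hN (Or.inl hc) hij hb)

/-- Two members of type `S_{2^m+1}`, `S_{2^m'+1}`, not free. -/
theorem ttPair (K : Cls.{u}) : Cv.TTPair K :=
  fun G _ _ hG _ S hF hI hT P₁ P₂ x hm hnf m m' h h' hS hS' =>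
    F4Leaf.Syl.Plug.tt_known posExit G hG S hF hI hT P₁ P₂ x hm hnf m m' h h' hS hS'

/-! ### II.d (assembler: helper36) -/

/-- `BigIn K` : more than two factors, `cv S P ≠ ⊥` (helper958: `CvBig/Cut.lean`). -/
theorem big (K : Cls.{u}) : Cv.BigIn K where
  mix := Cv.bigMix_of NV.big2A4P K
  a2 := Cv.big2A2 K
  a4 := Cv.big2A4 K
  u2 := Cv.bigU2 K
  u4 := Cv.bigU4_of ChainPlug.chainT CvBig.IdU.idU Cv.nmBig
  us2 := Cv.bigUS2 HTwo.TSMain.ts0 HTwo.Seven.three0 HOneTwo.Trans.more0 HOneEnd.endL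
  us4 := Cv.bigUS4_of ChainPlug.chainT HOneEnd.endL Cv.nmBig
  one2 := CvBig.bigOne2 HTwo.TSMain.ts0 HTwo.Seven.three0 HOneTwo.Trans.more0 HOneEnd.endL
  one4 := CvBig.bigOne4 ChainPlug.chainT HOneEnd.endL

/-- **`SwCv`** (helper79, helper774, helper916, helper48 and others). -/
theorem swCv (K : Cls.{u}) : SwCv K :=
  SwCvC.swCv posExit (ttPair K) (SwCvC.natUn_of posExit (Cv.cvOneA2 K) (Cv.cvTwoA K) (cvTwoB K) (big K))
    (SwCvC.freeFour_of (wrTwo K) (wrBig_of (wrBigTwo K) (wrBigFour K)) TriFalse.wrTri (wrMain4N K))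

theorem symNat (K : Cls.{u}) : Cv.CvSymNat K :=
  Cv.cvSymNat_of_unM (Cv.cvOneA2 K) (cvOneA4 K) (Cv.cvTwoA K) (cvTwoB K) (ttPair K)
    fun _ _ _ _ hH _ _ _ _ _ _ _ _ M i hk _ hD hu => Cv.unM_big (big K) hH M hk (CvBig.hC_all M) i hD hu

/-- **II.d, symmetric types.** -/
theorem leafSymWr (K : Cls.{u}) : LeafSymWr K :=
  IId.leafSymWr (swCv K) (SwB.swBig K) SwN.swNat0 (LFour.swTwo K) (LFour.swOne K)

theorem cv (K : Cls.{u}) : Cv.WrCvN K :=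
  Cv.wrCvN_of' (Cv.cvSym_of (leafSymWr K) (Cv.cvSymOne_of (symNat K))) CvNS.Plug.cvNonsplit
    (Cv.cvBigN_of CvBig.thmCD (big K) (Cv.cvOneA2 K) (cvOneA4 K) (Cv.cvTwoA K) (cvTwoB K)) (Cv.cvLine K) (Cv.cvMix K)
    (Cv.cvOneA2 K) (cvOneA4 K) (Cv.cvTwoA K) (cvTwoB K) (cvOne K)

/-- **II.d, natural types.** -/
theorem leafWr (K : Cls.{u}) : LeafWr K :=
  Cv.leafWrN (cv K) (Sym.wrSym_of' (leafSymWr K) SymMany.wrSymBig Pf.Main.noOne) (wrTwo K)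
    (wrBig_of (wrBigTwo K) (wrBigFour K)) TriFalse.wrTri (wrMain2 Pf.Main.noOne) (wrMain4N K)

end Cfsg.Agent.Omega.OpenD
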