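import Cfsg.Agent.Omega.Main
import Cfsg.Agent.Omega.Landed
import Cfsg.Agent.Omega.FrameExtra
import Cfsg.Agent.Omega.FrameMulti
import Cfsg.Agent.Omega.FFMutual
import Cfsg.Agent.Omega.FFBr.Final
import Cfsg.Agent.Omega.FFBr.FinalM
import Cfsg.Agent.Omega.SQ1.NodeI
import Cfsg.Agent.Omega.Node.LeafOne
import Cfsg.Agent.Omega.Node.WC
import Cfsg.Agent.Omega.EH3.Final
import Cfsg.Agent.Omega.Node.NO1
import Cfsg.Agent.Omega.NO1.FrPlusMain
import Cfsg.Agent.Omega.NO1.FrMain
import Cfsg.Agent.Omega.NO1.AllMinus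
import Cfsg.Agent.Omega.NO1.EndMinus
import Cfsg.Agent.Omega.NO1.Sym.Main
import Cfsg.Agent.Omega.NO1.NatMany
import Cfsg.Agent.Omega.NO1.Nat.Main
import Cfsg.Agent.Omega.NOne.AG.EndNat
import Cfsg.Agent.Omega.NOne.AG.PlusThm
import Cfsg.Agent.Omega.Node.EndMinusQEnds
import Cfsg.Agent.Omega.Node.EndPlusQEnds
import Cfsg.Agent.Omega.Node.NO3SOpen
import Cfsg.Agent.Omega.Node.NO3LOpen
import Cfsg.Agent.Omega.OpenD
import Cfsg.Agent.Omega.S5.Plug
import Cfsg.Agent.Omega.S5.NatZero
import Cfsg.Agent.Omega.Node.LeafBRank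
import Cfsg.Agent.Omega.Node.LeafA4End
import Cfsg.Agent.Omega.IIa2.Main
import Cfsg.Agent.Omega.II0.Norm

/-!
# OMEGA: the open inputs of the classification

`Open K` = the Props which are still open, relative to a class `K` of groups, every landed theorem being plugged;
`Open.evenLeaves : Main.EvenLeaves K`; `classification` : literal S0000.
`Landed` (`Landed.lean`, proved in `LandedAll.lean`) are landed theorems with a large import closure.
-/

set_option autoImplicit false

namespace Cfsg.Agent.Omega.OpenTree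

open Cfsg Cfsg.Agent.Omega.Frame
open Cfsg.Agent.Omega.Landed (Landed)

universe u

/-! ### `F*(C_G(z))` of symplectic type: EH3 (assembler: helper807) -/

/-- **`F*(C_G(z))` of symplectic type** (assembler: helper807). -/
theorem sympl (K : Cls.{u}) (L : Landed.{u}) : FrameExtra.NodeSympl K :=
  FrameExtra.nodeSympl L.s1758 (FrameExtra.nodeExtra Node.LeafOne.leafOne L.lib.s1759 L.lib.s1761 L.lib.s1762
    L.lib.s1763 (Node.WC.leafWC K) (EH3.Final.leaf K))

/-! ### N1 (assembler: helper406) -/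

/-- **(BT)** (assemblers: helper406, helper527). -/
theorem bt : NO1.BT.{u} :=
  NO1.bt_of FFBr.ffthmM NO1.NatA.natOne NO1.natMany NO1.Sym.symAll NO1.btNot

/-- **N1.** -/
theorem n1 {K : Cls.{u}} (L : Landed.{u}) (hS : FrameExtra.NodeSympl K) : FrameLE.NodeN1 K :=
  NO1.nodeN1_of hS bt NO1.endMinus2 NOne.AG.PlusThm.endPlus2 NOne.AG.End.endNat4
    (fun h => NO1.EndQ.endMinusQ_of L.benderAll L.lib.s1144 (NO1.AllMinus.allMinus h)
      (NO1.EndQ.endOne L.benderAll L.lib.s1144) NO1.EndQ.endBig)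
    (fun h => NO1.EndP.endPlusQ_of_bt h NO1.AllMinus.coreMinus)

/-! ### Case FF -/

/-- The FF theorem gives the types of all members of mutual pairs. -/
theorem typedStep : FrameMulti.TypedStep.{u} := by
  intro G _ _ hG S P₁ P₂ x hm
  obtain ⟨⟨h1, h2⟩, ⟨h3, h4⟩, -⟩ := FFThm.of_mutual FFBr.ffthm hG.char2 S hm
  exact ⟨⟨h1, h2⟩, ⟨h3, h4⟩⟩

/-- II.a, `q = 2`, from a mutual pair `V_P`, `V_P^g`. -/
theorem knownA2 {K : Cls.{u}} (hS : FrameExtra.NodeSympl K) : S5.Plug.KnownA2 K :=
  fun _ _ _ hG hK S _ _ hm h4 => IIa2.known hS hG hK S hm h4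

/-- (not used any more in the tree) -/
theorem nodeN2 {K : Cls.{u}} (hS : FrameExtra.NodeSympl K) (h2 : NO3S.Two K) : S5.Main.NodeN2 K :=
  S5.Main.nodeN2 (S5.Plug.nodeN2a_of (knownA2 hS)) (S5.Plug.nodeN2b_of h2)

/-! ### The tree -/

/-- **The open inputs of the even half, relative to `K`.** -/
structure Open (K : Cls.{u}) : Prop where
  /-- NO-3S (assembler: helper172) -/
  no3s : NO3S.OpenL K
  /-- NO-3L, box R (assemblers: helper597, helper858) -/
  no3l : Node.NO3LOpen.OpenR K

theorem Open.evenLeaves {K : Cls.{u}} (L : Landed.{u}) (T : Open K) : Main.EvenLeaves K :=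
  have hS : FrameExtra.NodeSympl K := sympl K L
  have LL : NO3S.Landed.{u} := NO3S.landed_of L
  { bender := L.lib.bender
    one := SQ1.NodeI.nodeI.toK
    n1 := n1 L hS
    multi := FrameMulti.leafMulti_of typedStep (OpenD.leafWr K) (OpenD.leafSymWr K) (S5.NatZero.leafC K) (OpenD.leafF4 K)
    h1 := OpenD.leafH1 L.lib.s1740
    b := Node.LeafB.leafB L.ti L.lib.s1759 L.lib.s1761
    norm := II0.Norm.normStep K
    a2 := IIa2.leafA2 hS
    a4 := IIa4.leafA4 L.lib.s1143 L.lib.s1144
    no3s := T.no3s.node LL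
    no3l := T.no3l.node L }

/-- **The classification from its open inputs and the odd half** (literal S0000). -/
theorem classification (L : Landed.{u}) (T : Open All.{u}) (odd : Assembly.OddLit.{u})
    (G : Type u) [Group G] [Finite G] [IsSimpleGroup G] : IsKnownSimple' G :=
  Main.Leaves.classification { toEvenLeaves := T.evenLeaves L, odd := odd, k4 := L.k4, s1738 := L.s1738 } G

end Cfsg.Agent.Omega.OpenTree
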