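import Cfsg.Agent.Omega.Shadow

/-!
# LEMMA SH+: only maximal totally isotropic subspaces matter

As LEMMA SH (`Omega/Shadow.lean`), with hypothesis (A2) weakened: it is enough that no abelian subgroup `U` of `Q` with
`z, x ∈ U`, `C_Q(U) ≤ U` is invariant under the stabiliser of `x⟨z⟩` in `C_G(z)`.  [`R = O₂(C_G(x)) ≤ C_Q(x)`; if `R` is
nonabelian, then `C_G(x) ≤ C_G(z)`; otherwise `C_Q(R) ≤ R` because `C_G(x)` has characteristic 2.]
-/

set_option autoImplicit false

namespace Cfsg.Agent.Omega.Shadow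

open Subgroup Cfsg Cfsg.Agent.ZN Cfsg.Agent.MinSimple.VModule
open Cfsg.Agent.Co2Type.Quad

universe u

variable {G : Type u} [Group G]

/-- (A2+) no self-centralising abelian subgroup of `Q` containing `z`, `x` is invariant under the stabiliser of
`x⟨z⟩`. -/
def NoMax (Q : Subgroup G) (z x : G) : Prop :=
  ∀ U : Subgroup G, U ≤ Q → z ∈ U → x ∈ U → (∀ u ∈ U, ∀ v ∈ U, u * v = v * u) →
    (∀ y ∈ Q, (∀ u ∈ U, y * u = u * y) → y ∈ U) →
    (∀ g, Stab z x g → ∀ u ∈ U, g * u * g⁻¹ ∈ U) → False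

section

variable {Q : Subgroup G} {z x : G}

/-- **LEMMA SH+.** -/
theorem false_of_shadow_max [Finite G] (h : Large Q z) (hx : x ∈ Q) (hx2 : x * x = 1) (hx1 : x ≠ 1)
    (hxz : x ≠ z)
    (hX : ∃ e ∈ Q, ∃ f ∈ Q, e * x = x * e ∧ f * x = x * f ∧ e * f ≠ f * e)
    (hC : centralizer ({x} : Set G) ⊓ centralizer (o2 (centralizer ({x} : Set G)) : Set G) ≤
      o2 (centralizer ({x} : Set G)))
    {t : G} (htx : t * x = x * t) (hta : t * z * t⁻¹ ∈ Q) (htz : t * z * t⁻¹ ≠ z)
    (htxz : t * z * t⁻¹ ≠ x * z) (hA1 : NoTwo Q z x) (hA2 : NoMax Q z x) : False := by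
  classical
  have h2f : Fact (Nat.Prime 2) := ⟨Nat.prime_two⟩
  obtain ⟨e, he, f, hf, hex, hfx, hef⟩ := hX
  set Y : Subgroup G := centralizer ({x} : Set G) with hY
  set R : Subgroup G := o2 Y with hR
  have memY : ∀ {g : G}, g ∈ Y ↔ g * x = x * g := fun {g} => mem_centralizer_singleton_iff
  set X : Subgroup G := Q ⊓ Y with hXdef
  have hRY : R ≤ Y := o2_le Y
  have hYR : Y ≤ normalizer (R : Set G) := le_normalizer_o2 Y
  have hR2 : IsPGroup 2 R := o2_isPGroup Y
  have hQ2 : IsPGroup 2 Q := by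
    intro y
    refine ⟨2, ?_⟩
    apply Subtype.ext
    show ((y : G)) ^ (2 ^ 2) = 1
    have : (y : G) ^ (2 ^ 2) = (y * y) * (y * y) := by
      rw [show (2 ^ 2 : ℕ) = 2 * 2 from rfl, pow_mul, pow_two, pow_two]
    rw [this]
    rcases h.sq y y.2 with h1 | h1 <;> rw [h1]
    · rw [one_mul]
    · exact h.z_sq
  have hxR : x ∈ R := by
    have h1 : zpowers x ≤ o2 Y := by
      refine le_o2 ?_ (Cfsg.Agent.MinSimple.Basic.isPGroup_zpowers (by rw [pow_two]; exact hx2)) ?_
      · rw [zpowers_le]; exact memY.2 rfl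
      · intro g hg
        have hgx := memY.1 hg
        rw [mem_normalizer_iff]
        intro y
        have hc : ∀ n : ℤ, g * x ^ n * g⁻¹ = x ^ n := by
          intro n
          have : Commute g x := hgx
          rw [(this.zpow_right n).eq]; group
        constructor
        · rintro ⟨n, rfl⟩
          exact ⟨n, (hc n).symm⟩
        · rintro ⟨n, hn⟩
          refine ⟨n, ?_⟩
          have h3 := hc n
          have h4 : g * x ^ n * g⁻¹ = g * y * g⁻¹ := h3.trans hn
          exact mul_left_cancel (mul_right_cancel h4)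
    exact h1 (mem_zpowers x)
  have hzY : z ∈ Y := memY.2 (h.comm_z x hx).symm
  have heX : e ∈ X := ⟨he, memY.2 hex⟩
  have hfX : f ∈ X := ⟨hf, memY.2 hfx⟩
  -- `y ∈ Q` satisfies `Stab`
  have hstQ : ∀ y ∈ Q, Stab z x y := by
    intro y hy
    refine ⟨h.comm_z y hy, ?_⟩
    rcases h.comm y hy x hx with h1 | h1
    · left; rw [h1]; group
    · right
      have h2 := h.comm_z y hy
      calc y * x * y⁻¹ = x * (y * z) * y⁻¹ := by rw [h1]; group
        _ = x * z := by rw [h2]; group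
  -- the stabiliser is `Q C_Y(z)`
  obtain ⟨q₀, hq₀, hq₀x⟩ := exists_fuse h hx hx1 hxz
  have hdec : ∀ g, Stab z x g → ∃ q ∈ Q, ∃ c : G, c * z = z * c ∧ c * x = x * c ∧ q * c = g := by
    intro g hg
    rcases hg.2 with h1 | h1
    · exact ⟨1, one_mem _, g, hg.1, mul_inv_eq_iff_eq_mul.1 h1, one_mul _⟩
    · refine ⟨q₀, hq₀, q₀⁻¹ * g, ?_, ?_, by group⟩
      · have h2 := h.comm_z q₀ hq₀
        have h3 : Commute q₀⁻¹ z := (show Commute q₀ z from h2).inv_left
        have h4 : Commute g z := hg.1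
        exact (h3.mul_left h4).eq
      · have h2 : (q₀⁻¹ * g) * x * (q₀⁻¹ * g)⁻¹ = x := by
          calc (q₀⁻¹ * g) * x * (q₀⁻¹ * g)⁻¹ = q₀⁻¹ * (g * x * g⁻¹) * q₀ := by group
            _ = q₀⁻¹ * (q₀ * x * q₀⁻¹) * q₀ := by rw [h1, hq₀x]
            _ = x := by group
        exact mul_inv_eq_iff_eq_mul.1 h2
  -- `F = C_R(z) ≤ Q`
  have hF : ∀ r ∈ R, r * z = z * r → r ∈ Q := by
    set F : Subgroup G := R ⊓ centralizer ({z} : Set G) with hFdef
    have hFz : ∀ {r : G}, r ∈ F ↔ r ∈ R ∧ r * z = z * r := fun {r} => by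
      rw [hFdef, mem_inf, mem_centralizer_singleton_iff]
    -- `F Q`
    have hQF : ∀ q ∈ F, ∀ y ∈ Q, q * y * q⁻¹ ∈ Q := fun q hq y hy => h.conj_mem q (hFz.1 hq).2 y hy
    have hFnQ : F ≤ normalizer (Q : Set G) := by
      intro q hq
      rw [mem_normalizer_iff]
      intro y
      constructor
      · exact hQF q hq y
      · intro hy
        have := hQF q⁻¹ (inv_mem hq) _ hy
        have e1 : q⁻¹ * (q * y * q⁻¹) * q⁻¹⁻¹ = y := by group
        rwa [e1] at this
    have hU2 : IsPGroup 2 (F ⊔ Q : Subgroup G) :=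
      IsPGroup.to_sup_of_normal_right' (hR2.to_le inf_le_left) hQ2 hFnQ
    have hmem : ∀ {u : G}, u ∈ F ⊔ Q → ∃ q ∈ F, ∃ y ∈ Q, q * y = u := by
      intro u hu
      have h1 : u ∈ ((F ⊔ Q : Subgroup G) : Set G) := hu
      rw [coe_mul_of_left_le_normalizer_right F Q hFnQ] at h1
      obtain ⟨q, hq, y, hy, hqy⟩ := h1
      exact ⟨q, hq, y, hy, hqy⟩
    have hconjF : ∀ c : G, c * z = z * c → c * x = x * c → ∀ r ∈ F, c * r * c⁻¹ ∈ F := by
      intro c hcz hcx r hr
      have h1 := hFz.1 hr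
      refine hFz.2 ⟨(mem_normalizer_iff.1 (hYR (memY.2 hcx)) r).1 h1.1, ?_⟩
      have h2 : Commute c z := hcz
      have h3 : Commute r z := h1.2
      exact ((h2.mul_left h3).mul_left h2.inv_left).eq
    have hle : F ⊔ Q ≤ Q := by
      refine hA1 (F ⊔ Q) hU2 le_sup_right ?_ ?_
      · intro u hu
        obtain ⟨q, hq, y, hy, rfl⟩ := hmem hu
        have h1 := hFz.1 hq
        have h2 := hstQ y hy
        have h3 : q * x = x * q := memY.1 (hRY h1.1)
        have h4 : Commute q z := h1.2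
        have h5 : Commute y z := h2.1
        refine ⟨(h4.mul_left h5).eq, ?_⟩
        have h6 : q * y * x * (q * y)⁻¹ = q * (y * x * y⁻¹) * q⁻¹ := by group
        rw [h6]
        rcases h2.2 with h7 | h7 <;> rw [h7]
        · left; rw [h3]; group
        · right
          calc q * (x * z) * q⁻¹ = (q * x) * z * q⁻¹ := by group
            _ = x * (q * z) * q⁻¹ := by rw [h3]; group
            _ = x * z := by rw [h4.eq]; group
      · intro g hg u hu
        obtain ⟨q, hq, c, hcz, hcx, rfl⟩ := hdec g hg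
        obtain ⟨r, hr, y, hy, rfl⟩ := hmem hu
        have h1 : c * r * c⁻¹ ∈ F := hconjF c hcz hcx r hr
        have h2 : c * y * c⁻¹ ∈ Q := h.conj_mem c hcz y hy
        have h3 : q * c * (r * y) * (q * c)⁻¹ = q * ((c * r * c⁻¹) * (c * y * c⁻¹)) * q⁻¹ := by
          group
        rw [h3]
        have hq' : q ∈ F ⊔ Q := (le_sup_right : Q ≤ F ⊔ Q) hq
        exact mul_mem (mul_mem hq' (mul_mem ((le_sup_left : F ≤ F ⊔ Q) h1)
          ((le_sup_right : Q ≤ F ⊔ Q) h2))) (inv_mem hq')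
    intro r hr hrz
    exact hle ((le_sup_left : F ≤ F ⊔ Q) (hFz.2 ⟨hr, hrz⟩))
  -- `R ≤ X`
  have hX2 : IsPGroup 2 X := hQ2.to_le inf_le_left
  have hXnR : X ≤ normalizer (R : Set G) := inf_le_right.trans hYR
  have hRX2 : IsPGroup 2 (X ⊔ R : Subgroup G) := IsPGroup.to_sup_of_normal_right' hX2 hR2 hXnR
  have hRQ : R ≤ X := by
    by_contra hcon
    have hlt : X < X ⊔ R := lt_of_le_of_ne le_sup_left fun h' => hcon (h' ▸ le_sup_right)
    obtain ⟨g, hg, hgX, hgn⟩ :=
      Cfsg.Agent.Involutions.BaerSuzuki.exists_mem_normalizer_of_lt hRX2 hlt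
    have h1 : g ∈ ((X ⊔ R : Subgroup G) : Set G) := hg
    rw [coe_mul_of_left_le_normalizer_right X R hXnR] at h1
    obtain ⟨y, hy, r, hr, hyr⟩ := h1
    have hyr : y * r = g := hyr
    have hrn : ∀ w ∈ X, r * w * r⁻¹ ∈ X := by
      intro w hw
      have h2 := (mem_normalizer_iff.1 hgn w).1 hw
      have h3 : r * w * r⁻¹ = y⁻¹ * (g * w * g⁻¹) * y := by rw [← hyr]; group
      rw [h3]
      exact mul_mem (mul_mem (inv_mem hy) h2) hy
    have h4 := comm_z_of_normalizes h (X := X) inf_le_left heX hfX hef hrn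
    have h5 : r ∈ X := ⟨hF r hr h4, hRY hr⟩
    exact hgX (hyr ▸ mul_mem hy h5)
  by_cases hab : ∀ r ∈ R, ∀ s ∈ R, r * s = s * r
  · -- `R` abelian: `R` is a maximal abelian subgroup of `Q`
    have hRQ' : R ≤ Q := hRQ.trans inf_le_left
    have hcR : ∀ c : G, c * x = x * c → ∀ r ∈ R, c * r * c⁻¹ ∈ R := fun c hcx r hr =>
      (mem_normalizer_iff.1 (hYR (memY.2 hcx)) r).1 hr
    have hself : ∀ y ∈ Q, (∀ u ∈ R, y * u = u * y) → y ∈ R := by
      intro y hy hyR
      refine hC (mem_inf.2 ⟨memY.2 (hyR x hxR), mem_centralizer_iff.2 ?_⟩)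
      intro r hr
      exact (hyR r hr).symm
    have hzR : z ∈ R := hself z h.z_mem fun u hu => (h.comm_z u (hRQ' hu)).symm
    refine hA2 R hRQ' hzR hxR hab hself fun g hg u hu => ?_
    obtain ⟨q, hq, c, hcz, hcx, rfl⟩ := hdec g hg
    have h1 : c * u * c⁻¹ ∈ R := hcR c hcx u hu
    have h2 : q * c * u * (q * c)⁻¹ = q * (c * u * c⁻¹) * q⁻¹ := by group
    rw [h2]
    rcases h.comm q hq _ (hRQ' h1) with h3 | h3
    · rw [h3, mul_assoc, mul_inv_cancel, mul_one]; exact h1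
    · have h4 : q * (c * u * c⁻¹) * q⁻¹ = c * u * c⁻¹ * z := by
        rw [h3]
        have a1 := h.comm_z q hq
        calc c * u * c⁻¹ * q * z * q⁻¹ = c * u * c⁻¹ * (q * z) * q⁻¹ := by group
          _ = c * u * c⁻¹ * z := by rw [a1]; group
      rw [h4]
      exact mul_mem h1 hzR
  · push Not at hab
    obtain ⟨r, hr, s, hs, hrs⟩ := hab
    have hYz : ∀ y ∈ Y, y * z = z * y := fun y hy =>
      comm_z_of_normalizes h (X := R) (hRQ.trans inf_le_left) hr hs hrs
        fun w hw => (mem_normalizer_iff.1 (hYR hy) w).1 hw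
    obtain ⟨e', he', h1, h2⟩ := exists_not_comm h hx hta
      (fun h' => h.z_ne (by
        have : z = t⁻¹ * (t * z * t⁻¹) * t := by group
        rw [this, h']; group))
      htz (fun h' => hxz (by
        have h3 : z = t⁻¹ * (t * z * t⁻¹) * t := by group
        rw [h3, h']
        calc x = t⁻¹ * (t * x) := by group
          _ = t⁻¹ * x * t := by rw [htx]; group)) htxz
    apply h2
    have h3 : t⁻¹ * e' * t ∈ Y := by
      have a1 : Commute t x := htx
      have a2 : Commute e' x := h1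
      exact memY.2 ((a1.inv_left.mul_left a2).mul_left a1).eq
    have h4 := hYz _ h3
    calc e' * (t * z * t⁻¹) = t * ((t⁻¹ * e' * t) * z) * t⁻¹ := by group
      _ = t * (z * (t⁻¹ * e' * t)) * t⁻¹ := by rw [h4]
      _ = t * z * t⁻¹ * e' := by group

/-- **LEMMA SH+**, `G` of characteristic 2 type, `t : z ↦ a ↦ a z` (as in `LargeExtra.Base.Pair.cycle`). -/
theorem false_of_cycle_max [Finite G] (hG : IsCharacteristicTwoType G) (h : Large Q z)
    (hcard : 8 < Nat.card Q) (hx : x ∈ Q) (hx2 : x * x = 1) (hx1 : x ≠ 1) (hxz : x ≠ z)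
    {t a : G} (htx : t * x = x * t) (hta : t * z * t⁻¹ = a) (haQ : a ∈ Q) (haz : a ≠ z)
    (hcyc : t * a * t⁻¹ = a * z) (hA1 : NoTwo Q z x) (hA2 : NoMax Q z x) : False := by
  subst hta
  refine false_of_shadow_max h hx hx2 hx1 hxz (exists_nonab h hx hx2 hx1 hxz hcard)
    (MinSimple.Basic.char2_centralizer hG (by rw [pow_two]; exact hx2) hx1) htx haQ haz
    (fun h1 => hxz ?_) hA1 hA2
  rw [h1] at hcyc
  have h2 : t * (x * z) * t⁻¹ = x * (t * z * t⁻¹) := by
    calc t * (x * z) * t⁻¹ = (t * x) * z * t⁻¹ := by group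
      _ = x * (t * z * t⁻¹) := by rw [htx]; group
  rw [h2, h1] at hcyc
  -- `x (x z) = x z z`
  have h3 : x * (x * z) = x * (z * z) := by rw [hcyc]; group
  exact mul_right_cancel (mul_left_cancel h3)

end

end Cfsg.Agent.Omega.Shadow
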