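import Mathlib

/-!
# LEMMA WR2 (helper247, bb OMEGA #11439; Lean by helper602)

`H` a group with a normal 2-subgroup `W`, `C_H(W) ≤ W`. Two sides `(S_i, E_i, Z_i, V_i)` in `H`: `S_i` a 2-subgroup with
`|T| ≤ 2|S_i|` for every 2-subgroup `T` of `H`, `S_i` Sylow in `⟨E_i, S_i⟩`, `Z_i` centralises `S_i` and
`V_i ≤ ⟨Z_i ^ ⟨E_i, S_i⟩⟩`. `R := [V_1, V_2] ≠ 1`, `R ≤ V_1 ∩ V_2`;
(a) `V_1 ≤ S_2` or `|V_1 : C_{V_1}(V_2)| > 2`, and the same with 1, 2 exchanged;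
(b) some `U_1 ≤ ⟨R ^ H⟩` satisfies `[U_1, V_2] ≠ 1`, and `U_1 ≤ S_2` or `|U_1 : C_{U_1}(V_2)| > 2`.
Then `False` (`wr2`). `H`, `W` and the sides are subgroups of an ambient group `G`.
-/

set_option autoImplicit false

namespace Cfsg.Agent.Omega.WR2

open Subgroup
open scoped commutatorElement

variable {G : Type*} [Group G]

/-- One side of the configuration. -/
structure Side (H S E Z V : Subgroup G) : Prop where
  SH : S ≤ H
  EH : E ≤ H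
  VH : V ≤ H
  pgroup : IsPGroup 2 S
  /-- `|H|_2 ≤ 2|S|` -/
  card_le : ∀ T : Subgroup G, T ≤ H → IsPGroup 2 T → Nat.card T ≤ 2 * Nat.card S
  /-- `S` is a Sylow 2-subgroup of `⟨E, S⟩` -/
  sylow : ∀ T : Subgroup G, IsPGroup 2 T → S ≤ T → T ≤ E ⊔ S → T ≤ S
  cent : ∀ z ∈ Z, ∀ s ∈ S, z * s = s * z
  gen : V ≤ closure {x : G | ∃ e ∈ E ⊔ S, ∃ z ∈ Z, x = e * z * e⁻¹}

section Side

variable {H W S E Z V : Subgroup G}

/-- `|W : W ∩ S| ≤ 2` -/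
theorem Side.relIndex_le [Finite G] (h : Side H S E Z V) (hWH : W ≤ H)
    (hHW : H ≤ normalizer (W : Set G)) (hW : IsPGroup 2 W) : S.relIndex W ≤ 2 := by
  have h1 : IsPGroup 2 (S ⊔ W : Subgroup G) :=
    IsPGroup.to_sup_of_normal_right' h.pgroup hW (h.SH.trans hHW)
  have h2 := h.card_le _ (sup_le h.SH hWH) h1
  have h3 : Nat.card S * S.relIndex (S ⊔ W) = Nat.card (S ⊔ W : Subgroup G) := by
    have := Subgroup.card_mul_index (S.subgroupOf (S ⊔ W))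
    rwa [Nat.card_congr (Subgroup.subgroupOfEquivOfLe (le_sup_left : S ≤ S ⊔ W)).toEquiv] at this
  have h4 : S.relIndex W ≤ S.relIndex (S ⊔ W) :=
    relIndex_le_of_le_right le_sup_right index_ne_zero_of_finite
  have h5 : 0 < Nat.card S := Nat.card_pos
  have h6 : S.relIndex (S ⊔ W) ≤ 2 := by
    by_contra hne
    push Not at hne
    nlinarith
  exact h4.trans h6

/-- `W ∩ ⟨E, S⟩ = W ∩ S` -/
theorem Side.inf_le (h : Side H S E Z V) (hHW : H ≤ normalizer (W : Set G)) (hW : IsPGroup 2 W) :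
    W ⊓ (E ⊔ S) ≤ S := by
  have h1 : IsPGroup 2 (S ⊔ W ⊓ (E ⊔ S) : Subgroup G) := by
    refine IsPGroup.to_sup_of_normal_right' h.pgroup (hW.to_le inf_le_left) ?_
    intro s hs
    have hsW := mem_normalizer_iff.mp (hHW (h.SH hs))
    have hsE : s ∈ E ⊔ S := mem_sup_right hs
    refine mem_normalizer_iff.mpr fun x => ⟨fun hx => ⟨(hsW x).mp hx.1, ?_⟩, fun hx => ⟨(hsW x).mpr hx.1, ?_⟩⟩
    · exact (E ⊔ S).mul_mem ((E ⊔ S).mul_mem hsE hx.2) ((E ⊔ S).inv_mem hsE)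
    · have := (E ⊔ S).mul_mem ((E ⊔ S).mul_mem ((E ⊔ S).inv_mem hsE) hx.2) hsE
      have e : s⁻¹ * (s * x * s⁻¹) * s = x := by group
      rwa [e] at this
  exact le_sup_right.trans (h.sylow _ h1 le_sup_left (sup_le le_sup_right inf_le_right))

/-- `V` centralises `W ∩ S` -/
theorem Side.comm (h : Side H S E Z V) (hHW : H ≤ normalizer (W : Set G)) (hW : IsPGroup 2 W)
    {v c : G} (hv : v ∈ V) (hcW : c ∈ W) (hcS : c ∈ S) : v * c = c * v := by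
  have h1 : V ≤ centralizer ((W ⊓ S : Subgroup G) : Set G) := by
    refine h.gen.trans ((closure_le _).mpr ?_)
    rintro x ⟨e, he, z, hz, rfl⟩
    rw [SetLike.mem_coe, mem_centralizer_iff]
    intro d hd
    have heH : e ∈ H := (sup_le h.EH h.SH) he
    have h2 : e⁻¹ * d * e ∈ W := by
      have := (mem_normalizer_iff.mp (hHW (inv_mem heH)) d).mp hd.1
      rwa [inv_inv] at this
    have h3 : e⁻¹ * d * e ∈ S := h.inf_le hHW hW
      ⟨h2, (E ⊔ S).mul_mem ((E ⊔ S).mul_mem ((E ⊔ S).inv_mem he) (mem_sup_right hd.2)) he⟩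
    have h4 := h.cent z hz _ h3
    calc d * (e * z * e⁻¹) = e * ((e⁻¹ * d * e) * z) * e⁻¹ := by group
      _ = e * (z * (e⁻¹ * d * e)) * e⁻¹ := by rw [h4]
      _ = e * z * e⁻¹ * d := by group
  exact (mem_centralizer_iff.mp (h1 hv) c ⟨hcW, hcS⟩).symm

end Side

/-- `A ≤ W`, `|W : W ∩ S| ≤ 2`, `X` centralises `W ∩ S`, `A ≤ S` or `|A : C_A(X)| > 2`: then `[A, X] = 1` -/
theorem commutator_eq_bot [Finite G] {W S A X : Subgroup G} (hA : A ≤ W) (hi : S.relIndex W ≤ 2)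
    (hX : ∀ x ∈ X, ∀ c ∈ W, c ∈ S → x * c = c * x)
    (ha : A ≤ S ∨ 2 < (centralizer (X : Set G)).relIndex A) : ⁅A, X⁆ = ⊥ := by
  rcases ha with ha | ha
  · rw [commutator_eq_bot_iff_le_centralizer]
    intro a haA
    rw [mem_centralizer_iff]
    intro x hx
    exact hX x hx a (hA haA) (ha haA)
  · exfalso
    have h1 : (A ⊓ S : Subgroup G) ≤ centralizer (X : Set G) := by
      intro a haA
      rw [mem_centralizer_iff]
      intro x hx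
      exact hX x hx a (hA haA.1) haA.2
    have h2 : (centralizer (X : Set G)).relIndex A ≤ S.relIndex A := by
      rw [← inf_relIndex_left A S]
      exact relIndex_le_of_le_left h1 index_ne_zero_of_finite
    have h3 : S.relIndex A ≤ S.relIndex W := relIndex_le_of_le_right hA index_ne_zero_of_finite
    omega

/-- `V₁` and `V₂` normalise `W` and centralise a subgroup `W ∩ S` of index 2 of `W`: then `[V₁, V₂]` centralises `W` -/
theorem commutator_le_centralizer {W S V₁ V₂ : Subgroup G} (hi : S.relIndex W = 2)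
    (hn1 : V₁ ≤ normalizer (W : Set G)) (hn2 : V₂ ≤ normalizer (W : Set G))
    (hc1 : ∀ x ∈ V₁, ∀ c ∈ W, c ∈ S → x * c = c * x)
    (hc2 : ∀ x ∈ V₂, ∀ c ∈ W, c ∈ S → x * c = c * x) : ⁅V₁, V₂⁆ ≤ centralizer (W : Set G) := by
  have h2 : ∀ a ∈ W, ∀ b ∈ W, a * b ∈ S ↔ (a ∈ S ↔ b ∈ S) := fun a ha b hb =>
    mul_mem_iff_of_index_two (H := S.subgroupOf W) hi (a := ⟨a, ha⟩) (b := ⟨b, hb⟩)
  -- `v w v⁻¹ = w c` with `c = w⁻¹ v w v⁻¹` in `W ∩ S`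
  have key : ∀ v : G, v ∈ normalizer (W : Set G) → (∀ c ∈ W, c ∈ S → v * c = c * v) → ∀ w ∈ W,
      w⁻¹ * (v * w * v⁻¹) ∈ W ∧ w⁻¹ * (v * w * v⁻¹) ∈ S ∧
        ∀ x ∈ W, x ∈ S → w⁻¹ * (v * w * v⁻¹) * x = x * (w⁻¹ * (v * w * v⁻¹)) := by
    intro v hv hvc w hw
    have hvw : v * w * v⁻¹ ∈ W := (mem_normalizer_iff.mp hv w).mp hw
    refine ⟨mul_mem (inv_mem hw) hvw, ?_, ?_⟩
    · rw [h2 _ (inv_mem hw) _ hvw, inv_mem_iff]
      refine ⟨fun h => ?_, fun h => ?_⟩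
      · rw [hvc w hw h, mul_inv_cancel_right]
        exact h
      · have h3 := hvc _ hvw h
        have h4 : w = v * w * v⁻¹ := by
          calc w = v⁻¹ * (v * w * v⁻¹ * v) := by group
            _ = v⁻¹ * (v * (v * w * v⁻¹)) := by rw [h3]
            _ = v * w * v⁻¹ := by group
        rw [h4]
        exact h
    · intro x hx hxS
      have hy : w * x * w⁻¹ ∈ W := mul_mem (mul_mem hw hx) (inv_mem hw)
      have hyS : w * x * w⁻¹ ∈ S := by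
        rw [h2 _ (mul_mem hw hx) _ (inv_mem hw), h2 _ hw _ hx, inv_mem_iff]
        tauto
      have h3 := hvc x hx hxS
      have h4 := hvc _ hy hyS
      calc w⁻¹ * (v * w * v⁻¹) * x = w⁻¹ * (v * w * (v⁻¹ * (x * v) * v⁻¹)) := by group
        _ = w⁻¹ * (v * w * (v⁻¹ * (v * x) * v⁻¹)) := by rw [h3]
        _ = w⁻¹ * ((v * (w * x * w⁻¹)) * (w * v⁻¹)) := by group
        _ = w⁻¹ * (((w * x * w⁻¹) * v) * (w * v⁻¹)) := by rw [h4]
        _ = x * (w⁻¹ * (v * w * v⁻¹)) := by group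
  refine commutator_le.mpr fun v hv u hu => ?_
  -- `v u` and `u v` act in the same way on `W`
  have h3 : ∀ w ∈ W, v * u * w * (v * u)⁻¹ = u * v * w * (u * v)⁻¹ := by
    intro w hw
    obtain ⟨a1, a2, a3⟩ := key v (hn1 hv) (hc1 v hv) w hw
    obtain ⟨b1, b2, b3⟩ := key u (hn2 hu) (hc2 u hu) w hw
    have e1 := hc1 v hv _ b1 b2
    have e2 := hc2 u hu _ a1 a2
    have e3 := a3 _ b1 b2
    generalize hcv : w⁻¹ * (v * w * v⁻¹) = cv at *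
    generalize hcu : w⁻¹ * (u * w * u⁻¹) = cu at *
    have f1 : v * w * v⁻¹ = w * cv := by rw [← hcv]; group
    have f2 : u * w * u⁻¹ = w * cu := by rw [← hcu]; group
    calc v * u * w * (v * u)⁻¹ = v * (u * w * u⁻¹) * v⁻¹ := by group
      _ = v * w * v⁻¹ * (v * cu) * v⁻¹ := by rw [f2]; group
      _ = v * w * v⁻¹ * (cu * v) * v⁻¹ := by rw [e1]
      _ = (v * w * v⁻¹) * cu := by group
      _ = w * (cv * cu) := by rw [f1]; group
      _ = w * (cu * cv) := by rw [e3]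
      _ = (u * w * u⁻¹) * cv := by rw [f2]; group
      _ = u * w * u⁻¹ * (cv * u) * u⁻¹ := by group
      _ = u * w * u⁻¹ * (u * cv) * u⁻¹ := by rw [e2]
      _ = u * (w * cv) * u⁻¹ := by group
      _ = u * (v * w * v⁻¹) * u⁻¹ := by rw [f1]
      _ = u * v * w * (u * v)⁻¹ := by group
  rw [mem_centralizer_iff]
  intro w hw
  have huv : u * v ∈ normalizer (W : Set G) := mul_mem (hn2 hu) (hn1 hv)
  have h4 := h3 ((u * v)⁻¹ * w * (u * v)) (by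
    have := (mem_normalizer_iff.mp (inv_mem huv) w).mp hw
    rwa [inv_inv] at this)
  have h5 : u * v * ((u * v)⁻¹ * w * (u * v)) * (u * v)⁻¹ = w := by group
  rw [h5] at h4
  have h6 : ⁅v, u⁆ * w * ⁅v, u⁆⁻¹ = w := by
    rw [commutatorElement_def]
    calc v * u * v⁻¹ * u⁻¹ * w * (v * u * v⁻¹ * u⁻¹)⁻¹
        = v * u * ((u * v)⁻¹ * w * (u * v)) * (v * u)⁻¹ := by group
      _ = w := h4
  calc w * ⁅v, u⁆ = ⁅v, u⁆ * w * ⁅v, u⁆⁻¹ * ⁅v, u⁆ := by rw [h6]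
    _ = ⁅v, u⁆ * w := by group

/-- **LEMMA WR2** -/
theorem wr2 [Finite G] {H W : Subgroup G} (hWH : W ≤ H) (hHW : H ≤ normalizer (W : Set G))
    (hW : IsPGroup 2 W) (hC : H ⊓ centralizer (W : Set G) ≤ W)
    {S₁ E₁ Z₁ V₁ S₂ E₂ Z₂ V₂ U₁ : Subgroup G}
    (h₁ : Side H S₁ E₁ Z₁ V₁) (h₂ : Side H S₂ E₂ Z₂ V₂)
    (hR1 : ⁅V₁, V₂⁆ ≤ V₁) (hR2 : ⁅V₁, V₂⁆ ≤ V₂) (hR : ⁅V₁, V₂⁆ ≠ ⊥)
    (ha1 : V₁ ≤ S₂ ∨ 2 < (centralizer (V₂ : Set G)).relIndex V₁)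
    (ha2 : V₂ ≤ S₁ ∨ 2 < (centralizer (V₁ : Set G)).relIndex V₂)
    (hU : U₁ ≤ closure {x : G | ∃ h ∈ H, ∃ r ∈ ⁅V₁, V₂⁆, x = h * r * h⁻¹})
    (hUV : ⁅U₁, V₂⁆ ≠ ⊥) (hb : U₁ ≤ S₂ ∨ 2 < (centralizer (V₂ : Set G)).relIndex U₁) : False := by
  have hi1 := h₁.relIndex_le hWH hHW hW
  have hi2 := h₂.relIndex_le hWH hHW hW
  have hc1 : ∀ x ∈ V₁, ∀ c ∈ W, c ∈ S₁ → x * c = c * x := fun x hx c hc hcS => h₁.comm hHW hW hx hc hcS
  have hc2 : ∀ x ∈ V₂, ∀ c ∈ W, c ∈ S₂ → x * c = c * x := fun x hx c hc hcS => h₂.comm hHW hW hx hc hcS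
  -- (1)
  have two : ∀ S : Subgroup G, S.relIndex W ≤ 2 → ¬ W ≤ S → S.relIndex W = 2 := by
    intro S h1 h2
    have h3 : S.relIndex W ≠ 0 := index_ne_zero_of_finite
    have h4 : S.relIndex W ≠ 1 := fun h => h2 (relIndex_eq_one.mp h)
    omega
  have hW1 : ¬ W ≤ S₁ := fun hle => hR <| commutator_eq_bot
    (fun x hx => hC ⟨h₁.VH hx, mem_centralizer_iff.mpr fun c hc => (hc1 x hx c hc (hle hc)).symm⟩)
    hi2 hc2 ha1
  have hW2 : ¬ W ≤ S₂ := by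
    intro hle
    refine hR ?_
    rw [commutator_comm]
    exact commutator_eq_bot
      (fun x hx => hC ⟨h₂.VH hx, mem_centralizer_iff.mpr fun c hc => (hc2 x hx c hc (hle hc)).symm⟩)
      hi1 hc1 ha2
  replace hi1 := two S₁ hi1 hW1
  have hi2' := two S₂ hi2 hW2
  -- (2)
  have hRW : ¬ ⁅V₁, V₂⁆ ≤ centralizer (W : Set G) := by
    intro hle
    refine hUV (commutator_eq_bot (hU.trans ((closure_le _).mpr ?_)) hi2 hc2 hb)
    rintro x ⟨h, hh, r, hr, rfl⟩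
    exact (mem_normalizer_iff.mp (hHW hh) r).mp (hC ⟨h₁.VH (hR1 hr), hle hr⟩)
  obtain ⟨r, hr, hrW⟩ := Set.not_subset.mp hRW
  have hmem : ∀ S : Subgroup G, S.relIndex W = 2 → (∀ c ∈ W, c ∈ S → r * c = c * r) →
      ∀ c ∈ W, c ∈ S ↔ r * c = c * r := by
    intro S hS hcS c hc
    refine ⟨hcS c hc, fun h => ?_⟩
    by_contra hcn
    refine hrW ?_
    rw [SetLike.mem_coe, mem_centralizer_iff]
    intro w hw
    by_cases hwS : w ∈ S
    · exact (hcS w hw hwS).symm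
    · have h2 : c⁻¹ * w ∈ S := by
        have := mul_mem_iff_of_index_two (H := S.subgroupOf W) hS (a := ⟨c⁻¹, inv_mem hc⟩) (b := ⟨w, hw⟩)
        simp only [mem_subgroupOf, MulMemClass.mk_mul_mk, inv_mem_iff] at this
        rw [this]
        tauto
      have h3 := hcS _ (mul_mem (inv_mem hc) hw) h2
      calc w * r = c * ((c⁻¹ * w) * r) := by group
        _ = c * (r * (c⁻¹ * w)) := by rw [h3]
        _ = (c * r) * c⁻¹ * w := by group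
        _ = (r * c) * c⁻¹ * w := by rw [h]
        _ = r * w := by group
  have m1 := hmem S₁ hi1 (hc1 r (hR1 hr))
  have m2 := hmem S₂ hi2' (hc2 r (hR2 hr))
  exact hRW (commutator_le_centralizer hi1 (h₁.VH.trans hHW) (h₂.VH.trans hHW) hc1
    fun x hx c hc hcS => hc2 x hx c hc ((m2 c hc).mpr ((m1 c hc).mp hcS)))

/-- **LEMMA WR2**, the case `V₁ = ⟨R ^ E₁⟩` (for example `V₁` irreducible under `E₁`) -/
theorem wr2_irreducible [Finite G] {H W : Subgroup G} (hWH : W ≤ H) (hHW : H ≤ normalizer (W : Set G))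
    (hW : IsPGroup 2 W) (hC : H ⊓ centralizer (W : Set G) ≤ W)
    {S₁ E₁ Z₁ V₁ S₂ E₂ Z₂ V₂ : Subgroup G}
    (h₁ : Side H S₁ E₁ Z₁ V₁) (h₂ : Side H S₂ E₂ Z₂ V₂)
    (hR1 : ⁅V₁, V₂⁆ ≤ V₁) (hR2 : ⁅V₁, V₂⁆ ≤ V₂) (hR : ⁅V₁, V₂⁆ ≠ ⊥)
    (ha1 : V₁ ≤ S₂ ∨ 2 < (centralizer (V₂ : Set G)).relIndex V₁)
    (ha2 : V₂ ≤ S₁ ∨ 2 < (centralizer (V₁ : Set G)).relIndex V₂)
    (hU : V₁ ≤ closure {x : G | ∃ e ∈ E₁, ∃ r ∈ ⁅V₁, V₂⁆, x = e * r * e⁻¹}) : False :=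
  wr2 hWH hHW hW hC h₁ h₂ hR1 hR2 hR ha1 ha2
    (hU.trans (closure_mono fun _ ⟨e, he, r, hr, hx⟩ => ⟨e, h₁.EH he, r, hr, hx⟩)) hR ha1

/-- the hypothesis `card_le` of `Side` from the order of a Sylow 2-subgroup of `G` -/
theorem card_le_of_sylow [Finite G] {H S : Subgroup G} (P : Sylow 2 G) (h : Nat.card P ≤ 2 * Nat.card S) :
    ∀ T : Subgroup G, T ≤ H → IsPGroup 2 T → Nat.card T ≤ 2 * Nat.card S := by
  intro T _ hT
  obtain ⟨Q, hQ⟩ := hT.exists_le_sylow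
  have h1 : Nat.card T ≤ Nat.card Q := Subgroup.card_le_of_le hQ
  rw [Nat.card_congr (Sylow.equiv Q P).toEquiv] at h1
  exact h1.trans h

/-- a `Side` from `V = ⟨Z ^ E⟩` -/
theorem Side.mk' {H S E Z V : Subgroup G} (hSH : S ≤ H) (hEH : E ≤ H) (hVH : V ≤ H) (hS : IsPGroup 2 S)
    (hcard : ∀ T : Subgroup G, T ≤ H → IsPGroup 2 T → Nat.card T ≤ 2 * Nat.card S)
    (hsyl : ∀ T : Subgroup G, IsPGroup 2 T → S ≤ T → T ≤ E ⊔ S → T ≤ S)
    (hZ : Z ≤ centralizer (S : Set G)) (hV : V ≤ closure {x : G | ∃ e ∈ E, ∃ z ∈ Z, x = e * z * e⁻¹}) :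
    Side H S E Z V where
  SH := hSH
  EH := hEH
  VH := hVH
  pgroup := hS
  card_le := hcard
  sylow := hsyl
  cent _ hz s hs := (mem_centralizer_iff.mp (hZ hz) s hs).symm
  gen := hV.trans (closure_mono fun _ ⟨e, he, z, hz, hx⟩ => ⟨e, mem_sup_left he, z, hz, hx⟩)

end Cfsg.Agent.Omega.WR2
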